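import Cfsg.Prelude.Def_Local
import Cfsg.Agent.Lib.Cores.Basic
import Cfsg.Agent.S0205
import Cfsg.Agent.Lib.SEAbelian.ReduceTools

/-!
# Components of the involution centralisers modulo their odd cores

Interface of `notes/walter-plan-h16.md`: `A` is `Ω₁(S)`, `cov a` the preimages in `G` of the components of
`C(a) / O(C(a))`, and `bd a J` the part of `A` centralising `J` modulo the core.
-/

set_option autoImplicit false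
set_option linter.unusedSectionVars false
set_option linter.style.haveILetI false

open Subgroup
open scoped Pointwise

namespace Cfsg.Agent.Walter.Core

variable {G : Type*} [Group G]

/-- The odd core of a subgroup, as a subgroup of `G`. -/
def coreOf (X : Subgroup G) : Subgroup G := (Cfsg.oddCore ↥X).map X.subtype

/-- The odd core of the centralizer of `a`. -/
def oc (a : G) : Subgroup G := coreOf (centralizer ({a} : Set G))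

/-- The odd core of the centralizer of `A`. -/
def c0 (A : Subgroup G) : Subgroup G := coreOf (centralizer (A : Set G))

theorem coreOf_le (X : Subgroup G) : coreOf X ≤ X := map_subtype_le _

theorem oc_le (a : G) : oc a ≤ centralizer ({a} : Set G) := coreOf_le _

theorem c0_le (A : Subgroup G) : c0 A ≤ centralizer (A : Set G) := coreOf_le _

theorem odd_coreOf [Finite G] (X : Subgroup G) : Odd (Nat.card ↥(coreOf X)) :=
  Agent.Cores.oddCore_odd.of_dvd_nat (card_map_dvd _ _)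

theorem le_normalizer_coreOf (X : Subgroup G) : X ≤ normalizer (coreOf X : Set G) := by
  have key : ∀ g ∈ X, ∀ x ∈ coreOf X, g * x * g⁻¹ ∈ coreOf X := by
    rintro g hg _ ⟨y, hy, rfl⟩
    exact ⟨⟨g, hg⟩ * y * ⟨g, hg⟩⁻¹,
      (inferInstance : (Cfsg.oddCore ↥X).Normal).conj_mem _ hy _, rfl⟩
  intro g hg
  refine mem_normalizer_iff.2 fun x => ⟨key g hg x, fun hx => ?_⟩
  have := key g⁻¹ (inv_mem hg) _ hx
  simpa [mul_assoc] using this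

theorem le_coreOf [Finite G] {X N : Subgroup G} (hNX : N ≤ X) (hX : X ≤ normalizer (N : Set G))
    (hN : Odd (Nat.card ↥N)) : N ≤ coreOf X := by
  haveI : (N.subgroupOf X).Normal := normal_subgroupOf_of_le_normalizer hX
  have h : N.subgroupOf X ≤ Cfsg.oddCore ↥X := Agent.Cores.le_oddCore (by
    rwa [Nat.card_congr (subgroupOfEquivOfLe hNX).toEquiv])
  exact fun x hx => ⟨⟨x, hNX hx⟩, h hx, rfl⟩

/-- No torus and no field part: the component is `A₅`. -/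
def Flat (A : Subgroup G) (a : G) (J : Subgroup G) : Prop :=
  (∀ w ∈ A ⊓ J, w ≠ 1 → ∀ x ∈ J ⊓ centralizer ({w} : Set G), Odd (orderOf x) →
      ∀ v ∈ A, v * x * v⁻¹ = x⁻¹ → x ∈ oc a) ∧
    ∀ c ∈ c0 A, ∀ j ∈ J, c * j * c⁻¹ * j⁻¹ ∈ oc a

/-- The component is generated by the normalizer of the Sylow subgroup and its tori. -/
def GenTori (S : Subgroup G) (A : Subgroup G) (a : G) (J B : Subgroup G) : Prop :=
  J ≤ oc a ⊔ (J ⊓ normalizer (S : Set G)) ⊔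
    ⨆ w : {w : G // w ∈ A ⊓ J ∧ w ≠ 1}, J ⊓ centralizer ((B ⊔ zpowers (w : G) : Subgroup G) : Set G)

/-- `y` is inverted by an element of `A`, centralises the hyperplane `K` and lies in all its cores. -/
def Piece (A K : Subgroup G) (y : G) : Prop :=
  K ≤ A ∧ 2 * Nat.card ↥K = Nat.card ↥A ∧ y ∈ centralizer (K : Set G) ∧
    (∃ v ∈ A, v * y * v⁻¹ = y⁻¹) ∧ ∀ k ∈ K, k ≠ 1 → y ∈ oc k

/-- The subgroup generated by the inverted elements lying in all the cores of a hyperplane. -/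
def wInv (A : Subgroup G) : Subgroup G := closure {y | ∃ K : Subgroup G, Piece A K y}

/-- The signalizer. -/
def w0 (A : Subgroup G) : Subgroup G := wInv A ⊔ (c0 A ⊓ ⨅ a : {a : G // a ∈ A ∧ a ≠ 1}, oc (a : G))

theorem piece_mem_w0 {A K : Subgroup G} {y : G} (h : Piece A K y) : y ∈ w0 A :=
  mem_sup_left (subset_closure ⟨K, h⟩)

theorem eq_one_of_piece {A K : Subgroup G} {y : G} (h0 : w0 A = ⊥) (h : Piece A K y) : y = 1 :=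
  mem_bot.1 (h0 ▸ piece_mem_w0 h)

/-- What the proof of `O(C(a)) = 1` needs of the involution centralisers. -/
structure CoreSys (S : Sylow 2 G) (A : Subgroup G) (cov : G → Set (Subgroup G))
    (bd : G → Subgroup G → Subgroup G) : Prop where
  comm : ∀ x ∈ (S : Subgroup G), ∀ y ∈ (S : Subgroup G), x * y = y * x
  omega : ∀ x : G, x ∈ A ↔ x ∈ (S : Subgroup G) ∧ x * x = 1
  cov_le : ∀ a ∈ A, a ≠ 1 → ∀ J ∈ cov a, oc a ≤ J ∧ J ≤ centralizer ({a} : Set G)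
  cov_conj : ∀ a ∈ A, a ≠ 1 → ∀ g : G, g * a * g⁻¹ ∈ A → ∀ J ∈ cov a,
    MulAut.conj g • J ∈ cov (g * a * g⁻¹)
  bd_iff : ∀ a ∈ A, a ≠ 1 → ∀ J ∈ cov a, ∀ s : G,
    s ∈ bd a J ↔ s ∈ A ∧ ∀ j ∈ J, s * j * s⁻¹ * j⁻¹ ∈ oc a
  self : ∀ a ∈ A, a ≠ 1 → ∀ J ∈ cov a, a ∈ bd a J
  disj : ∀ a ∈ A, a ≠ 1 → ∀ J ∈ cov a, ∀ x ∈ A ⊓ J, x ∈ bd a J → x = 1
  span : ∀ a ∈ A, a ≠ 1 → ∀ J ∈ cov a, A ≤ (A ⊓ J) ⊔ bd a J
  four : ∀ a ∈ A, a ≠ 1 → ∀ J ∈ cov a, 4 ≤ Nat.card ↥(A ⊓ J)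
  orth : ∀ a ∈ A, a ≠ 1 → ∀ J ∈ cov a, ∀ J' ∈ cov a, J ≠ J' → A ⊓ J ≤ bd a J'
  /-- Different components commute modulo the core. -/
  commute : ∀ a ∈ A, a ≠ 1 → ∀ J ∈ cov a, ∀ J' ∈ cov a, J ≠ J' → ∀ x ∈ J, ∀ y ∈ J',
    x * y * x⁻¹ * y⁻¹ ∈ oc a
  torus : ∀ a ∈ A, a ≠ 1 → ∀ J ∈ cov a, ∀ u ∈ A ⊓ J, u ≠ 1 → ∀ v ∈ A ⊓ J, v ≠ 1 →
    ∃ n ∈ J ⊓ centralizer (bd a J : Set G), n ∈ normalizer ((S : Subgroup G) : Set G) ∧ n * u * n⁻¹ = v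
  lift : ∀ a ∈ A, a ≠ 1 → ∀ J ∈ cov a, J ≤ oc a ⊔ (J ⊓ centralizer (bd a J : Set G))
  frattini : ∀ a ∈ A, a ≠ 1 → centralizer ({a} : Set G) ≤
    oc a ⊔ (⨆ J ∈ cov a, J) ⊔ (centralizer ({a} : Set G) ⊓ normalizer ((S : Subgroup G) : Set G))
  grow : ∀ a ∈ A, a ≠ 1 → ∀ J ∈ cov a, ∀ b ∈ bd a J, b ≠ 1 → ∃ J' ∈ cov b,
    A ⊓ J ≤ A ⊓ J' ∧ bd b J' ≤ bd a J
  /-- Two-balance for the cores enlarged by `c0 A`. -/
  balance_two : ∀ E ≤ A, 4 ≤ Nat.card ↥E → ∀ a ∈ A, a ≠ 1 → ∀ x ∈ centralizer ({a} : Set G),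
    (∀ e ∈ E, e ≠ 1 → x ∈ oc e ⊔ c0 A) → x ∈ oc a ⊔ c0 A
  /-- The only failure of balance is a torus. -/
  bad : ∀ K ≤ A, 2 * Nat.card ↥K = Nat.card ↥A → ∀ a ∈ K, a ≠ 1 → ∀ b ∈ K, b ≠ 1 →
    ∀ y ∈ oc a, y ∈ centralizer (K : Set G) → ∀ v ∈ A, v * y * v⁻¹ = y⁻¹ → y ∉ oc b →
      ∃ J ∈ cov b, Nat.card ↥(A ⊓ J) = 4 ∧ bd b J ≤ K ∧ ¬ Flat A b J
  layer_fix : ∀ X : Subgroup G, X ≠ ⊤ → (S : Subgroup G) ≤ X → ∀ H : Subgroup G, H ≤ X →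
    (∀ H' : Subgroup G, H' ≤ X → X ≤ normalizer (H' : Set G) → (S : Subgroup G) ≤ H' → H ≤ H') →
    ∀ c ∈ H, c ∈ centralizer (A : Set G) → Odd (orderOf c) → c ∈ coreOf X
  fixed_core : ∀ B ≤ A, 8 ≤ Nat.card ↥B → ∀ c ∈ c0 A, (∀ b ∈ B, b ≠ 1 → c ∈ oc b) →
    ∀ a ∈ A, a ≠ 1 → c ∈ oc a
  fix_all : ∀ a ∈ A, a ≠ 1 → ∀ c ∈ c0 A, (∀ J ∈ cov a, ∀ j ∈ J, c * j * c⁻¹ * j⁻¹ ∈ oc a) → c ∈ oc a
  core_cent : ∀ B ≤ A, ∀ k ∈ A, k ≠ 1 → ∀ y ∈ coreOf (centralizer (B : Set G)),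
    y ∈ centralizer ({k} : Set G) → ∀ v ∈ A, v * y * v⁻¹ = y⁻¹ →
      (∀ J ∈ cov k, A ⊓ J ≤ B ∨ B ≤ bd k J) → y ∈ oc k
  small : ∀ a ∈ A, a ≠ 1 → ∀ J ∈ cov a, Nat.card ↥(A ⊓ J) = 4 →
    GenTori (S : Subgroup G) A a J (bd a J) ∨ Flat A a J

end Cfsg.Agent.Walter.Core
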