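import Cfsg.Agent.Lib.Walter.Core.Setting
import Cfsg.Agent.Lib.Walter.Setting
import Cfsg.Agent.Lib.Components.Hyperplane
import Cfsg.Agent.Lib.StronglyClosedFour.Basic

/-!
# Tools for the cores of the involution centralisers

Elementary consequences of `CoreSys`, hyperplanes of `A`, and odd `A`-invariant subgroups as generated by their
elements fixed by `A` and their inverted elements.
-/

set_option autoImplicit false
set_option linter.unusedSectionVars false
set_option linter.style.haveILetI false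

open Subgroup
open scoped Pointwise

namespace Cfsg.Agent.Walter.Core

universe u

variable {G : Type u} [Group G]

/-- It is enough to map a subgroup into itself. -/
theorem mem_normalizer_of_conj_le [Finite G] {H : Subgroup G} {g : G} (hg : ∀ x ∈ H, g * x * g⁻¹ ∈ H) :
    g ∈ normalizer (H : Set G) := by
  have hle : MulAut.conj g • H ≤ H := fun x hx => by
    have := hg _ (mem_conj.1 hx)
    simpa [mul_assoc] using this
  have he := eq_of_le_of_card_ge hle (Nat.card_congr (equivSMul (MulAut.conj g) H).toEquiv).le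
  refine mem_normalizer_iff.2 fun x => ⟨hg x, fun hx => ?_⟩
  rw [← he, mem_conj] at hx
  simpa [mul_assoc] using hx

theorem conj_le_of_le_normalizer {H X : Subgroup G} (h : X ≤ normalizer (H : Set G)) {g : G} (hg : g ∈ X)
    {x : G} (hx : x ∈ H) : g * x * g⁻¹ ∈ H :=
  (mem_normalizer_iff.1 (h hg) x).1 hx

/-- An element of odd order whose square lies in a subgroup lies in it. -/
theorem mem_of_sq [Finite G] {K : Subgroup G} {x : G} (ho : Odd (orderOf x)) (h : x * x ∈ K) : x ∈ K :=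
  Cfsg.Agent.SEAbelian.mem_of_parts (j := 1) ho (by rwa [pow_one, pow_two])
    (by rw [pow_orderOf_eq_one]; exact one_mem K)

theorem odd_orderOf_of_mem [Finite G] {X : Subgroup G} (hX : Odd (Nat.card ↥X)) {x : G} (hx : x ∈ X) :
    Odd (orderOf x) :=
  hX.of_dvd_nat (X.orderOf_dvd_natCard hx)

/-- An involution acting on an odd subgroup splits its elements. -/
theorem exists_fixed_mul_inverted [Finite G] {X : Subgroup G} (hX : Odd (Nat.card ↥X)) {v : G} (hv : v * v = 1)
    (hvX : v ∈ normalizer (X : Set G)) {x : G} (hx : x ∈ X) :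
    ∃ c ∈ X, ∃ y ∈ X, v * c * v⁻¹ = c ∧ v * y * v⁻¹ = y⁻¹ ∧ c * y = x := by
  set z := x⁻¹ * (v * x * v⁻¹) with hz
  have hzX : z ∈ X := mul_mem (inv_mem hx) ((mem_normalizer_iff.1 hvX x).1 hx)
  obtain ⟨k, hk⟩ := odd_orderOf_of_mem hX hzX
  have hzz : v * z * v⁻¹ = z⁻¹ := by
    rw [hz]
    calc v * (x⁻¹ * (v * x * v⁻¹)) * v⁻¹ = v * x⁻¹ * v⁻¹ * ((v * v) * x * (v * v)⁻¹) := by group
      _ = (x⁻¹ * (v * x * v⁻¹))⁻¹ := by rw [hv]; group
  set y := z ^ (k + 1)
  have hy2 : y * y = z := by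
    rw [← pow_add, show k + 1 + (k + 1) = 2 * k + 1 + 1 by omega, pow_succ, ← hk, pow_orderOf_eq_one, one_mul]
  have hy : v * y * v⁻¹ = y⁻¹ := by rw [← conj_pow, hzz, inv_pow]
  refine ⟨x * y, mul_mem hx (pow_mem hzX _), y⁻¹, inv_mem (pow_mem hzX _), ?_, ?_, mul_inv_cancel_right x y⟩
  · have hxz : v * x * v⁻¹ = x * z := by rw [hz]; group
    calc v * (x * y) * v⁻¹ = v * x * v⁻¹ * (v * y * v⁻¹) := by group
      _ = x * (y * y) * y⁻¹ := by rw [hy, hxz, hy2]
      _ = x * y := by group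
  · rw [inv_inv, ← inv_inj]
    calc (v * y⁻¹ * v⁻¹)⁻¹ = v * y * v⁻¹ := by group
      _ = y⁻¹ := hy

/-- An inverted product `o * c` with `c` fixed lies in the normal factor. -/
theorem mem_of_inverted_mul [Finite G] {N C : Subgroup G} (hC : Odd (Nat.card ↥C))
    (hCN : C ≤ normalizer (N : Set G)) {v : G} (hvN : v ∈ normalizer (N : Set G))
    (hvC : ∀ c ∈ C, v * c * v⁻¹ = c) {x : G} (hx : x ∈ N ⊔ C) (hinv : v * x * v⁻¹ = x⁻¹) : x ∈ N := by
  rw [← SetLike.mem_coe, coe_mul_of_right_le_normalizer_left N C hCN] at hx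
  obtain ⟨o, ho, c, hc, rfl⟩ := hx
  have h1 : v * o * v⁻¹ * c = c⁻¹ * o⁻¹ := by
    rw [← mul_inv_rev, ← hinv]
    conv_lhs => rw [← hvC c hc]
    group
  have ho' : v * o * v⁻¹ ∈ N := (mem_normalizer_iff.1 hvN o).1 ho
  have h2 : c * c ∈ N := by
    have h3 : c * (v * o * v⁻¹) * c⁻¹ ∈ N := conj_le_of_le_normalizer hCN hc ho'
    have h4 : c * (v * o * v⁻¹) * c⁻¹ * (c * c) = o⁻¹ := by
      calc c * (v * o * v⁻¹) * c⁻¹ * (c * c) = c * (v * o * v⁻¹ * c) := by group
        _ = o⁻¹ := by rw [h1, mul_inv_cancel_left]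
    have := mul_mem (inv_mem h3) (h4.symm ▸ inv_mem ho : c * (v * o * v⁻¹) * c⁻¹ * (c * c) ∈ N)
    simpa [mul_assoc] using this
  exact mul_mem ho (mem_of_sq (odd_orderOf_of_mem hC hc) h2)

/-- Two elements outside a subgroup of index two multiply into it. -/
theorem mul_mem_of_index_two {A K : Subgroup G} [Finite G] (hKA : K ≤ A) (h2 : 2 * Nat.card ↥K = Nat.card ↥A)
    {x y : G} (hx : x ∈ A) (hy : y ∈ A) (hxK : x ∉ K) (hyK : y ∉ K) : x * y ∈ K := by
  have hidx : (K.subgroupOf A).index = 2 := by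
    have h := (K.subgroupOf A).card_mul_index
    rw [Nat.card_congr (subgroupOfEquivOfLe hKA).toEquiv, ← h2, mul_comm 2] at h
    exact Nat.eq_of_mul_eq_mul_left Nat.card_pos h
  exact ((mul_mem_iff_of_index_two hidx (a := ⟨x, hx⟩) (b := ⟨y, hy⟩)).2
    (iff_of_false hxK hyK) : (⟨x, hx⟩ * ⟨y, hy⟩ : ↥A) ∈ K.subgroupOf A)

theorem exists_notMem [Finite G] {A K : Subgroup G} (h2 : 2 * Nat.card ↥K = Nat.card ↥A) :
    ∃ v ∈ A, v ∉ K := by
  by_contra hcon
  push Not at hcon
  have := card_le_of_le (show A ≤ K from hcon)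
  have := (Nat.card_pos : 0 < Nat.card ↥K)
  omega

theorem four_le_inf [Finite G] {A K B : Subgroup G} (hKA : K ≤ A) (h2 : 2 * Nat.card ↥K = Nat.card ↥A)
    (hB : B ≤ A) (h8 : 8 ≤ Nat.card ↥B) : 4 ≤ Nat.card ↥(K ⊓ B) := by
  classical
  by_cases hBK : B ≤ K
  · rw [inf_eq_right.2 hBK]
    omega
  obtain ⟨b, hb, hbK⟩ := SetLike.not_le_iff_exists.1 hBK
  have hsub : (B : Set G) ⊆ ((K ⊓ B : Subgroup G) : Set G) ∪
      (fun x => x * b⁻¹) '' ((K ⊓ B : Subgroup G) : Set G) := fun x hx => by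
    by_cases hxK : x ∈ K
    · exact Or.inl ⟨hxK, hx⟩
    · exact Or.inr ⟨x * b, ⟨mul_mem_of_index_two hKA h2 (hB hx) (hB hb) hxK hbK, mul_mem hx hb⟩,
        mul_inv_cancel_right x b⟩
  have h := (Set.ncard_le_ncard hsub (Set.toFinite _)).trans (Set.ncard_union_le _ _)
  have h' := Set.ncard_image_le (f := fun x => x * b⁻¹) (Set.toFinite ((K ⊓ B : Subgroup G) : Set G))
  have e1 : (B : Set G).ncard = Nat.card ↥B := rfl
  have e2 : ((K ⊓ B : Subgroup G) : Set G).ncard = Nat.card ↥(K ⊓ B) := rfl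
  omega

theorem exists_two [Finite G] {E : Subgroup G} (h4 : 4 ≤ Nat.card ↥E) (x : G) :
    ∃ e ∈ E, e ≠ 1 ∧ e ≠ x := by
  by_contra hcon
  push Not at hcon
  have hsub : (E : Set G) ⊆ {1, x} := fun y hy => by
    by_cases h1 : y = 1
    · exact Or.inl h1
    · exact Or.inr (hcon y hy h1)
  have h := Set.ncard_le_ncard hsub (Set.toFinite _)
  have h' : ({1, x} : Set G).ncard ≤ 2 := (Set.ncard_insert_le _ _).trans (by simp)
  have e : (E : Set G).ncard = Nat.card ↥E := rfl
  omega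

/-- Conjugation carries the core of a centralizer to the core of the conjugate centralizer. -/
theorem conj_mem_oc [Finite G] {a g x : G} (hx : x ∈ oc a) : g * x * g⁻¹ ∈ oc (g * a * g⁻¹) := by
  have h : MulAut.conj g • oc a ≤ oc (g * a * g⁻¹) := by
    refine le_coreOf (fun y hy => ?_) (fun c hc => mem_normalizer_of_conj_le fun y hy => ?_) ?_
    · have h1 := mem_centralizer_one.1 (oc_le a (mem_conj.1 hy))
      refine mem_centralizer_one.2 ?_
      calc y * (g * a * g⁻¹) = g * (g⁻¹ * y * g * a) * g⁻¹ := by group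
        _ = g * a * g⁻¹ * y := by rw [h1]; group
    · have hc' : g⁻¹ * c * g ∈ centralizer ({a} : Set G) := by
        refine mem_centralizer_one.2 ?_
        calc g⁻¹ * c * g * a = g⁻¹ * (c * (g * a * g⁻¹)) * g := by group
          _ = a * (g⁻¹ * c * g) := by rw [mem_centralizer_one.1 hc]; group
      have := conj_le_of_le_normalizer (le_normalizer_coreOf _) hc' (mem_conj.1 hy)
      rw [show g⁻¹ * c * g * (g⁻¹ * y * g) * (g⁻¹ * c * g)⁻¹ = g⁻¹ * (c * y * c⁻¹) * g by group] at this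
      exact mem_conj.2 this
    · rw [Nat.card_congr (equivSMul (MulAut.conj g) (oc a)).toEquiv.symm]
      exact odd_coreOf _
  exact h (conj_mem_conj hx)

theorem oc_conj_mem [Finite G] {a c x : G} (hc : c ∈ centralizer ({a} : Set G)) (hx : x ∈ oc a) :
    c * x * c⁻¹ ∈ oc a := by
  have := conj_mem_oc (g := c) hx
  rwa [mem_centralizer_one.1 hc, mul_inv_cancel_right] at this

theorem c0_conj_mem [Finite G] {A : Subgroup G} {g : G} (hg : g ∈ normalizer (A : Set G)) {x : G}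
    (hx : x ∈ c0 A) : g * x * g⁻¹ ∈ c0 A := by
  have hcc : ∀ g ∈ normalizer (A : Set G), ∀ y ∈ centralizer (A : Set G), g * y * g⁻¹ ∈ centralizer (A : Set G) := by
    intro g hg y hy
    refine mem_centralizer_comm.2 fun a ha => ?_
    have h1 := mem_centralizer_comm.1 hy _ ((mem_normalizer_iff''.1 hg a).1 ha)
    calc g * y * g⁻¹ * a = g * (y * (g⁻¹ * a * g)) * g⁻¹ := by group
      _ = a * (g * y * g⁻¹) := by rw [h1]; group
  have h : MulAut.conj g • c0 A ≤ c0 A := by
    refine le_coreOf (fun y hy => ?_) (fun c hc => mem_normalizer_of_conj_le fun y hy => ?_) ?_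
    · have := hcc g hg _ (c0_le A (mem_conj.1 hy))
      simpa [mul_assoc] using this
    · have hc' : g⁻¹ * c * g⁻¹⁻¹ ∈ centralizer (A : Set G) := hcc g⁻¹ (inv_mem hg) c hc
      rw [inv_inv] at hc'
      have := conj_le_of_le_normalizer (le_normalizer_coreOf _) hc' (mem_conj.1 hy)
      rw [show g⁻¹ * c * g * (g⁻¹ * y * g) * (g⁻¹ * c * g)⁻¹ = g⁻¹ * (c * y * c⁻¹) * g by group] at this
      exact mem_conj.2 this
    · rw [Nat.card_congr (equivSMul (MulAut.conj g) (c0 A)).toEquiv.symm]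
      exact odd_coreOf _
  exact h (conj_mem_conj hx)

namespace CoreSys

variable [Finite G] {S : Sylow 2 G} {A : Subgroup G} {cov : G → Set (Subgroup G)}
  {bd : G → Subgroup G → Subgroup G} (h : CoreSys S A cov bd)

include h

theorem A_le : A ≤ (S : Subgroup G) := fun x hx => ((h.omega x).1 hx).1

theorem A_sq {x : G} (hx : x ∈ A) : x * x = 1 := ((h.omega x).1 hx).2

theorem A_inv {x : G} (hx : x ∈ A) : x⁻¹ = x := inv_eq_of_mul_eq_one_right (h.A_sq hx)

theorem A_orderOf {x : G} (hx : x ∈ A) (hx1 : x ≠ 1) : orderOf x = 2 :=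
  orderOf_eq_prime (by rw [pow_two]; exact h.A_sq hx) hx1

theorem A_comm {x y : G} (hx : x ∈ A) (hy : y ∈ A) : x * y = y * x :=
  h.comm x (h.A_le hx) y (h.A_le hy)

theorem A_fix {x y : G} (hx : x ∈ A) (hy : y ∈ A) : x * y * x⁻¹ = y := by
  rw [h.A_comm hx hy, mul_inv_cancel_right]

theorem elementary : Cfsg.IsElementaryAbelian 2 A :=
  ⟨⟨⟨fun x y => Subtype.ext (h.A_comm x.2 y.2)⟩⟩, fun a ha => by rw [pow_two]; exact h.A_sq ha⟩

theorem S_le_cent {a : G} (ha : a ∈ A) : (S : Subgroup G) ≤ centralizer ({a} : Set G) := fun s hs =>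
  mem_centralizer_one.2 (h.comm s hs a (h.A_le ha))

theorem A_le_cent {a : G} (ha : a ∈ A) : A ≤ centralizer ({a} : Set G) := h.A_le.trans (h.S_le_cent ha)

theorem S_le_centA : (S : Subgroup G) ≤ centralizer (A : Set G) := fun s hs =>
  mem_centralizer_comm.2 fun a ha => h.comm s hs a (h.A_le ha)

theorem A_le_centA : A ≤ centralizer (A : Set G) := h.A_le.trans h.S_le_centA

theorem centA_le {a : G} (ha : a ∈ A) : centralizer (A : Set G) ≤ centralizer ({a} : Set G) :=
  centralizer_le (Set.singleton_subset_iff.2 ha)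

theorem normalizer_A : normalizer ((S : Subgroup G) : Set G) ≤ normalizer (A : Set G) := fun n hn =>
  mem_normalizer_of_conj_le fun x hx => (h.omega _).2 ⟨(mem_normalizer_iff.1 hn x).1 (h.A_le hx), by
    rw [show n * x * n⁻¹ * (n * x * n⁻¹) = n * (x * x) * n⁻¹ by group, h.A_sq hx, mul_one, mul_inv_cancel]⟩

theorem A_normalizes_oc {a : G} (ha : a ∈ A) : A ≤ normalizer (oc a : Set G) :=
  (h.A_le_cent ha).trans (le_normalizer_coreOf _)

theorem A_fix_c0 {v c : G} (hv : v ∈ A) (hc : c ∈ c0 A) : v * c * v⁻¹ = c := by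
  rw [← mem_centralizer_comm.1 (c0_le A hc) v hv, mul_inv_cancel_right]

/-- An odd invariant subgroup is generated by its fixed and its inverted elements. -/
theorem le_of_pieces (h4 : 4 ≤ Nat.card ↥A) {X M : Subgroup G} (hX : Odd (Nat.card ↥X))
    (hAX : A ≤ normalizer (X : Set G)) (hfix : X ⊓ centralizer (A : Set G) ≤ M)
    (hpiece : ∀ K ≤ A, 2 * Nat.card ↥K = Nat.card ↥A → ∀ y ∈ X, y ∈ centralizer (K : Set G) →
      ∀ v ∈ A, v ∉ K → v * y * v⁻¹ = y⁻¹ → y ∈ M) : X ≤ M := by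
  haveI : Fact (Nat.Prime 2) := ⟨Nat.prime_two⟩
  rw [Components.Hyperplane.eq_iSup_hyperplane h.elementary h4
    (Nat.two_dvd_ne_zero.2 (Nat.odd_iff.1 hX)) hAX]
  refine iSup_le ?_
  rintro ⟨D, hDA, hD⟩ x ⟨hxX, hxD⟩
  have hc : 2 * Nat.card ↥D = Nat.card ↥A := by
    rw [← relIndex_bot_left, ← relIndex_bot_left, mul_comm, ← hD]
    exact relIndex_mul_relIndex _ _ _ bot_le hDA
  obtain ⟨v, hv, hvD⟩ := exists_notMem hc
  have hvN : v ∈ normalizer ((X ⊓ centralizer (D : Set G) : Subgroup G) : Set G) := by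
    refine mem_normalizer_of_conj_le fun y hy => ⟨(mem_normalizer_iff.1 (hAX hv) y).1 hy.1, ?_⟩
    refine mem_centralizer_comm.2 fun d hd => ?_
    calc v * y * v⁻¹ * d = v * (y * (v⁻¹ * d * v)) * v⁻¹ := by group
      _ = d * (v * y * v⁻¹) := by
        rw [show v⁻¹ * d * v = d by rw [mul_assoc, h.A_comm (hDA hd) hv, inv_mul_cancel_left],
          mem_centralizer_comm.1 hy.2 d hd, ← mul_assoc v d, ← h.A_comm (hDA hd) hv]
        group
  obtain ⟨c, hc', y, hy, hcv, hyv, rfl⟩ := exists_fixed_mul_inverted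
    (hX.of_dvd_nat (card_dvd_of_le inf_le_left)) (h.A_sq hv) hvN ⟨hxX, hxD⟩
  refine mul_mem (hfix ⟨hc'.1, mem_centralizer_comm.2 fun w hw => ?_⟩) (hpiece D hDA hc y hy.1 hy.2 v hv hvD hyv)
  by_cases hwD : w ∈ D
  · exact mem_centralizer_comm.1 hc'.2 w hwD
  · have h1 := mem_centralizer_comm.1 hc'.2 _ (mul_mem_of_index_two hDA hc hw hv hwD hvD)
    have h2 : c * v = v * c := (mul_inv_eq_iff_eq_mul.1 hcv).symm
    calc c * w = c * (w * v) * v := by rw [mul_assoc, mul_assoc, h.A_sq hv, mul_one]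
      _ = w * v * c * v := by rw [h1]
      _ = w * c := by rw [mul_assoc (w * v), h2, mul_assoc w, ← mul_assoc v v, h.A_sq hv, one_mul]

/-- The centralising elements of the core of `C(a)` lie in `c0 A`. -/
theorem oc_inf_le_c0 {a : G} (ha : a ∈ A) : oc a ⊓ centralizer (A : Set G) ≤ c0 A := by
  refine le_coreOf inf_le_right (fun c hc => mem_normalizer_of_conj_le fun x hx => ⟨?_, ?_⟩)
    ((odd_coreOf _).of_dvd_nat (card_dvd_of_le inf_le_left))
  · exact oc_conj_mem (h.centA_le ha hc) hx.1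
  · exact Subgroup.mul_mem _ (Subgroup.mul_mem _ hc hx.2) (Subgroup.inv_mem _ hc)

/-- An element centralising a hyperplane inverted by an element outside it, and commuting with `a`. -/
theorem mem_of_inverted {K : Subgroup G} (hKA : K ≤ A) (h2 : 2 * Nat.card ↥K = Nat.card ↥A) {y v a : G}
    (hy : y ∈ centralizer (K : Set G)) (hyo : Odd (orderOf y)) (hv : v ∈ A) (hvK : v ∉ K)
    (hinv : v * y * v⁻¹ = y⁻¹) (ha : a ∈ A) (hya : y * a = a * y) (hy1 : y ≠ 1) : a ∈ K := by
  by_contra haK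
  refine hy1 (StronglyClosedFour.eq_one_of_sq hyo ?_)
  have h1 := mem_centralizer_comm.1 hy _ (mul_mem_of_index_two hKA h2 hv ha hvK haK)
  have h2 : y * v = v * y := by
    calc y * v = y * (v * a) * a := by rw [mul_assoc, mul_assoc, h.A_sq ha, mul_one]
      _ = v * a * y * a := by rw [h1]
      _ = v * y := by rw [mul_assoc (v * a), hya, mul_assoc v, ← mul_assoc a a, h.A_sq ha, one_mul]
  have h3 : v * y * v⁻¹ = y := by rw [← h2, mul_inv_cancel_right]
  calc y * y = y * (v * y * v⁻¹) := by rw [h3]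
    _ = 1 := by rw [hinv, mul_inv_cancel]

end CoreSys

end Cfsg.Agent.Walter.Core
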