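import Cfsg.Agent.Lib.Walter.Core.Setting
import Cfsg.Agent.Lib.Walter.ComponentsKnown

/-!
# Rank three: what the balance and signalizer steps need of the involution centralisers

`S` is elementary of order eight and `L e` is the preimage in `C(e)` of the component of `C(e) / O(C(e))`.
-/

set_option autoImplicit false

open Subgroup

namespace Cfsg.Agent.Walter.Core

open Cfsg.Agent.SEAbelian

universe u

/-- Trivial cores in a smaller simple group of the same type. -/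
def ThreeBelow (n : ℕ) : Prop :=
  ∀ (T : Type u) [Group T] [Finite T], IsSimpleGroup T → ¬ IsMulCommutative T → AbTwo T → Nat.card T < n →
    (∀ P : Sylow 2 T, Nat.card ↥(P : Subgroup T) = 8) →
    (∃ t : T, orderOf t = 2 ∧ ¬ Group.IsSolvable ↥(centralizer ({t} : Set T))) →
      ∀ t : T, orderOf t = 2 → Cfsg.oddCore ↥(centralizer ({t} : Set T)) = ⊥

/-- No torus: every odd element of the component centralising an involution of the trace is in the core. -/
def ThreeFlat {G : Type u} [Group G] (S : Sylow 2 G) (L : G → Subgroup G) (e : G) : Prop :=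
  ∀ w ∈ (S : Subgroup G) ⊓ L e, w ≠ 1 → ∀ x ∈ L e ⊓ centralizer ({w} : Set G), Odd (orderOf x) → x ∈ oc e

/-- The rank three configuration modulo the cores. -/
structure ThreeSys {G : Type u} [Group G] (S : Sylow 2 G) (L : G → Subgroup G) : Prop where
  abTwo : AbTwo G
  card_S : Nat.card ↥(S : Subgroup G) = 8
  sq : ∀ x ∈ (S : Subgroup G), x * x = 1
  odd_solv : ∀ H : Subgroup G, Odd (Nat.card ↥H) → Group.IsSolvable ↥H
  listed : ∀ (T : Type u) [Group T] [Finite T], IsSimpleGroup T → ¬ IsMulCommutative T → AbTwo T →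
    Nat.card T < Nat.card G → Listed T
  below : ThreeBelow.{u} (Nat.card G)
  /-- Every four subgroup is cycled inside `N(S)`. -/
  tau : ∀ K ≤ (S : Subgroup G), Nat.card ↥K = 4 → ∀ u ∈ K, u ≠ 1 → ∀ k ∈ K, k ≠ 1 →
    ∃ n ∈ normalizer ((S : Subgroup G) : Set G), n ∈ normalizer (K : Set G) ∧ n * u * n⁻¹ = k
  cov_le : ∀ e ∈ (S : Subgroup G), e ≠ 1 → oc e ≤ L e ∧ L e ≤ centralizer ({e} : Set G)
  cov_norm : ∀ e ∈ (S : Subgroup G), e ≠ 1 → centralizer ({e} : Set G) ≤ normalizer (L e : Set G)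
  four : ∀ e ∈ (S : Subgroup G), e ≠ 1 → Nat.card ↥((S : Subgroup G) ⊓ L e) = 4
  not_mem : ∀ e ∈ (S : Subgroup G), e ≠ 1 → e ∉ L e
  frattini : ∀ e ∈ (S : Subgroup G), e ≠ 1 → centralizer ({e} : Set G) ≤
    L e ⊔ (centralizer ({e} : Set G) ⊓ normalizer ((S : Subgroup G) : Set G))
  nonsolv : ∀ e ∈ (S : Subgroup G), e ≠ 1 → ¬ Group.IsSolvable ↥(centralizer ({e} : Set G))
  /-- An odd prime of the torus does not divide the index of the centraliser of the involution. -/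
  coprime : ∀ e ∈ (S : Subgroup G), e ≠ 1 → ∀ w ∈ (S : Subgroup G) ⊓ L e, w ≠ 1 → ∀ r : ℕ, r.Prime →
    r ≠ 2 → ∀ y ∈ L e ⊓ centralizer ({w} : Set G), y ∉ oc e → (∃ m : ℕ, y ^ r ^ m ∈ oc e) →
      ¬ r ∣ (oc e ⊔ (centralizer ({e} : Set G) ⊓ centralizer ({w} : Set G))).relIndex
        (centralizer ({e} : Set G))
  self : ∀ e ∈ (S : Subgroup G), e ≠ 1 → ∀ x ∈ L e ⊓ centralizer ((S : Subgroup G) : Set G),
    Odd (orderOf x) → x ∈ oc e
  /-- No odd automorphism fixing the Sylow subgroup centralises a centraliser of an involution. -/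
  field : ∀ e ∈ (S : Subgroup G), e ≠ 1 → ∀ c ∈ centralizer ((S : Subgroup G) : Set G), Odd (orderOf c) →
    ∀ w ∈ (S : Subgroup G) ⊓ L e, w ≠ 1 →
      (∀ j ∈ L e ⊓ centralizer ({w} : Set G), c * j * c⁻¹ * j⁻¹ ∈ oc e) → c ∈ oc e
  gen : ∀ e ∈ (S : Subgroup G), e ≠ 1 →
    L e ≤ oc e ⊔ ⨆ w : {w : G // w ∈ (S : Subgroup G) ⊓ L e ∧ w ≠ 1}, L e ⊓ centralizer ({(w : G)} : Set G) ∨
      ThreeFlat S L e

/-- Balance in rank three, the output of the first step. -/
def ThreeBalanced {G : Type u} [Group G] (S : Sylow 2 G) : Prop :=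
  ∀ u ∈ (S : Subgroup G), u ≠ 1 → ∀ k ∈ (S : Subgroup G), k ≠ 1 →
    oc u ⊓ centralizer ({k} : Set G) ≤ oc k

end Cfsg.Agent.Walter.Core
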