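import Cfsg.Agent.Lib.Walter.Core.Layer
import Cfsg.Agent.Lib.Components.TwoBalance

/-!
# Odd elements acting on the components

In a group with abelian Sylow 2-subgroup `S` and no odd core: an element of odd order inverted by an element of
`S` acts on each component it normalizes as an inner automorphism, and one centralizing the layer and inverted,
or centralizing the layer and the involutions of `S`, is trivial.
-/

set_option autoImplicit false
set_option linter.style.haveILetI false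
set_option linter.unusedSectionVars false

namespace Cfsg.Agent.Walter.Core

open Subgroup
open Cfsg.Agent.SEAbelian

universe u

variable {X : Type u} [Group X] [Finite X]

theorem eq_one_of_odd_two {x : X} (ho : Odd (orderOf x)) {k : ℕ} (hk : x ^ 2 ^ k = 1) : x = 1 :=
  orderOf_eq_one_iff.1 (Nat.eq_one_of_dvd_coprimes ((Nat.coprime_two_left.2 ho).pow_left k)
    (orderOf_dvd_of_pow_eq_one hk) dvd_rfl)

/-- An element of odd order is a power of its square. -/
theorem mem_of_sq_mem {H : Subgroup X} {x : X} (ho : Odd (orderOf x)) (h : x * x ∈ H) : x ∈ H := by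
  obtain ⟨k, hk⟩ := ho
  have h1 : (x * x) ^ (k + 1) = x := by
    rw [← pow_two, ← pow_mul, show 2 * (k + 1) = orderOf x + 1 by omega, pow_succ, pow_orderOf_eq_one, one_mul]
  exact h1 ▸ pow_mem h _

variable {J : Subgroup X}

theorem comp_disj (h : AbTwo X) (h0 : Cfsg.oddCore X = ⊥) (hJ : Cfsg.IsComponent J) {x : X} (hx : x ∈ J)
    (hc : x ∈ centralizer (J : Set X)) : x = 1 := by
  obtain ⟨hs, hn⟩ := component_simple h h0 hJ
  exact eq_one_of_central hs hn hx fun y hy => (mem_centralizer_iff.1 hc y hy).symm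

theorem part_unique (h : AbTwo X) (h0 : Cfsg.oddCore X = ⊥) (hJ : Cfsg.IsComponent J) {j j' t t' : X}
    (hj : j ∈ J) (hj' : j' ∈ J) (ht : t ∈ centralizer (J : Set X)) (ht' : t' ∈ centralizer (J : Set X))
    (e : j * t = j' * t') : j = j' := by
  have e1 : j'⁻¹ * j = t' * t⁻¹ := by
    rw [inv_mul_eq_iff_eq_mul, ← mul_assoc, ← e, mul_inv_cancel_right]
  exact (inv_mul_eq_one.1 (comp_disj h h0 hJ (mul_mem (inv_mem hj') hj)
    (e1 ▸ mul_mem ht' (inv_mem ht)))).symm

/-- An element fixing a non-identity element of a component normalizes it. -/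
theorem normalizes_of_fix (h : AbTwo X) (h0 : Cfsg.oddCore X = ⊥) (hJ : Cfsg.IsComponent J) {w y : X}
    (hw : w ∈ J) (hw1 : w ≠ 1) (e : y * w * y⁻¹ = w) : y ∈ normalizer (J : Set X) := by
  by_contra hy
  have hne : J.map (MulAut.conj y).toMonoidHom ≠ J := fun e' => hy (mem_normalizer_iff_map_conj_eq.2 e')
  refine hw1 (comp_disj h h0 hJ hw ?_)
  exact commutator_eq_bot_iff_le_centralizer.1 (Components.Basic.component_commutator_eq_bot_of_ne
    (Components.Basic.component_conj hJ y) hJ hne) ⟨w, hw, e⟩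

/-- An element of odd order inverted by an element of `S` acts on a component as an inner automorphism. -/
theorem inner_part (h : AbTwo X) (h0 : Cfsg.oddCore X = ⊥) (S : Sylow 2 X) (hJ : Cfsg.IsComponent J)
    {v y : X} (hv : v ∈ (S : Subgroup X)) (ho : Odd (orderOf y)) (hy : y ∈ normalizer (J : Set X))
    (hinv : v * y * v⁻¹ = y⁻¹) : ∃ j ∈ J, ∃ t ∈ centralizer (J : Set X), j * t = y := by
  obtain ⟨w, hw, c, hc, rfl⟩ := exists_split h h0 S hJ hv
  have hyC := Components.TwoBalance.normalizer_le_normalizer_centralizer' J hy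
  have hd : c * y * c⁻¹ * y⁻¹ ∈ centralizer (J : Set X) := by
    rw [show c * y * c⁻¹ * y⁻¹ = c * (y * c⁻¹ * y⁻¹) by group]
    exact mul_mem hc.2 ((mem_normalizer_iff.1 hyC _).1 (inv_mem hc.2))
  have hmem : (y * y)⁻¹ ∈ J ⊔ centralizer (J : Set X) := by
    have e : (y * y)⁻¹ = w * (c * y * c⁻¹ * y⁻¹) * (y * w⁻¹ * y⁻¹) := by
      rw [show w * (c * y * c⁻¹ * y⁻¹) * (y * w⁻¹ * y⁻¹) = w * c * y * (w * c)⁻¹ * y⁻¹ by group, hinv,
        mul_inv_rev]
    rw [e]
    exact mul_mem (mul_mem (mem_sup_left hw.2) (mem_sup_right hd))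
      (mem_sup_left ((mem_normalizer_iff.1 hy _).1 (inv_mem hw.2)))
  have hy' : y ∈ J ⊔ centralizer (J : Set X) := mem_of_sq_mem ho (by simpa using inv_mem hmem)
  rw [← SetLike.mem_coe, coe_mul_of_right_le_normalizer_left _ _ (centralizer_le_normalizer (J : Set X))] at hy'
  obtain ⟨j, hj, t, ht, e⟩ := hy'
  exact ⟨j, hj, t, ht, e⟩

/-- Conjugation by `w c` on `J C(J)` is conjugation by `w` on the part in `J`. -/
theorem part_conj (h : AbTwo X) (h0 : Cfsg.oddCore X = ⊥) (hJ : Cfsg.IsComponent J) {w c j t j' t' : X}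
    (hw : w ∈ J) (hc : c ∈ centralizer (J : Set X)) (hj : j ∈ J) (ht : t ∈ centralizer (J : Set X))
    (hj' : j' ∈ J) (ht' : t' ∈ centralizer (J : Set X)) (e : w * c * (j * t) * (w * c)⁻¹ = j' * t') :
    w * j * w⁻¹ = j' := by
  have hd : c * t * c⁻¹ ∈ centralizer (J : Set X) := mul_mem (mul_mem hc ht) (inv_mem hc)
  have h1 : c * j = j * c := (mem_centralizer_iff.1 hc j hj).symm
  have h2 : c * t * c⁻¹ * w⁻¹ = w⁻¹ * (c * t * c⁻¹) := (mem_centralizer_iff.1 hd _ (inv_mem hw)).symm
  refine part_unique h h0 hJ (mul_mem (mul_mem hw hj) (inv_mem hw)) hj' hd ht' ?_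
  rw [← e]
  calc w * j * w⁻¹ * (c * t * c⁻¹) = w * j * (c * t * c⁻¹ * w⁻¹) := by rw [h2]; group
    _ = w * (j * c) * t * c⁻¹ * w⁻¹ := by group
    _ = w * (c * j) * t * c⁻¹ * w⁻¹ := by rw [h1]
    _ = w * c * (j * t) * (w * c)⁻¹ := by group

theorem part_odd (h : AbTwo X) (h0 : Cfsg.oddCore X = ⊥) (hJ : Cfsg.IsComponent J) {j t : X} (hj : j ∈ J)
    (ht : t ∈ centralizer (J : Set X)) (ho : Odd (orderOf (j * t))) : Odd (orderOf j) := by
  refine ho.of_dvd_nat (orderOf_dvd_of_pow_eq_one (comp_disj h h0 hJ (pow_mem hj _) ?_))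
  have h1 : j ^ orderOf (j * t) = (t ^ orderOf (j * t))⁻¹ := eq_inv_of_mul_eq_one_left (by
    rw [← (show Commute j t from mem_centralizer_iff.1 ht j hj).mul_pow, pow_orderOf_eq_one])
  rw [h1]
  exact inv_mem (pow_mem ht _)

/-- An odd group normalized by a component is centralized by it as far as it normalizes it. -/
theorem kill (h : AbTwo X) (h0 : Cfsg.oddCore X = ⊥) (hJ : Cfsg.IsComponent J) {M : Subgroup X}
    (hM : Odd (Nat.card ↥M)) (hJM : J ≤ normalizer (M : Set X)) {y : X} (hy : y ∈ M)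
    (hyJ : y ∈ normalizer (J : Set X)) : y ∈ centralizer (J : Set X) := by
  obtain ⟨hs, hn⟩ := component_simple h h0 hJ
  refine mem_centralizer_iff.2 fun g hg => ?_
  have h1 : y * g * y⁻¹ * g⁻¹ ∈ M := by
    rw [show y * g * y⁻¹ * g⁻¹ = y * (g * y⁻¹ * g⁻¹) by group]
    exact mul_mem hy ((mem_normalizer_iff.1 (hJM hg) _).1 (inv_mem hy))
  have h2 : y * g * y⁻¹ * g⁻¹ ∈ J := mul_mem ((mem_normalizer_iff.1 hyJ g).1 hg) (inv_mem hg)
  rcases le_or_disjoint hs hJM with h3 | h3
  · exact absurd ⟨⟨IsSimpleGroup.comm_iff_isSolvable.2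
      (S0205.result (hM.of_dvd_nat (card_dvd_of_le h3)))⟩⟩ hn
  · exact (mul_inv_eq_iff_eq_mul.1 (mul_inv_eq_one.1 (h3 _ h2 h1))).symm

/-- A subgroup without odd core centralizes the elements of an odd group it normalizes that normalize it. -/
theorem kill_cent {C M : Subgroup X} (hcore : Cfsg.oddCore ↥C = ⊥) (hM : Odd (Nat.card ↥M))
    (hCM : C ≤ normalizer (M : Set X)) {y : X} (hy : y ∈ M) (hyC : y ∈ normalizer (C : Set X)) :
    y ∈ centralizer (C : Set X) := by
  haveI hn : ((M ⊓ C).subgroupOf C).Normal := normal_subgroupOf_of_le_normalizer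
    ((le_inf hCM le_normalizer).trans inf_normalizer_le_normalizer_inf)
  have hle : (M ⊓ C).subgroupOf C ≤ Cfsg.oddCore ↥C := Agent.Cores.le_oddCore (by
    rw [Nat.card_congr (subgroupOfEquivOfLe inf_le_right).toEquiv]
    exact hM.of_dvd_nat (card_dvd_of_le inf_le_left))
  rw [hcore, le_bot_iff, subgroupOf_eq_bot] at hle
  refine mem_centralizer_iff.2 fun g hg => ?_
  have h1 : y * g * y⁻¹ * g⁻¹ ∈ C := mul_mem ((mem_normalizer_iff.1 hyC g).1 hg) (inv_mem hg)
  have h2 : y * g * y⁻¹ * g⁻¹ ∈ M := by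
    rw [show y * g * y⁻¹ * g⁻¹ = y * (g * y⁻¹ * g⁻¹) by group]
    exact mul_mem hy ((mem_normalizer_iff.1 (hCM hg) _).1 (inv_mem hy))
  exact (mul_inv_eq_iff_eq_mul.1 (mul_inv_eq_one.1 (mem_bot.1 (hle.le_bot ⟨⟨h2, h1⟩, h1⟩)))).symm

/-- An element of odd order centralizing the layer and commuting with the normal 2-subgroups is trivial. -/
theorem eq_one_of_layer (h0 : Cfsg.oddCore X = ⊥) (S : Sylow 2 X) {y : X} (ho : Odd (orderOf y))
    (hy : y ∈ centralizer (Cfsg.layer X : Set X))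
    (hfix : ∀ Q : Subgroup X, Q.Normal → IsPGroup 2 ↥Q → Q ≤ (S : Subgroup X) → ∀ q ∈ Q, Commute y q) :
    y = 1 := by
  haveI : Fact (Nat.Prime 2) := ⟨Nat.prime_two⟩
  set T := centralizer (Cfsg.layer X : Set X) with hT
  haveI : T.Normal := inferInstance
  have hTlayer : Cfsg.layer ↥T = ⊥ := by
    refine Components.Basic.layer_eq_bot_iff.2 fun K hK => ?_
    have hK' := (Components.Basic.isComponent_map_subtype_iff
      (Subgroup.Normal.isSubnormal inferInstance) K).2 hK
    refine Components.Basic.component_ne_bot hK' ?_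
    rw [← Components.Basic.component_commutator_self hK']
    exact commutator_eq_bot_iff_le_centralizer.2
      ((map_subtype_le K).trans (centralizer_le (Components.Basic.le_layer hK')))
  have hT0 : Cfsg.oddCore ↥T = ⊥ := by
    have h1 := Agent.Cores.map_pPrimeCore_subtype_le 2 T
    rw [show Cfsg.pPrimeCore 2 X = ⊥ from h0, le_bot_iff,
      Subgroup.map_eq_bot_iff_of_injective _ T.subtype_injective] at h1
    exact h1
  have hF : Cfsg.generalizedFittingSubgroup ↥T ≤ Cfsg.pCore 2 ↥T := by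
    rw [Cfsg.generalizedFittingSubgroup, hTlayer, bot_sup_eq, Agent.Cores.fittingSubgroup_eq_iSup]
    refine iSup_le fun p => ?_
    rcases eq_or_ne (p : ℕ) 2 with h2 | h2
    · rw [h2]
    · haveI : Fact (p : ℕ).Prime := ⟨Nat.prime_of_mem_primeFactors p.2⟩
      obtain ⟨k, hk⟩ := IsPGroup.iff_card.mp (Agent.Cores.pCore_isPGroup (G := ↥T) p)
      have hodd : Odd (Nat.card (Cfsg.pCore (p : ℕ) ↥T)) := by
        rw [hk]
        exact ((Nat.prime_of_mem_primeFactors p.2).odd_of_ne_two h2).pow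
      exact (Agent.Cores.le_oddCore hodd).trans (hT0 ▸ bot_le)
  set Q := (Cfsg.pCore 2 ↥T).map T.subtype with hQ
  haveI hQn : Q.Normal := Agent.Cores.normal_map_subtype T _
  have hQ2 : IsPGroup 2 ↥Q := (Agent.Cores.pCore_isPGroup (G := ↥T) 2).map _
  have hQS : Q ≤ (S : Subgroup X) := (Agent.Cores.le_pCore hQ2).trans (Agent.Cores.pCore_le_sylow S)
  have h1 : (⟨y, hy⟩ : ↥T) ∈ centralizer (Cfsg.generalizedFittingSubgroup ↥T : Set ↥T) :=
    centralizer_le hF (mem_centralizer_iff.2 fun q hq =>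
      Subtype.ext (hfix Q hQn hQ2 hQS _ (mem_map_of_mem _ hq)).eq.symm)
  obtain ⟨k, hk⟩ := exists_two_pow (S := S)
    (hQS (mem_map_of_mem T.subtype (hF (Components.Fitting.centralizer_genFitting_le h1))))
  exact eq_one_of_odd_two ho hk

/-- An element of odd order centralizing the layer and the involutions of `S` is trivial. -/
theorem eq_one_of_fix (h : AbTwo X) (h0 : Cfsg.oddCore X = ⊥) (S : Sylow 2 X) {y : X} (ho : Odd (orderOf y))
    (hy : y ∈ centralizer (Cfsg.layer X : Set X))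
    (hfix : ∀ x ∈ (S : Subgroup X), x * x = 1 → Commute y x) : y = 1 :=
  eq_one_of_layer h0 S ho hy fun Q hQn hQ2 hQS =>
    commute_of_omega hQ2 (fun a ha b hb => h _ S.2 a (hQS ha) b (hQS hb))
      (by rw [normalizer_eq_top_iff.2 hQn]; exact mem_top y) ho fun x hx => hfix x (hQS hx)

/-- An element of odd order centralizing the layer and inverted by an element of `S` is trivial. -/
theorem eq_one_of_inverted (h : AbTwo X) (h0 : Cfsg.oddCore X = ⊥) (S : Sylow 2 X) {v y : X}
    (ho : Odd (orderOf y)) (hy : y ∈ centralizer (Cfsg.layer X : Set X)) (hv : v ∈ (S : Subgroup X))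
    (hinv : v * y * v⁻¹ = y⁻¹) : y = 1 := by
  refine eq_one_of_layer h0 S ho hy fun Q hQn _ hQS q hq => ?_
  have hmem : y * q * y⁻¹ ∈ Q := hQn.conj_mem q hq y
  have e : y * q * y⁻¹ = y⁻¹ * q * y := by
    calc y * q * y⁻¹ = v * (y * q * y⁻¹) * v⁻¹ := by
          rw [(h _ S.2 v hv _ (hQS hmem)).eq, mul_inv_cancel_right]
      _ = v * y * v⁻¹ * (v * q * v⁻¹) * (v * y * v⁻¹)⁻¹ := by group
      _ = y⁻¹ * q * y := by rw [hinv, (h _ S.2 v hv q (hQS hq)).eq, mul_inv_cancel_right, inv_inv]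
  have h2 : y * y ∈ centralizer ({q} : Set X) := by
    refine mem_centralizer_singleton_iff.2 ?_
    calc y * y * q = y * (y * q * y⁻¹) * y := by group
      _ = q * (y * y) := by rw [e]; group
  exact mem_centralizer_singleton_iff.1 (mem_of_sq_mem ho h2)

/-- Centralizing every component is centralizing the layer. -/
theorem mem_centralizer_layer {y : X} (hy : ∀ K : Subgroup X, Cfsg.IsComponent K → y ∈ centralizer (K : Set X)) :
    y ∈ centralizer (Cfsg.layer X : Set X) :=
  le_centralizer_iff.1 (Components.Basic.layer_le fun K hK => le_centralizer_iff.1 (zpowers_le.2 (hy K hK)))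
    (mem_zpowers y)

end Cfsg.Agent.Walter.Core
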