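import Cfsg.Agent.Lib.Walter.Core.Functor

/-!
# What normalizes the signalizer

For `16 ≤ |A|` the odd subgroup `w0 A` is normalized by `C(B)` for `B ≤ A` of order at least eight, by every core
`oc a`, and by `C(a)` when the centralising parts of the components at `a` have order at least eight; if it is
trivial then `A` centralises what the cores of a four-group have in common.
-/

set_option autoImplicit false
set_option linter.unusedSectionVars false
set_option linter.style.haveILetI false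

open Subgroup
open scoped Pointwise commutatorElement

namespace Cfsg.Agent.Walter.Core

universe u

variable {G : Type u} [Group G]

/-- A subgroup mapped into itself by every element of `X` is normalized by `X`. -/
theorem le_normalizer_of_conj_le [Finite G] {H X : Subgroup G} (h : ∀ g ∈ X, ∀ x ∈ H, g * x * g⁻¹ ∈ H) :
    X ≤ normalizer (H : Set G) := fun g hg => mem_normalizer_of_conj_le (h g hg)

theorem dU_conj_mem [Finite G] {B : Subgroup G} {g : G} (hg : g ∈ centralizer (B : Set G)) {x : G}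
    (hx : x ∈ dU B) : g * x * g⁻¹ ∈ dU B := by
  have hfix : ∀ b ∈ B, g * b * g⁻¹ = b := fun b hb => by rw [mem_centralizer_comm.1 hg b hb, mul_inv_cancel_right]
  have hle : dU B ≤ (dU B).comap (MulAut.conj g).toMonoidHom := iSup_le fun p y hy => by
    refine le_iSup (fun p : {p : G × G // p.1 ∈ B ∧ p.2 ∈ B ∧ p.1 ≠ 1 ∧ p.2 ≠ 1 ∧ p.1 ≠ p.2} =>
      lit (p : G × G).1 (p : G × G).2) p ?_
    have := conj_mem_lit (g := g) hy
    rwa [hfix _ p.2.1, hfix _ p.2.2.1] at this
  exact hle hx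

/-- The elements of `dU B` inverted by an element of `B` generate this subgroup. -/
def tInv (B : Subgroup G) : Subgroup G := closure {x | x ∈ dU B ∧ ∃ b ∈ B, b * x * b⁻¹ = x⁻¹}

theorem tInv_conj_mem [Finite G] {B : Subgroup G} {g : G} (hg : g ∈ centralizer (B : Set G)) {x : G}
    (hx : x ∈ tInv B) : g * x * g⁻¹ ∈ tInv B := by
  have hle : tInv B ≤ (tInv B).comap (MulAut.conj g).toMonoidHom := by
    refine (closure_le _).2 ?_
    rintro y ⟨hy, b, hb, hby⟩
    refine subset_closure ⟨dU_conj_mem hg hy, b, hb, ?_⟩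
    show b * (g * y * g⁻¹) * b⁻¹ = (g * y * g⁻¹)⁻¹
    have hbg := mem_centralizer_comm.1 hg b hb
    calc b * (g * y * g⁻¹) * b⁻¹ = b * g * y * (b * g)⁻¹ := by group
      _ = g * (b * y * b⁻¹) * g⁻¹ := by rw [← hbg]; group
      _ = (g * y * g⁻¹)⁻¹ := by rw [hby]; group
  exact hle hx

namespace CoreSys

variable [Finite G] {S : Sylow 2 G} {A : Subgroup G} {cov : G → Set (Subgroup G)}
  {bd : G → Subgroup G → Subgroup G} (h : CoreSys S A cov bd)

include h

theorem c0_normalizes_wInv : c0 A ≤ normalizer (wInv A : Set G) := by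
  refine le_normalizer_of_conj_le fun c hc x hx => ?_
  have hcA := c0_le A hc
  have hle : wInv A ≤ (wInv A).comap (MulAut.conj c).toMonoidHom := by
    refine (closure_le _).2 ?_
    rintro y ⟨K, hKA, h2, hyK, ⟨v, hv, hvy⟩, hyo⟩
    refine subset_closure ⟨K, hKA, h2, ?_, ⟨v, hv, ?_⟩, fun k hk hk1 => oc_conj_mem (h.centA_le (hKA hk) hcA)
      (hyo k hk hk1)⟩
    · exact (centralizer (K : Set G)).mul_mem ((centralizer (K : Set G)).mul_mem
        (centralizer_le hKA hcA) hyK) ((centralizer (K : Set G)).inv_mem (centralizer_le hKA hcA))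
    · show v * (c * y * c⁻¹) * v⁻¹ = (c * y * c⁻¹)⁻¹
      have hcv := mem_centralizer_comm.1 hcA v hv
      calc v * (c * y * c⁻¹) * v⁻¹ = v * c * y * (v * c)⁻¹ := by group
        _ = c * (v * y * v⁻¹) * c⁻¹ := by rw [← hcv]; group
        _ = (c * y * c⁻¹)⁻¹ := by rw [hvy]; group
  exact hle hx

theorem A_normalizes_wInv : A ≤ normalizer (wInv A : Set G) := by
  refine le_normalizer_of_conj_le fun a ha x hx => ?_
  have hle : wInv A ≤ (wInv A).comap (MulAut.conj a).toMonoidHom := by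
    refine (closure_le _).2 ?_
    rintro y ⟨K, hKA, h2, hyK, ⟨v, hv, hvy⟩, hyo⟩
    refine subset_closure ⟨K, hKA, h2, ?_, ⟨v, hv, ?_⟩, fun k hk hk1 => oc_conj_mem (h.A_le_cent (hKA hk) ha)
      (hyo k hk hk1)⟩
    · refine mem_centralizer_comm.2 fun k hk => ?_
      show a * y * a⁻¹ * k = k * (a * y * a⁻¹)
      have hak := h.A_comm ha (hKA hk)
      calc a * y * a⁻¹ * k = a * (y * k) * a⁻¹ := by
            rw [show a⁻¹ = a from h.A_inv ha, mul_assoc (a * y), hak]; group
        _ = k * (a * y * a⁻¹) := by rw [mem_centralizer_comm.1 hyK k hk, ← mul_assoc a k, hak]; group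
    · show v * (a * y * a⁻¹) * v⁻¹ = (a * y * a⁻¹)⁻¹
      calc v * (a * y * a⁻¹) * v⁻¹ = v * a * y * (v * a)⁻¹ := by group
        _ = a * (v * y * v⁻¹) * a⁻¹ := by rw [h.A_comm hv ha]; group
        _ = (a * y * a⁻¹)⁻¹ := by rw [hvy]; group
  exact hle hx

variable (h16 : 16 ≤ Nat.card ↥A)

include h16

/-- An invariant subgroup of the closure is generated by pieces and elements centralising `A`. -/
theorem le_wInv_sup {X : Subgroup G} (hX : X ≤ sigW A) (hAX : A ≤ normalizer (X : Set G)) :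
    X ≤ wInv A ⊔ (X ⊓ centralizer (A : Set G)) :=
  h.le_of_pieces (by omega) ((h.sigW_spec h16).1.of_dvd_nat (card_dvd_of_le hX)) hAX le_sup_right
    fun K hKA h2 y hy hyK v hv _ hinv =>
      mem_sup_left (subset_closure ⟨K, h.piece_of_mem_sigW h16 hKA h2 (hX hy) hyK hv hinv⟩)

theorem tInv_le_wInv {B : Subgroup G} (hB : B ≤ A) : tInv B ≤ wInv A := by
  refine (closure_le _).2 ?_
  rintro x ⟨hx, b, hb, hbx⟩
  have hW := h.sigW_spec h16
  have h1 := h.le_wInv_sup h16 (h.dU_le_sigW h16 hB) (fun a ha => mem_normalizer_of_conj_le fun z hz =>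
    dU_conj_mem (centralizer_le hB (h.A_le_centA ha)) hz) hx
  have h2 : x ∈ wInv A ⊔ c0 A := sup_le_sup_left
    (le_trans (inf_le_inf_right _ (h.dU_le_sigW h16 hB)) (h.sigW_inf_centA h16)) _ h1
  exact mem_of_inverted_mul (odd_coreOf _) h.c0_normalizes_wInv (h.A_normalizes_wInv (hB hb))
    (fun c hc => h.A_fix_c0 (hB hb) hc) h2 hbx

/-- `w0` is generated by the elements inverted by `B` and the elements centralised by `B`. -/
theorem w0_le_tInv_sup {B : Subgroup G} (hB : B ≤ A) (h8 : 8 ≤ Nat.card ↥B) :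
    w0 A ≤ tInv B ⊔ (w0 A ⊓ centralizer (B : Set G)) := by
  refine sup_le ((closure_le _).2 ?_) fun c hc =>
    mem_sup_right ⟨mem_sup_right hc, centralizer_le hB (c0_le A hc.1)⟩
  rintro y ⟨K, hK⟩
  obtain ⟨hKA, h2, hyK, ⟨v, hv, hvy⟩, -⟩ := id hK
  by_cases hBK : B ≤ K
  · exact mem_sup_right ⟨piece_mem_w0 hK, centralizer_le hBK hyK⟩
  obtain ⟨b, hb, hbK⟩ := SetLike.not_le_iff_exists.1 hBK
  refine mem_sup_left (subset_closure ⟨h.wInv_le_dU h16 hB h8 (subset_closure ⟨K, hK⟩), b, hb, ?_⟩)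
  by_cases hvK : v ∈ K
  · have h3 : v * y * v⁻¹ = y := by rw [← mem_centralizer_comm.1 hyK v hvK, mul_inv_cancel_right]
    rw [hvy] at h3
    have hy1 : y = 1 := StronglyClosedFour.eq_one_of_sq
      (odd_orderOf_of_mem (h.odd_w0 h16) (piece_mem_w0 hK)) (by
        calc y * y = y⁻¹ * y := by rw [h3]
          _ = 1 := inv_mul_cancel y)
    simp [hy1]
  have hk := mul_mem_of_index_two hKA h2 hv (hB hb) hvK hbK
  have hyvb := mem_centralizer_comm.1 hyK _ hk
  calc b * y * b⁻¹ = v * ((v * b) * y) * b⁻¹ := by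
        rw [← mul_assoc v (v * b), ← mul_assoc v v, h.A_sq hv, one_mul]
    _ = v * y * v⁻¹ * (v * (v * b) * b⁻¹) := by rw [← hyvb]; group
    _ = y⁻¹ := by rw [hvy, ← mul_assoc v v, h.A_sq hv, one_mul, mul_inv_cancel, mul_one]

variable [IsSimpleGroup G] (hnc : ¬ IsMulCommutative G)

include hnc

omit h16 in
theorem centralizer_ne_top {a : G} (ha1 : a ≠ 1) : centralizer ({a} : Set G) ≠ ⊤ := by
  intro e
  rw [centralizer_eq_top_iff_subset, Set.singleton_subset_iff] at e
  rcases (inferInstance : (center G).Normal).eq_bot_or_eq_top with hz | hz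
  · exact ha1 (mem_bot.1 (hz ▸ e))
  · exact hnc ⟨⟨fun x y => mem_center_iff.1 (hz ▸ mem_top y) x⟩⟩

/-- `C(B)` normalizes `w0` for `8 ≤ |B|`. -/
theorem cent_le {B : Subgroup G} (hB : B ≤ A) (h8 : 8 ≤ Nat.card ↥B) :
    centralizer (B : Set G) ≤ normalizer (w0 A : Set G) := by
  classical
  haveI : Fact (Nat.Prime 2) := ⟨Nat.prime_two⟩
  set C := centralizer (B : Set G)
  set Q := dU B ⊓ C
  set H : Subgroup G := closure {x | ∃ g ∈ C, ∃ s ∈ (S : Subgroup G), g * s * g⁻¹ = x}
  have hSC : (S : Subgroup G) ≤ C := h.S_le_centA.trans (centralizer_le hB)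
  have hAC : A ≤ C := h.A_le.trans hSC
  have hHC : H ≤ C := (closure_le _).2 fun x ⟨g, hg, s, hs, e⟩ => e ▸
    Subgroup.mul_mem _ (Subgroup.mul_mem _ hg (hSC hs)) (Subgroup.inv_mem _ hg)
  have hCH : C ≤ normalizer (H : Set G) := le_normalizer_of_conj_le fun g hg x hx => by
    have hle : H ≤ H.comap (MulAut.conj g).toMonoidHom := by
      refine (closure_le _).2 ?_
      rintro _ ⟨g', hg', s, hs, rfl⟩
      refine subset_closure ⟨g * g', Subgroup.mul_mem _ hg hg', s, hs, ?_⟩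
      show g * g' * s * (g * g')⁻¹ = g * (g' * s * g'⁻¹) * g⁻¹
      group
    exact hle hx
  have hCQ : C ≤ normalizer (Q : Set G) := le_normalizer_of_conj_le fun g hg x hx =>
    ⟨dU_conj_mem hg hx.1, Subgroup.mul_mem _ (Subgroup.mul_mem _ hg hx.2) (Subgroup.inv_mem _ hg)⟩
  set R := ⁅Q, H⁆
  have hRQ : R ≤ Q := commutator_le.2 fun q hq g hg => by
    rw [commutatorElement_def, mul_assoc q g, mul_assoc q (g * q⁻¹)]
    exact mul_mem hq (conj_le_of_le_normalizer hCQ (hHC hg) (inv_mem hq))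
  have hRH : R ≤ H := commutator_le.2 fun q hq g hg => by
    rw [commutatorElement_def]
    exact mul_mem (conj_le_of_le_normalizer hCH hq.2 hg) (inv_mem hg)
  have hAR : A ≤ normalizer (R : Set G) := fun a ha => mem_normalizer_of_conj_le fun x hx => by
    have hle : R ≤ R.comap (MulAut.conj a).toMonoidHom := commutator_le.2 fun q hq g hg => by
      show a * ⁅q, g⁆ * a⁻¹ ∈ R
      rw [show a * ⁅q, g⁆ * a⁻¹ = ⁅a * q * a⁻¹, a * g * a⁻¹⁆ by simp only [commutatorElement_def]; group]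
      exact commutator_mem_commutator (conj_le_of_le_normalizer hCQ (hAC ha) hq)
        (conj_le_of_le_normalizer hCH (hAC ha) hg)
    exact hle hx
  have hRW : R ≤ sigW A := hRQ.trans (inf_le_left.trans (h.dU_le_sigW h16 hB))
  have hR0 : R ≤ w0 A := by
    refine (h.le_wInv_sup h16 hRW hAR).trans (sup_le le_sup_left ?_)
    rintro c ⟨hcR, hcA⟩
    have hc0 : c ∈ c0 A := h.sigW_inf_centA h16 ⟨hRW hcR, hcA⟩
    refine mem_sup_right ⟨hc0, mem_iInf.2 fun a => ?_⟩
    refine h.fixed_core B hB h8 c hc0 (fun b hb hb1 => ?_) a a.2.1 a.2.2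
    have hCX : C ≤ centralizer ({b} : Set G) := centralizer_le (Set.singleton_subset_iff.2 hb)
    refine h.layer_fix _ (h.centralizer_ne_top hnc hb1) (h.S_le_cent (hB hb)) H (hHC.trans hCX)
      (fun H' _ hn hSH' => (closure_le _).2 ?_) c (hRH hcR) hcA (odd_orderOf_of_mem (odd_coreOf _) hc0)
    rintro x ⟨g, hg, s, hs, rfl⟩
    exact conj_le_of_le_normalizer hn (hCX hg) (hSH' hs)
  have key : ∀ g ∈ H, g ∈ normalizer (w0 A : Set G) := fun g hg => mem_normalizer_of_conj_le fun x hx => by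
    have hle : tInv B ⊔ (w0 A ⊓ C) ≤ (w0 A).comap (MulAut.conj g).toMonoidHom := sup_le
      (fun y hy => mem_sup_left (h.tInv_le_wInv h16 hB (tInv_conj_mem (hHC hg) hy)))
      (fun y hy => by
        have h1 : ⁅y⁻¹, g⁆ ∈ R := commutator_mem_commutator
          (inv_mem (mem_inf.2 ⟨h.w0_le_dU h16 hB h8 hy.1, hy.2⟩)) hg
        have h2 : g * y * g⁻¹ ∈ w0 A := by
          rw [show g * y * g⁻¹ = y * ⁅y⁻¹, g⁆ by simp only [commutatorElement_def]; group]
          exact mul_mem hy.1 (hR0 h1)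
        exact h2)
    exact hle (h.w0_le_tInv_sup h16 hB h8 hx)
  intro g hg
  -- Frattini argument
  have hSH : (S : Subgroup G) ≤ H := fun s hs => subset_closure ⟨1, one_mem _, s, hs, by group⟩
  have hgS : MulAut.conj g • (S : Subgroup G) ≤ H := fun x hx => by
    have := conj_le_of_le_normalizer hCH hg (hSH (mem_conj.1 hx))
    simpa [mul_assoc] using this
  obtain ⟨c, hc⟩ := MulAction.exists_smul_eq ↥H ((g • S : Sylow 2 G).subtype (by
    rw [Sylow.coe_subgroup_smul]; exact hgS)) (S.subtype hSH)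
  have hn : (c : G) * g ∈ normalizer ((S : Subgroup G) : Set G) := by
    refine mem_normalizer_of_conj_le fun s hs => ?_
    have h1 : c * ⟨_, hgS (conj_mem_conj hs)⟩ * c⁻¹ ∈ (S.subtype hSH : Subgroup ↥H) := by
      rw [← hc, Sylow.coe_subgroup_smul]
      refine conj_mem_conj ?_
      rw [Sylow.coe_subtype, mem_subgroupOf, Sylow.coe_subgroup_smul]
      exact conj_mem_conj hs
    rw [Sylow.coe_subtype, mem_subgroupOf] at h1
    have h2 : (c : G) * (g * s * g⁻¹) * (c : G)⁻¹ ∈ (S : Subgroup G) := h1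
    rwa [show (c : G) * (g * s * g⁻¹) * (c : G)⁻¹ = (c : G) * g * s * ((c : G) * g)⁻¹ by group] at h2
  rw [show g = (c : G)⁻¹ * ((c : G) * g) by group]
  exact mul_mem (inv_mem (key c c.2)) (h.normalizer_le_w0 h16 hn)

/-- The cores normalize `w0`. -/
theorem oc_le_normalizer {a : G} (ha : a ∈ A) : oc a ≤ normalizer (w0 A : Set G) := by
  refine h.le_of_pieces (by omega) (odd_coreOf _) (h.A_normalizes_oc ha)
    (inf_le_right.trans (h.cent_le h16 hnc le_rfl (by omega))) ?_
  intro K hKA h2 y _ hyK v _ _ _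
  exact h.cent_le h16 hnc hKA (by omega) hyK

/-- `C(a)` normalizes `w0` when the components at `a` do. -/
theorem cent_elt_le_of_cov {a : G} (ha : a ∈ A) (ha1 : a ≠ 1)
    (hJ : ∀ J ∈ cov a, J ⊓ centralizer (bd a J : Set G) ≤ normalizer (w0 A : Set G)) :
    centralizer ({a} : Set G) ≤ normalizer (w0 A : Set G) :=
  (h.frattini a ha ha1).trans (sup_le (sup_le (h.oc_le_normalizer h16 hnc ha)
    (iSup₂_le fun J hJc => (h.lift a ha ha1 J hJc).trans (sup_le (h.oc_le_normalizer h16 hnc ha) (hJ J hJc))))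
    (inf_le_right.trans (h.normalizer_le_w0 h16)))

/-- `C(a)` normalizes `w0` when all centralising parts at `a` have order at least eight. -/
theorem cent_elt_le {a : G} (ha : a ∈ A) (ha1 : a ≠ 1)
    (hbig : ∀ J ∈ cov a, 8 ≤ Nat.card ↥(bd a J)) : centralizer ({a} : Set G) ≤ normalizer (w0 A : Set G) :=
  h.cent_elt_le_of_cov h16 hnc ha ha1 fun J hJ => inf_le_right.trans
    (h.cent_le h16 hnc (fun s hs => ((h.bd_iff a ha ha1 J hJ s).1 hs).1) (hbig J hJ))

omit [IsSimpleGroup G] hnc in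
/-- If `w0` is trivial, `A` centralises what the cores of a four-group have in common. -/
theorem dead (h0 : w0 A = ⊥) {E : Subgroup G} (hE : E ≤ A) (h4 : 4 ≤ Nat.card ↥E) {c : G}
    (hc : ∀ e ∈ E, e ≠ 1 → c ∈ oc e) : ∀ b ∈ A, b * c = c * b := by
  set Y : Subgroup G := ⨅ e : {e : G // e ∈ E ∧ e ≠ 1}, oc (e : G)
  obtain ⟨p, hp, hp1, -⟩ := exists_two h4 1
  obtain ⟨q, hq, hq1, hqp⟩ := exists_two h4 p
  have hYW : Y ≤ sigW A := fun y hy => h.psi_le_sigW h16 (hE hp) hp1 (hE hq) hq1 hqp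
    (lit_le_psi A _ _ (mem_lit_of_forall hp hq hp1 hq1 (h.mul_ne_one (hE hp) hqp)
      fun e he he1 => mem_iInf.1 hy ⟨e, he, he1⟩))
  have hAY : A ≤ normalizer (Y : Set G) := le_normalizer_of_conj_le fun a ha y hy =>
    mem_iInf.2 fun e => oc_conj_mem (h.A_le_cent (hE e.2.1) ha) (mem_iInf.1 hy e)
  have hb : wInv A = ⊥ := le_bot_iff.1 (h0 ▸ le_sup_left)
  have h1 : Y ≤ centralizer (A : Set G) :=
    (h.le_wInv_sup h16 hYW hAY).trans (sup_le (by rw [hb]; exact bot_le) inf_le_right)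
  intro b hb
  exact (mem_centralizer_comm.1 (h1 (mem_iInf.2 fun e => hc e e.2.1 e.2.2)) b hb).symm

omit [IsSimpleGroup G] hnc in
theorem sylow_le_normalizer_w0 : (S : Subgroup G) ≤ normalizer (w0 A : Set G) :=
  le_normalizer.trans (h.normalizer_le_w0 h16)

end CoreSys

end Cfsg.Agent.Walter.Core
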