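import Cfsg.Agent.Lib.Walter.Core.Linear
import Cfsg.Agent.Lib.Walter.Core.FunctorNormalizer

/-!
# The blocks case for a core system

`CoreSys` and a block decomposition give `BlockData`. Everything takes place in
`C(e) / O(C(e))`, where the images of the covers commute and are permuted by conjugation.
-/

set_option autoImplicit false
set_option linter.unusedSectionVars false
set_option linter.style.haveILetI false

open Subgroup
open scoped Pointwise

namespace Cfsg.Agent.Walter.Core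

universe u

variable {G : Type u} [Group G]

/-- The image in `C(e) / O(C(e))`. -/
def qmap (e : G) : ↥(centralizer ({e} : Set G)) →*
    ↥(centralizer ({e} : Set G)) ⧸ Cfsg.oddCore ↥(centralizer ({e} : Set G)) :=
  QuotientGroup.mk' _

/-- The image of a subgroup. -/
def qsub (e : G) (H : Subgroup G) :
    Subgroup (↥(centralizer ({e} : Set G)) ⧸ Cfsg.oddCore ↥(centralizer ({e} : Set G))) :=
  (H.subgroupOf (centralizer ({e} : Set G))).map (qmap e)

theorem qmap_eq_one {e : G} {x : ↥(centralizer ({e} : Set G))} : qmap e x = 1 ↔ (x : G) ∈ oc e := by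
  rw [qmap, QuotientGroup.mk'_apply, QuotientGroup.eq_one_iff]
  exact ⟨fun h => ⟨x, h, rfl⟩, fun ⟨y, hy, e'⟩ => (Subtype.ext e' : y = x) ▸ hy⟩

theorem qmap_comm {e : G} {x y : ↥(centralizer ({e} : Set G))} :
    qmap e x * qmap e y = qmap e y * qmap e x ↔ (x : G) * y * (x : G)⁻¹ * (y : G)⁻¹ ∈ oc e := by
  have h : qmap e (x * y * x⁻¹ * y⁻¹) = 1 ↔ (x : G) * y * (x : G)⁻¹ * (y : G)⁻¹ ∈ oc e := qmap_eq_one
  rw [← h, map_mul, map_mul, map_mul, map_inv, map_inv, mul_inv_eq_one, mul_inv_eq_iff_eq_mul]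

theorem mem_qsub {e : G} {H : Subgroup G} {z} :
    z ∈ qsub e H ↔ ∃ x : ↥(centralizer ({e} : Set G)), (x : G) ∈ H ∧ qmap e x = z := mem_map

theorem qmap_mem {e : G} {H : Subgroup G} {x : ↥(centralizer ({e} : Set G))} (hx : (x : G) ∈ H) :
    qmap e x ∈ qsub e H := mem_map_of_mem _ hx

theorem qsub_mono {e : G} {H K : Subgroup G} (h : H ≤ K) : qsub e H ≤ qsub e K :=
  map_mono fun _ hx => h hx

theorem qmap_conj_mem {e : G} {H : Subgroup G} (g : ↥(centralizer ({e} : Set G))) {z}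
    (hz : z ∈ qsub e H) : qmap e g * z * (qmap e g)⁻¹ ∈ qsub e (MulAut.conj (g : G) • H) := by
  obtain ⟨x, hx, rfl⟩ := mem_qsub.1 hz
  rw [← map_mul, ← map_inv, ← map_mul]
  exact qmap_mem (conj_mem_conj hx)

namespace CoreSys

variable [Finite G] {S : Sylow 2 G} {A : Subgroup G} {cov : G → Set (Subgroup G)}
  {bd : G → Subgroup G → Subgroup G} (h : CoreSys S A cov bd)

include h

theorem cov_conj_cent {e : G} (he : e ∈ A) (he1 : e ≠ 1) {g : G} (hg : g ∈ centralizer ({e} : Set G))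
    {J : Subgroup G} (hJ : J ∈ cov e) : MulAut.conj g • J ∈ cov e := by
  have e1 : g * e * g⁻¹ = e := by rw [mem_centralizer_one.1 hg, mul_inv_cancel_right]
  have := h.cov_conj e he he1 g (by rw [e1]; exact he) J hJ
  rwa [e1] at this

theorem fix_of_mem {e : G} (he : e ∈ A) (he1 : e ≠ 1) {g : G} (hg : g ∈ centralizer ({e} : Set G))
    {J : Subgroup G} (hJ : J ∈ cov e) {a : G} (ha : a ∈ A ⊓ J) (ha1 : a ≠ 1) (hga : g⁻¹ * a * g ∈ J) :
    MulAut.conj g • J = J := by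
  by_contra hne
  refine ha1 (h.disj e he he1 J hJ a ha ?_)
  exact h.orth e he he1 _ (h.cov_conj_cent he he1 hg hJ) J hJ hne ⟨ha.1, mem_conj.2 hga⟩

theorem fix_of_commute {e : G} (he : e ∈ A) (he1 : e ≠ 1) {g : G} (hg : g ∈ centralizer ({e} : Set G))
    {J : Subgroup G} (hJ : J ∈ cov e) {a : G} (ha : a ∈ A ⊓ J) (ha1 : a ≠ 1) (hga : g * a = a * g) :
    MulAut.conj g • J = J :=
  h.fix_of_mem he he1 hg hJ ha ha1 (by rw [mul_assoc, ← hga, inv_mul_cancel_left]; exact ha.2)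

theorem exists_mem_ne_cov {e : G} (he : e ∈ A) (he1 : e ≠ 1) {J : Subgroup G} (hJ : J ∈ cov e) :
    ∃ w ∈ A ⊓ J, w ≠ 1 := by
  by_contra hcon
  push Not at hcon
  have := h.four e he he1 J hJ
  rw [(eq_bot_iff_forall (A ⊓ J)).2 hcon, card_bot] at this
  omega

theorem sylow_fix {e : G} (he : e ∈ A) (he1 : e ≠ 1) {J : Subgroup G} (hJ : J ∈ cov e) {s : G}
    (hs : s ∈ (S : Subgroup G)) : MulAut.conj s • J = J := by
  obtain ⟨w, hw, hw1⟩ := h.exists_mem_ne_cov he he1 hJ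
  exact h.fix_of_commute he he1 (h.S_le_cent he hs) hJ hw hw1 (h.comm s hs w (h.A_le hw.1))

/-- An element fixing `J` normalises its image. -/
theorem qmap_mem_normalizer {e : G} {J : Subgroup G} {g : ↥(centralizer ({e} : Set G))}
    (hg : MulAut.conj (g : G) • J = J) : qmap e g ∈ normalizer (qsub e J : Set _) := by
  refine mem_normalizer_iff.2 fun z => ⟨fun hz => hg ▸ qmap_conj_mem g hz, fun hz => ?_⟩
  have h1 := qmap_conj_mem g⁻¹ hz
  rw [coe_inv, show MulAut.conj (g : G)⁻¹ • J = J by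
    conv_lhs => rw [← hg, ← mul_smul, ← map_mul, inv_mul_cancel, map_one, one_smul]] at h1
  simpa [mul_assoc] using h1

theorem bd_cent {e : G} (he : e ∈ A) (he1 : e ≠ 1) {J : Subgroup G} (hJ : J ∈ cov e) {a : G} (ha : a ∈ A) :
    qmap e ⟨a, h.A_le_cent he ha⟩ ∈ centralizer (qsub e J : Set _) ↔ a ∈ bd e J := by
  rw [h.bd_iff e he he1 J hJ a, mem_centralizer_comm]
  refine ⟨fun hc => ⟨ha, fun j hj => ?_⟩, fun hc z hz => ?_⟩
  · exact qmap_comm.1 (hc _ (qmap_mem (x := ⟨j, (h.cov_le e he he1 J hJ).2 hj⟩) hj))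
  · obtain ⟨x, hx, rfl⟩ := mem_qsub.1 hz
    exact qmap_comm.2 (hc.2 _ hx)

theorem qsub_commute {e : G} (he : e ∈ A) (he1 : e ≠ 1) {J J' : Subgroup G} (hJ : J ∈ cov e)
    (hJ' : J' ∈ cov e) (hne : J ≠ J') : qsub e J ≤ centralizer (qsub e J' : Set _) := fun z hz =>
  mem_centralizer_comm.2 fun z' hz' => by
    obtain ⟨x, hx, rfl⟩ := mem_qsub.1 hz
    obtain ⟨y, hy, rfl⟩ := mem_qsub.1 hz'
    exact qmap_comm.2 (h.commute e he he1 J hJ J' hJ' hne _ hx _ hy)

omit h in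
/-- The images of the covers. -/
def qlayer (cov : G → Set (Subgroup G)) (e : G) :
    Subgroup (↥(centralizer ({e} : Set G)) ⧸ Cfsg.oddCore ↥(centralizer ({e} : Set G))) :=
  ⨆ J ∈ cov e, qsub e J

theorem le_qlayer {e : G} {J : Subgroup G} (hJ : J ∈ cov e) : qsub e J ≤ qlayer cov e :=
  le_iSup₂ (f := fun J (_ : J ∈ cov e) => qsub e J) J hJ

theorem cent_layer {e : G} {z : ↥(centralizer ({e} : Set G)) ⧸ Cfsg.oddCore ↥(centralizer ({e} : Set G))} (hz : ∀ J ∈ cov e, z ∈ centralizer (qsub e J : Set _)) :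
    z ∈ centralizer (qlayer cov e : Set _) := by
  have : qlayer cov e ≤ centralizer ({z} : Set _) := iSup₂_le fun J hJ y hy =>
    mem_centralizer_one.2 (mem_centralizer_comm.1 (hz J hJ) y hy).symm
  exact mem_centralizer_comm.2 fun y hy => (mem_centralizer_one.1 (this hy)).symm

theorem qlayer_le_normalizer {e : G} (he : e ∈ A) (he1 : e ≠ 1) {J : Subgroup G} (hJ : J ∈ cov e) :
    qlayer cov e ≤ normalizer (qsub e J : Set _) :=
  iSup₂_le fun K hK => by
    by_cases hne : K = J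
    · rw [hne]; exact le_normalizer
    · exact (h.qsub_commute he he1 hK hJ hne).trans (centralizer_le_normalizer _)

/-- The whole quotient is the layer times the image of `N(S)`. -/
theorem eq_top_of_gen {e : G} (he : e ∈ A) (he1 : e ≠ 1)
    {K : Subgroup (↥(centralizer ({e} : Set G)) ⧸ Cfsg.oddCore ↥(centralizer ({e} : Set G)))}
    (h1 : qlayer cov e ≤ K)
    (h2 : ∀ n : ↥(centralizer ({e} : Set G)), (n : G) ∈ normalizer ((S : Subgroup G) : Set G) → qmap e n ∈ K) :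
    K = ⊤ := by
  refine eq_top_iff.2 fun z _ => ?_
  obtain ⟨x, rfl⟩ := QuotientGroup.mk'_surjective _ z
  have hle : oc e ⊔ (⨆ J ∈ cov e, J) ⊔
      (centralizer ({e} : Set G) ⊓ normalizer ((S : Subgroup G) : Set G)) ≤
      (K.comap (qmap e)).map (centralizer ({e} : Set G)).subtype := by
    refine sup_le (sup_le (fun g hg => ⟨⟨g, oc_le e hg⟩, ?_, rfl⟩)
      (iSup₂_le fun J hJ g hg => ⟨⟨g, (h.cov_le e he he1 J hJ).2 hg⟩, ?_, rfl⟩))
      (fun g hg => ⟨⟨g, hg.1⟩, h2 _ hg.2, rfl⟩)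
    · show qmap e _ ∈ K
      rw [qmap_eq_one.2 (show ((⟨g, oc_le e hg⟩ : ↥(centralizer ({e} : Set G))) : G) ∈ oc e from hg)]
      exact one_mem K
    · exact h1 (h.le_qlayer hJ (qmap_mem hg))
  obtain ⟨y, hy, e'⟩ := hle (h.frattini e he he1 x.2)
  rw [← (Subtype.ext e' : y = x)]
  exact hy

theorem qlayer_normal {e : G} (he : e ∈ A) (he1 : e ≠ 1) : (qlayer cov e).Normal := by
  refine ⟨fun z hz g => ?_⟩
  obtain ⟨x, rfl⟩ := QuotientGroup.mk'_surjective _ g
  have : qlayer cov e ≤ (qlayer cov e).comap (MulAut.conj (qmap e x)).toMonoidHom :=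
    iSup₂_le fun J hJ y hy => h.le_qlayer (h.cov_conj_cent he he1 x.2 hJ) (qmap_conj_mem x hy)
  exact this hz

theorem normal_sup_A {e : G} (he : e ∈ A) (he1 : e ≠ 1) : (qlayer cov e ⊔ qsub e A).Normal := by
  haveI := h.qlayer_normal he he1
  refine normalizer_eq_top_iff.1 (h.eq_top_of_gen he he1 (le_sup_left.trans le_normalizer) fun n hn => ?_)
  refine le_normalizer_of_conj_mem (X := zpowers (qmap e n)) ?_ (mem_zpowers _)
  rintro _ ⟨k, rfl⟩ z hz
  have : qlayer cov e ⊔ qsub e A ≤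
      (qlayer cov e ⊔ qsub e A).comap (MulAut.conj (qmap e n ^ k)).toMonoidHom := by
    refine sup_le (fun y hy => mem_sup_left ((h.qlayer_normal he he1).conj_mem y hy _)) fun y hy => ?_
    refine mem_sup_right ?_
    show qmap e n ^ k * y * (qmap e n ^ k)⁻¹ ∈ qsub e A
    obtain ⟨a, ha, rfl⟩ := mem_qsub.1 hy
    rw [← map_zpow, ← map_mul, ← map_inv, ← map_mul]
    refine qmap_mem ?_
    have hnk : ((n ^ k : ↥(centralizer ({e} : Set G))) : G) ∈ normalizer (A : Set G) := by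
      rw [SubgroupClass.coe_zpow]
      exact zpow_mem (h.normalizer_A hn) k
    exact (mem_normalizer_iff.1 hnk a).1 ha
  exact this hz

/-- An element of order two of a component is not central in it. -/
theorem central_invol {e : G} (he : e ∈ A) (he1 : e ≠ 1) {J : Subgroup G} (hJ : J ∈ cov e) {y}
    (hy : y ∈ qsub e J) (hy2 : y * y = 1) (hc : y ∈ centralizer (qsub e J : Set _)) : y = 1 := by
  haveI : Fact (Nat.Prime 2) := ⟨Nat.prime_two⟩
  obtain ⟨d, hd, rfl⟩ := mem_qsub.1 hy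
  have hd2 : ((d : G) * d) ∈ oc e := by
    have : qmap e (d * d) = 1 := by rw [map_mul]; exact hy2
    exact qmap_eq_one.1 this
  set m := orderOf ((d : G) * d) with hm
  have hmodd : Odd m := (odd_coreOf _).of_dvd_nat (by
    rw [hm, ← Subgroup.orderOf_mk _ hd2]; exact orderOf_dvd_natCard _)
  set y' := d ^ m with hy'
  have hy'2 : (y' : G) * y' = 1 := by
    rw [hy', SubgroupClass.coe_pow, ← (Commute.refl (d : G)).mul_pow, hm, pow_orderOf_eq_one]
  have hqy : qmap e y' = qmap e d := by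
    obtain ⟨k, hk⟩ := hmodd
    rw [hy', map_pow, hk, pow_succ, pow_mul, pow_two, hy2, one_pow, one_mul]
  have hy'J : (y' : G) ∈ J := by rw [hy', SubgroupClass.coe_pow]; exact pow_mem hd m
  have hSN : (S : Subgroup G) ≤ normalizer (J : Set G) := fun s hs => mem_normalizer_iff.2 fun x => by
    conv_rhs => rw [← h.sylow_fix he he1 hJ hs, mem_conj]
    simp [mul_assoc]
  set H := J ⊔ (S : Subgroup G)
  have hP : IsPGroup 2 ↥((zpowers (y' : G)).subgroupOf H) :=
    (isPGroup_zpowers_of_pow (k := 1) (by rw [pow_one, pow_two, hy'2])).of_equiv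
      (subgroupOfEquivOfLe (zpowers_le.2 (mem_sup_left hy'J) : zpowers (y' : G) ≤ H)).symm
  obtain ⟨T, hT⟩ := hP.exists_le_sylow
  obtain ⟨u, hu⟩ := MulAction.exists_smul_eq ↥H T (S.subtype (le_sup_right : (S : Subgroup G) ≤ H))
  have h1 : u * ⟨(y' : G), mem_sup_left hy'J⟩ * u⁻¹ ∈
      (S.subtype (le_sup_right : (S : Subgroup G) ≤ H) : Subgroup ↥H) := by
    rw [← hu, Sylow.coe_subgroup_smul]
    exact conj_mem_conj (hT (mem_subgroupOf.2 (mem_zpowers (y' : G))))
  rw [Sylow.coe_subtype, mem_subgroupOf] at h1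
  have h2 : (u : G) * y' * (u : G)⁻¹ ∈ (S : Subgroup G) := h1
  have h3 : (u : G) ∈ J ⊔ (S : Subgroup G) := u.2
  rw [← SetLike.mem_coe, coe_mul_of_right_le_normalizer_left _ _ hSN] at h3
  obtain ⟨j, hj, s, hs, ejs⟩ := h3
  set j' := s⁻¹ * j * s with hj'
  have hj'J : j' ∈ J := (mem_normalizer_iff''.1 (hSN hs) j).1 hj
  set a := j' * y' * j'⁻¹ with ha
  have haS : a ∈ (S : Subgroup G) := by
    have := mul_mem (mul_mem (inv_mem hs) h2) hs
    rwa [← ejs, show s⁻¹ * (j * s * (y' : G) * (j * s)⁻¹) * s = a by rw [ha, hj']; group] at this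
  have haA : a ∈ A := (h.omega a).2 ⟨haS, by
    rw [ha, show j' * (y' : G) * j'⁻¹ * (j' * y' * j'⁻¹) = j' * ((y' : G) * y') * j'⁻¹ by group, hy'2,
      mul_one, mul_inv_cancel]⟩
  let jj : ↥(centralizer ({e} : Set G)) := ⟨j', (h.cov_le e he he1 J hJ).2 hj'J⟩
  have hqa : qmap e ⟨a, h.A_le_cent he haA⟩ = qmap e d := by
    rw [show (⟨a, h.A_le_cent he haA⟩ : ↥(centralizer ({e} : Set G))) = jj * y' * jj⁻¹ from Subtype.ext rfl,
      map_mul, map_mul, map_inv, hqy, ← mem_centralizer_comm.1 hc _ (qmap_mem (x := jj) hj'J),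
      mul_inv_cancel_right]
  have ha1 := h.disj e he he1 J hJ a ⟨haA, J.mul_mem (J.mul_mem hj'J hy'J) (J.inv_mem hj'J)⟩
    ((h.bd_cent he he1 hJ haA).1 (hqa ▸ hc))
  rw [← hqa, ← map_one (qmap e)]
  exact congrArg _ (Subtype.ext ha1)

/-- Every element of `A` is a product of elements of the components and one centralising all of them. -/
theorem exists_decomp {e : G} (he : e ∈ A) (he1 : e ≠ 1) {b : G} (hb : b ∈ A) :
    ∃ v ∈ A, v ∈ (⨆ J ∈ cov e, A ⊓ J : Subgroup G) ∧ ∀ J ∈ cov e, v⁻¹ * b ∈ bd e J := by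
  classical
  have hfin : (cov e).Finite := Set.toFinite _
  suffices key : ∀ s : Finset (Subgroup G), (↑s : Set (Subgroup G)) ⊆ cov e →
      ∃ v ∈ A, v ∈ (⨆ J ∈ cov e, A ⊓ J : Subgroup G) ∧ ∀ J ∈ s, v⁻¹ * b ∈ bd e J by
    obtain ⟨v, hvA, hv, hall⟩ := key hfin.toFinset (by simp)
    exact ⟨v, hvA, hv, fun J hJ => hall J (hfin.mem_toFinset.2 hJ)⟩
  intro s
  induction s using Finset.induction with
  | empty => exact fun _ => ⟨1, one_mem _, one_mem _, fun J hJ => absurd hJ (Finset.notMem_empty J)⟩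
  | @insert J s hJs ih =>
    intro hs
    rw [Finset.coe_insert, Set.insert_subset_iff] at hs
    obtain ⟨v, hvA, hv, hall⟩ := ih hs.2
    have hbdA : ∀ {x}, x ∈ bd e J → x ∈ A := fun hx => ((h.bd_iff e he he1 J hs.1 _).1 hx).1
    have hN : bd e J ≤ normalizer ((A ⊓ J : Subgroup G) : Set G) := fun x hx =>
      centralizer_le_normalizer _ (mem_centralizer_comm.2 fun y hy => h.A_comm (hbdA hx) hy.1)
    have hm := h.span e he he1 J hs.1 (mul_mem (inv_mem hvA) hb)
    rw [← SetLike.mem_coe, coe_mul_of_right_le_normalizer_left _ _ hN] at hm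
    obtain ⟨w, hw, r, hr, ewr⟩ := hm
    have er : r = (v * w)⁻¹ * b := by
      rw [mul_inv_rev, mul_assoc, ← ewr, inv_mul_cancel_left]
    refine ⟨v * w, mul_mem hvA hw.1, mul_mem hv (le_iSup₂ (f := fun J (_ : J ∈ cov e) => A ⊓ J) J hs.1 hw),
      fun K hK => ?_⟩
    rcases Finset.mem_insert.1 hK with rfl | hK'
    · exact er ▸ hr
    · have hne : J ≠ K := fun e' => hJs (e' ▸ hK')
      have hwK : w ∈ bd e K := h.orth e he he1 J hs.1 K (hs.2 hK') hne hw
      rw [mul_inv_rev, mul_assoc]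
      exact mul_mem (inv_mem hwK) (hall K hK')

theorem qmap_mem_layer {e : G} (he : e ∈ A) {v : G} (hvA : v ∈ A)
    (hv : v ∈ (⨆ J ∈ cov e, A ⊓ J : Subgroup G)) : qmap e ⟨v, h.A_le_cent he hvA⟩ ∈ qlayer cov e := by
  have hle : (⨆ J ∈ cov e, A ⊓ J : Subgroup G) ≤
      ((qlayer cov e).comap (qmap e)).map (centralizer ({e} : Set G)).subtype :=
    iSup₂_le fun J hJ x hx => ⟨⟨x, h.A_le_cent he hx.1⟩, h.le_qlayer hJ (qmap_mem hx.2), rfl⟩
  obtain ⟨y, hy, e'⟩ := hle hv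
  rw [← (Subtype.ext e' : y = ⟨v, h.A_le_cent he hvA⟩)]
  exact hy

/-- A central element of the layer centralises the image of `A`. -/
theorem center_layer_comm {e : G} (he : e ∈ A) (he1 : e ≠ 1) {u}
    (hu : u ∈ qlayer cov e) (hc : u ∈ centralizer (qlayer cov e : Set _)) :
    u ∈ centralizer (qsub e A : Set _) := by
  refine mem_centralizer_comm.2 fun z hz => ?_
  obtain ⟨b, hb, rfl⟩ := mem_qsub.1 hz
  obtain ⟨v, hvA, hv, hr⟩ := h.exists_decomp he he1 hb
  set r := v⁻¹ * (b : G) with hrdef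
  have hrA : r ∈ A := mul_mem (inv_mem hvA) hb
  have hbe : b = ⟨v, h.A_le_cent he hvA⟩ * ⟨r, h.A_le_cent he hrA⟩ :=
    Subtype.ext (mul_inv_cancel_left v (b : G)).symm
  rw [hbe, map_mul, ← mul_assoc, mem_centralizer_comm.1 hc _ (h.qmap_mem_layer he hvA hv), mul_assoc,
    ← mem_centralizer_comm.1 (h.cent_layer fun J hJ => (h.bd_cent he he1 hJ hrA).2 (hr J hJ)) u hu, mul_assoc]

/-- A product of two conjugates belonging to different blocks. -/
theorem sep {bl : Set (Subgroup G)} (hbl : Blocks S A cov bd bl) {P Q : Subgroup G} (hP : P ∈ bl)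
    (hQ : Q ∈ bl) (hne : P ≠ Q) {e : G} (he : e ∈ Bc bl P ⊓ Bc bl Q) (he1 : e ≠ 1)
    {g : G} (hg : g ∈ centralizer (Bc bl P : Set G)) {k : G} (hk : k ∈ centralizer (Bc bl Q : Set G))
    {p : G} (hp : p ∈ P) {q : G} (hq : q ∈ Q) : ((g * p * g⁻¹) * (k * q * k⁻¹)) ^ 4 ∈ oc e := by
  have heA : e ∈ A := (sSup_le (fun R (hR : R ∈ bl \ {P}) => hbl.le R hR.1) : Bc bl P ≤ A) he.1
  haveI := h.qlayer_normal heA he1
  haveI := h.normal_sup_A heA he1
  have key : ∀ (P : Subgroup G), P ∈ bl → e ∈ Bc bl P → ∀ g ∈ centralizer (Bc bl P : Set G), ∀ p ∈ P,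
      ∃ X : ↥(centralizer ({e} : Set G)), (X : G) = g * p * g⁻¹ ∧ qmap e X * qmap e X = 1 ∧
        qmap e X ∈ qlayer cov e ⊔ qsub e A ∧
        ∀ J ∈ cov e, (∃ R ∈ bl, R ≠ P ∧ A ⊓ J ≤ R ∧ Bc bl R ≤ bd e J) →
          qmap e X ∈ centralizer (qsub e J : Set _) := by
    intro P hP heP g hg p hp
    have hgC : g ∈ centralizer ({e} : Set G) := mem_centralizer_one.2 (mem_centralizer_comm.1 hg e heP)
    let g' : ↥(centralizer ({e} : Set G)) := ⟨g, hgC⟩
    let p' : ↥(centralizer ({e} : Set G)) := ⟨p, h.A_le_cent heA (hbl.le P hP hp)⟩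
    refine ⟨g' * p' * g'⁻¹, rfl, ?_, ?_, ?_⟩
    · rw [← map_mul, ← map_one (qmap e)]
      refine congrArg _ (Subtype.ext ?_)
      show g * p * g⁻¹ * (g * p * g⁻¹) = 1
      rw [show g * p * g⁻¹ * (g * p * g⁻¹) = g * (p * p) * g⁻¹ by group, h.sq (hbl.le P hP hp), mul_one,
        mul_inv_cancel]
    · rw [map_mul, map_mul, map_inv]
      exact (h.normal_sup_A heA he1).conj_mem _ (mem_sup_right (qmap_mem (hbl.le P hP hp))) _
    · rintro J hJ ⟨R, hR, hRP, hJR, hRbd⟩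
      obtain ⟨w, hw, hw1⟩ := h.exists_mem_ne_cov heA he1 hJ
      have hfix := h.fix_of_commute heA he1 hgC hJ hw hw1
        (mem_centralizer_comm.1 hg w ((le_sSup ⟨hR, hRP⟩ : R ≤ Bc bl P) (hJR hw)))
      have hpc : qmap e p' ∈ centralizer (qsub e J : Set _) := (h.bd_cent heA he1 hJ (hbl.le P hP hp)).2
        (hRbd ((le_sSup ⟨hP, Ne.symm hRP⟩ : P ≤ Bc bl R) hp))
      have hn := mem_normalizer_iff''.1 (h.qmap_mem_normalizer (g := g') hfix)
      refine mem_centralizer_comm.2 fun z hz => ?_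
      have h1 := mem_centralizer_comm.1 hpc _ ((hn z).1 hz)
      rw [map_mul, map_mul, map_inv]
      calc qmap e g' * qmap e p' * (qmap e g')⁻¹ * z
          = qmap e g' * (qmap e p' * ((qmap e g')⁻¹ * z * qmap e g')) * (qmap e g')⁻¹ := by group
        _ = z * (qmap e g' * qmap e p' * (qmap e g')⁻¹) := by rw [h1]; group
  obtain ⟨X, hX, hX2, hXW, hXc⟩ := key P hP he.1 g hg p hp
  obtain ⟨Y, hY, hY2, hYW, hYc⟩ := key Q hQ he.2 k hk q hq
  have hgoal : qmap e ((X * Y) ^ 4) = 1 → ((g * p * g⁻¹) * (k * q * k⁻¹)) ^ 4 ∈ oc e := fun h4 => by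
    have := qmap_eq_one.1 h4
    rwa [SubgroupClass.coe_pow, Subgroup.coe_mul, hX, hY] at this
  refine hgoal ?_
  set x := qmap e X
  set y := qmap e Y
  set W := qlayer cov e ⊔ qsub e A with hW
  -- squares of `W` lie in the layer
  have hWsq : ∀ w ∈ W, w * w ∈ qlayer cov e := by
    intro w hw
    rw [hW, sup_comm, ← SetLike.mem_coe, coe_mul_of_left_le_normalizer_right _ _
      (by rw [normalizer_eq_top_iff.2 (h.qlayer_normal heA he1)]; exact le_top)] at hw
    obtain ⟨a, ha, u, hu, rfl⟩ := hw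
    obtain ⟨a', ha', rfl⟩ := mem_qsub.1 ha
    have ha2 : qmap e a' * qmap e a' = 1 := by
      rw [← map_mul, ← map_one (qmap e)]; exact congrArg _ (Subtype.ext (h.sq ha'))
    show qmap e a' * u * (qmap e a' * u) ∈ _
    rw [show qmap e a' * u * (qmap e a' * u) =
      qmap e a' * u * (qmap e a')⁻¹ * (qmap e a' * qmap e a') * u by group, ha2, mul_one]
    exact mul_mem ((h.qlayer_normal heA he1).conj_mem u hu _) hu
  have hxi : x⁻¹ = x := inv_eq_of_mul_eq_one_right hX2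
  have hyi : y⁻¹ = y := inv_eq_of_mul_eq_one_right hY2
  have hWJ : ∀ J ∈ cov e, W ≤ normalizer (qsub e J : Set _) := fun J hJ =>
    sup_le (h.qlayer_le_normalizer heA he1 hJ) fun z hz => by
      obtain ⟨a, ha, rfl⟩ := mem_qsub.1 hz
      exact h.qmap_mem_normalizer (h.sylow_fix heA he1 hJ (h.A_le ha))
  set c := (x * y) ^ 2 with hc
  have hcU : c ∈ qlayer cov e := by rw [hc, pow_two]; exact hWsq _ (mul_mem hXW hYW)
  have hcC : c ∈ centralizer (qlayer cov e : Set _) := h.cent_layer fun J hJ => by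
    obtain ⟨R, hR, hJR, hRbd⟩ := hbl.inside e heA he1 J hJ
    have hxN := mem_normalizer_iff.1 (hWJ J hJ hXW)
    have hyN := mem_normalizer_iff.1 (hWJ J hJ hYW)
    refine mem_centralizer_comm.2 fun z hz => ?_
    suffices hs : c * z * c⁻¹ = z by
      calc c * z = c * z * c⁻¹ * c := by group
        _ = z * c := by rw [hs]
    rw [hc, pow_two, mul_inv_rev, mul_inv_rev, hxi, hyi]
    rcases Classical.em (R = P) with e' | e'
    · have hyc : ∀ t ∈ qsub e J, y * t * y = t := fun t ht => by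
        rw [mem_centralizer_comm.1 (hYc J hJ ⟨R, hR, fun e'' => hne (e'.symm.trans e''), hJR, hRbd⟩) t ht,
          mul_assoc, hY2, mul_one]
      have hxz : x * z * x ∈ qsub e J := by have := (hxN z).1 hz; rwa [hxi] at this
      rw [show x * y * (x * y) * z * (y * x * (y * x)) = x * (y * (x * (y * z * y) * x) * y) * x by group,
        hyc z hz, hyc _ hxz, show x * (x * z * x) * x = x * x * z * (x * x) by group, hX2, one_mul, mul_one]
    · have hxc : ∀ t ∈ qsub e J, x * t * x = t := fun t ht => by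
        rw [mem_centralizer_comm.1 (hXc J hJ ⟨R, hR, e', hJR, hRbd⟩) t ht, mul_assoc, hX2, mul_one]
      have hyz : y * z * y ∈ qsub e J := by have := (hyN z).1 hz; rwa [hyi] at this
      rw [show x * y * (x * y) * z * (y * x * (y * x)) = x * (y * (x * (y * z * y) * x) * y) * x by group,
        hxc _ hyz, show y * (y * z * y) * y = y * y * z * (y * y) by group, hY2, one_mul, mul_one, hxc z hz]
  have hWc : W ≤ centralizer ({c} : Set _) := sup_le
    (fun z hz => mem_centralizer_one.2 (mem_centralizer_comm.1 hcC z hz).symm)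
    (fun z hz => mem_centralizer_one.2 (mem_centralizer_comm.1 (h.center_layer_comm heA he1 hcU hcC) z hz).symm)
  have hcx : x * c * x⁻¹ = c := by rw [mem_centralizer_one.1 (hWc hXW), mul_inv_cancel_right]
  have hinv : x * c * x⁻¹ = c⁻¹ := by rw [hc, ← conj_pow, ← inv_pow, conj_mul_eq_inv hX2 hY2]
  have h4 : c * c = 1 := mul_eq_one_iff_eq_inv.2 (hcx.symm.trans hinv)
  rw [map_pow, map_mul]
  rw [hc] at h4
  rw [show (4 : ℕ) = 2 + 2 from rfl, pow_add]
  exact h4

/-- An element of odd order centralising a hyperplane without a block complement centralises `A` mod core. -/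
theorem flat {bl : Set (Subgroup G)} (hbl : Blocks S A cov bd bl) {K : Subgroup G} (hK : K ≤ A)
    (hKi : K.relIndex A = 2) (hno : ∀ P ∈ bl, ¬ Bc bl P ≤ K) {e : G} (he : e ∈ K) (he1 : e ≠ 1)
    {x : G} (hx : x ∈ centralizer (K : Set G)) (hxo : Odd (orderOf x)) {b : G} (hb : b ∈ A) :
    x⁻¹ * (b * x * b⁻¹) ∈ oc e := by
  have heA := hK he
  have hxC : x ∈ centralizer ({e} : Set G) := mem_centralizer_one.2 (mem_centralizer_comm.1 hx e he)
  have hidx : ∀ a ∈ A, ∀ a' ∈ A, a ∉ K → a' ∉ K → a * a' ∈ K := fun a ha a' ha' hna hna' =>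
    (Subgroup.mul_mem_iff_of_index_two (H := K.subgroupOf A) hKi (a := ⟨a, ha⟩) (b := ⟨a', ha'⟩)).2
      ⟨fun hm => absurd hm hna, fun hm => absurd hm hna'⟩
  let x' : ↥(centralizer ({e} : Set G)) := ⟨x, hxC⟩
  set xq := qmap e x' with hxq
  have hKc : ∀ k (hk : k ∈ K), xq * qmap e ⟨k, h.A_le_cent heA (hK hk)⟩ =
      qmap e ⟨k, h.A_le_cent heA (hK hk)⟩ * xq := fun k hk => by
    rw [hxq, ← map_mul, ← map_mul]
    exact congrArg _ (Subtype.ext (mem_centralizer_comm.1 hx k hk))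
  -- the components are fixed and their parts in `A` centralised
  have hfix : ∀ J ∈ cov e, MulAut.conj x • J = J := by
    intro J hJ
    obtain ⟨w₁, hw₁, hw₁1⟩ := h.exists_mem_ne_cov heA he1 hJ
    obtain ⟨w₂, hw₂, hw₂1, hne⟩ : ∃ w₂ ∈ A ⊓ J, w₂ ≠ 1 ∧ w₂ ≠ w₁ := by
      by_contra hcon
      push Not at hcon
      have hsub : ((A ⊓ J : Subgroup G) : Set G) ⊆ {1, w₁} := fun y hy => by
        by_cases h1 : y = 1
        · exact Or.inl h1
        · exact Or.inr (hcon y hy h1)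
      have h2 := Set.ncard_le_ncard hsub (Set.toFinite _)
      have h3 : ({1, w₁} : Set G).ncard ≤ 2 := (Set.ncard_insert_le _ _).trans (by simp)
      have h4 : ((A ⊓ J : Subgroup G) : Set G).ncard = Nat.card ↥(A ⊓ J) := rfl
      have := h.four e heA he1 J hJ
      omega
    obtain ⟨w, hw, hw1, hwK⟩ : ∃ w ∈ A ⊓ J, w ≠ 1 ∧ w ∈ K := by
      by_cases h1 : w₁ ∈ K
      · exact ⟨w₁, hw₁, hw₁1, h1⟩
      by_cases h2 : w₂ ∈ K
      · exact ⟨w₂, hw₂, hw₂1, h2⟩
      refine ⟨w₁ * w₂, mul_mem hw₁ hw₂, fun e' => hne ?_, hidx _ hw₁.1 _ hw₂.1 h1 h2⟩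
      exact mul_left_cancel (e'.trans (h.sq hw₁.1).symm)
    exact h.fix_of_commute heA he1 hxC hJ hw hw1 (mem_centralizer_comm.1 hx w hwK)
  have hW : ∀ J ∈ cov e, ∀ w (hw : w ∈ A ⊓ J),
      xq * qmap e ⟨w, h.A_le_cent heA hw.1⟩ = qmap e ⟨w, h.A_le_cent heA hw.1⟩ * xq := by
    intro J hJ w hw
    obtain ⟨R, hR, -, hRbd⟩ := hbl.inside e heA he1 J hJ
    obtain ⟨r, hr, hrA, hwr⟩ : ∃ r, r ∈ bd e J ∧ r ∈ A ∧ w * r ∈ K := by
      by_cases hwK : w ∈ K
      · exact ⟨1, one_mem _, one_mem _, by rwa [mul_one]⟩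
      obtain ⟨s, hs, hsK⟩ := SetLike.not_le_iff_exists.1 (hno R hR)
      have hsA : s ∈ A := ((h.bd_iff e heA he1 J hJ s).1 (hRbd hs)).1
      exact ⟨s, hRbd hs, hsA, hidx _ hw.1 _ hsA hwK hsK⟩
    set wq := qmap e ⟨w, h.A_le_cent heA hw.1⟩ with hwq
    set rq := qmap e ⟨r, h.A_le_cent heA hrA⟩ with hrq
    have hk : xq * (wq * rq) = wq * rq * xq := by
      rw [hwq, hrq, ← map_mul]
      exact hKc _ hwr
    have hxn : xq ∈ normalizer (qsub e J : Set _) := h.qmap_mem_normalizer (hfix J hJ)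
    have hwJ : wq ∈ qsub e J := qmap_mem hw.2
    have hrc : rq ∈ centralizer (qsub e J : Set _) := (h.bd_cent heA he1 hJ hrA).2 hr
    set d := wq⁻¹ * (xq * wq * xq⁻¹) with hd
    have hdJ : d ∈ qsub e J := mul_mem (inv_mem hwJ) ((mem_normalizer_iff.1 hxn wq).1 hwJ)
    have hdr : d = rq * (xq * rq * xq⁻¹)⁻¹ := by
      calc d = wq⁻¹ * (xq * (wq * rq) * xq⁻¹) * (xq * rq * xq⁻¹)⁻¹ := by rw [hd]; group
        _ = rq * (xq * rq * xq⁻¹)⁻¹ := by rw [hk, mul_inv_cancel_right, inv_mul_cancel_left]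
    have hdc : d ∈ centralizer (qsub e J : Set _) := by
      rw [hdr]
      refine mul_mem hrc (inv_mem (mem_centralizer_comm.2 fun z hz => ?_))
      have h1 := mem_centralizer_comm.1 hrc _ ((mem_normalizer_iff''.1 hxn z).1 hz)
      calc xq * rq * xq⁻¹ * z = xq * (rq * (xq⁻¹ * z * xq)) * xq⁻¹ := by group
        _ = z * (xq * rq * xq⁻¹) := by rw [h1]; group
    have hw2 : wq * wq = 1 := by
      rw [hwq, ← map_mul, ← map_one (qmap e)]; exact congrArg _ (Subtype.ext (h.sq hw.1))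
    have hd2 : d * d = 1 := by
      have h1 : (wq * d) * (wq * d) = 1 := by
        rw [hd, mul_inv_cancel_left, show xq * wq * xq⁻¹ * (xq * wq * xq⁻¹) = xq * (wq * wq) * xq⁻¹ by group,
          hw2, mul_one, mul_inv_cancel]
      rwa [show wq * d * (wq * d) = wq * (d * wq) * d by group, mem_centralizer_comm.1 hdc wq hwJ,
        show wq * (wq * d) * d = wq * wq * (d * d) by group, hw2, one_mul] at h1
    have h1 := h.central_invol heA he1 hJ hdJ hd2 hdc
    rw [hd, inv_mul_eq_one] at h1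
    conv_rhs => rw [h1]
    rw [inv_mul_cancel_right]
  -- decompose `b`
  obtain ⟨v, hvA, hv, hr⟩ := h.exists_decomp heA he1 hb
  set r := v⁻¹ * b with hrdef
  have hrA : r ∈ A := mul_mem (inv_mem hvA) hb
  have hxv : xq * qmap e ⟨v, h.A_le_cent heA hvA⟩ = qmap e ⟨v, h.A_le_cent heA hvA⟩ * xq := by
    have hle : (⨆ J ∈ cov e, A ⊓ J : Subgroup G) ≤
        ((centralizer ({xq} : Set _)).comap (qmap e)).map (centralizer ({e} : Set G)).subtype :=
      iSup₂_le fun J hJ y hy => ⟨⟨y, h.A_le_cent heA hy.1⟩,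
        mem_centralizer_one.2 (hW J hJ y hy).symm, rfl⟩
    obtain ⟨y, hy, e'⟩ := hle hv
    rw [← (Subtype.ext e' : y = ⟨v, h.A_le_cent heA hvA⟩)]
    exact (mem_centralizer_one.1 hy).symm
  -- the part centralising the layer
  let Z : Subgroup G := A ⊓ ⨅ J : {J // J ∈ cov e}, bd e J
  have hZ : ∀ a, a ∈ Z ↔ a ∈ A ∧ ∀ J ∈ cov e, a ∈ bd e J := fun a => by
    simp only [Z, mem_inf, mem_iInf, Subtype.forall]
  have hZn : (qsub e Z).Normal := by
    refine normalizer_eq_top_iff.1 (h.eq_top_of_gen heA he1 ?_ ?_)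
    · refine le_trans (fun z hz => mem_centralizer_comm.2 fun a ha => ?_)
        (centralizer_le_normalizer _)
      obtain ⟨a', ha', rfl⟩ := mem_qsub.1 ha
      exact (mem_centralizer_comm.1 (h.cent_layer fun J hJ =>
        (h.bd_cent heA he1 hJ ((hZ _).1 ha').1).2 (((hZ _).1 ha').2 J hJ)) z hz).symm
    · have hn' : ∀ n : ↥(centralizer ({e} : Set G)), (n : G) ∈ normalizer ((S : Subgroup G) : Set G) →
          ∀ z ∈ qsub e Z, qmap e n * z * (qmap e n)⁻¹ ∈ qsub e Z := by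
        intro n hn z hz
        obtain ⟨a, ha, rfl⟩ := mem_qsub.1 hz
        rw [← map_mul, ← map_inv, ← map_mul]
        refine qmap_mem ((hZ _).2 ⟨(mem_normalizer_iff.1 (h.normalizer_A hn) _).1 ((hZ _).1 ha).1,
          fun J hJ => ?_⟩)
        have hnA : ((n * a * n⁻¹ : ↥(centralizer ({e} : Set G))) : G) ∈ A :=
          (mem_normalizer_iff.1 (h.normalizer_A hn) _).1 ((hZ _).1 ha).1
        refine (h.bd_cent heA he1 hJ hnA).1 (mem_centralizer_comm.2 fun z hz => ?_)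
        have h1 := mem_centralizer_comm.1 ((h.bd_cent heA he1 (h.cov_conj_cent heA he1 (inv_mem n.2) hJ)
          ((hZ _).1 ha).1).2 (((hZ _).1 ha).2 _ (h.cov_conj_cent heA he1 (inv_mem n.2) hJ)))
          _ (qmap_conj_mem n⁻¹ hz)
        rw [map_inv, inv_inv] at h1
        show qmap e (n * a * n⁻¹) * z = z * qmap e (n * a * n⁻¹)
        rw [map_mul, map_mul, map_inv]
        calc qmap e n * qmap e a * (qmap e n)⁻¹ * z
            = qmap e n * (qmap e a * ((qmap e n)⁻¹ * z * qmap e n)) * (qmap e n)⁻¹ := by group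
          _ = z * (qmap e n * qmap e a * (qmap e n)⁻¹) := by rw [h1]; group
      intro n hn
      refine mem_normalizer_iff.2 fun z => ⟨hn' n hn z, fun hz => ?_⟩
      have := hn' n⁻¹ (by rw [coe_inv]; exact inv_mem hn) _ hz
      simpa [mul_assoc] using this
  have hrZ : r ∈ Z := (hZ r).2 ⟨hrA, hr⟩
  set rq := qmap e ⟨r, h.A_le_cent heA hrA⟩ with hrq
  have hxr : xq * rq = rq * xq := by
    by_cases hrK : r ∈ K
    · exact hKc r hrK
    obtain ⟨r', hr', e'⟩ := mem_qsub.1 (hZn.conj_mem rq (qmap_mem hrZ) xq)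
    have hr'A : (r' : G) ∈ A := ((hZ _).1 hr').1
    have hr'K : (r' : G) ∉ K := by
      intro hmem
      refine hrK ?_
      have h1 := hKc _ hmem
      rw [show (⟨(r' : G), h.A_le_cent heA (hK hmem)⟩ : ↥(centralizer ({e} : Set G))) = r' from rfl, e'] at h1
      have h2 : rq = qmap e r' := by
        rw [e']
        exact mul_left_cancel (mul_right_cancel (show xq * rq * xq⁻¹ = xq * (xq * rq * xq⁻¹) * xq⁻¹ by
          rw [h1, mul_inv_cancel_right]))
      have h3 : qmap e (⟨r, h.A_le_cent heA hrA⟩⁻¹ * r') = 1 := by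
        rw [map_mul, map_inv, ← hrq, h2, inv_mul_cancel]
      have h4 : r⁻¹ * (r' : G) = 1 := eq_one_of_sq_of_odd (odd_coreOf _) (qmap_eq_one.1 h3)
        (h.sq (mul_mem (inv_mem hrA) hr'A))
      rwa [eq_of_inv_mul_eq_one h4]
    set k := r * (r' : G) with hk
    have hkK : k ∈ K := hidx _ hrA _ hr'A hrK hr'K
    set kq := qmap e ⟨k, h.A_le_cent heA (hK hkK)⟩ with hkq
    have h1 : rq * kq = qmap e r' := by
      rw [hrq, hkq, ← map_mul]
      refine congrArg _ (Subtype.ext ?_)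
      show r * (r * (r' : G)) = r'
      rw [← mul_assoc, h.sq hrA, one_mul]
    have h2 : qmap e r' * kq = rq := by
      rw [hrq, hkq, ← map_mul]
      refine congrArg _ (Subtype.ext ?_)
      show (r' : G) * (r * (r' : G)) = r
      rw [h.A_comm hrA hr'A, ← mul_assoc, h.sq hr'A, one_mul]
    have hcyc : xq * xq * rq = rq * (xq * xq) := by
      have h3 : xq * rq = qmap e r' * xq := by rw [e', inv_mul_cancel_right]
      have h4 : xq * qmap e r' = rq * xq := by
        rw [← h1, ← mul_assoc, h3, mul_assoc, hKc k hkK, ← mul_assoc, h2]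
      rw [mul_assoc, h3, ← mul_assoc, h4, mul_assoc]
    obtain ⟨m, hm⟩ := hxo
    have hxm : xq = (xq * xq) ^ (m + 1) := by
      rw [← pow_two, ← pow_mul, show 2 * (m + 1) = orderOf x + 1 by omega, pow_succ, hxq, ← map_pow,
        show x' ^ orderOf x = 1 from Subtype.ext (pow_orderOf_eq_one x), map_one, one_mul]
    rw [hxm]
    exact (show Commute (xq * xq) rq from hcyc).pow_left _
  have hfinal : xq * qmap e ⟨b, h.A_le_cent heA hb⟩ = qmap e ⟨b, h.A_le_cent heA hb⟩ * xq := by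
    rw [show (⟨b, h.A_le_cent heA hb⟩ : ↥(centralizer ({e} : Set G))) =
      ⟨v, h.A_le_cent heA hvA⟩ * ⟨r, h.A_le_cent heA hrA⟩ from Subtype.ext (mul_inv_cancel_left v b).symm,
      map_mul, ← mul_assoc, hxv, mul_assoc, hxr, mul_assoc]
  have h1 : qmap e (x'⁻¹ * (⟨b, h.A_le_cent heA hb⟩ * x' * ⟨b, h.A_le_cent heA hb⟩⁻¹)) = 1 := by
    rw [map_mul, map_mul, map_mul, map_inv, map_inv, ← hxq, ← hfinal, mul_inv_cancel_right, inv_mul_cancel]
  exact qmap_eq_one.1 h1

/-- The data of the blocks case. -/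
theorem blockData {bl : Set (Subgroup G)} (hbl : Blocks S A cov bd bl) : BlockData S A oc bl where
  comm := h.comm
  mem_iff := h.omega
  le := hbl.le
  four := hbl.four
  disj := hbl.disj
  span := hbl.span
  nonempty := hbl.nonempty
  three := hbl.three
  perm := hbl.perm
  O_le a _ _ := oc_le a
  O_odd _ _ _ := odd_coreOf _
  O_norm _ _ _ := le_normalizer_coreOf _
  sep _ hP _ hQ hne _ he he1 _ hg _ hk _ hp _ hq := h.sep hbl hP hQ hne he he1 hg hk hp hq
  flat _ hK hKi hno _ he he1 _ hx hxo _ hb := h.flat hbl hK hKi hno he he1 hx hxo hb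
  gen a ha ha1 := by
    refine (h.frattini a ha ha1).trans (sup_le (sup_le (le_sup_left.trans le_sup_left)
      (iSup₂_le fun J hJ => ?_)) ((inf_le_right.trans h.normalizer_A).trans le_sup_right))
    obtain ⟨P, hP, -, hPbd⟩ := hbl.inside a ha ha1 J hJ
    refine le_trans (h.lift a ha ha1 J hJ) (sup_le (le_sup_left.trans le_sup_left) ?_)
    refine le_trans (inf_le_right.trans (centralizer_le hPbd)) (le_trans ?_ (le_sup_right.trans le_sup_left))
    exact le_iSup₂ (f := fun P (_ : P ∈ bl) => centralizer (Bc bl P : Set G)) P hP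

/-- In the blocks case every atom has a large centralising part. -/
theorem eight_le_bd {bl : Set (Subgroup G)} (hbl : Blocks S A cov bd bl) {a : G} (ha : a ∈ A)
    (ha1 : a ≠ 1) {J : Subgroup G} (hJ : J ∈ cov a) : 8 ≤ Nat.card ↥(bd a J) := by
  obtain ⟨P, hP, -, hle⟩ := hbl.inside a ha ha1 J hJ
  obtain ⟨R, hR, hRP, -⟩ := hbl.three P hP P hP
  obtain ⟨Q, hQ, hQP, hQR⟩ := hbl.three P hP R hR
  have h1 := card_mul_le (U := Bc bl P) (A := R) (B := Q) (le_sSup ⟨hR, hRP⟩) (le_sSup ⟨hQ, hQP⟩)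
    fun x hx hx' => hbl.disj R hR x hx
      ((le_sSup (⟨hQ, hQR⟩ : Q ∈ bl \ {R}) : Q ≤ Bc bl R) hx')
  have h2 := Nat.mul_le_mul (hbl.four R hR) (hbl.four Q hQ)
  have h3 := Subgroup.card_le_of_le hle
  omega

/-- The blocks case is impossible. -/
theorem blocks_false [IsSimpleGroup G] (hnc : ¬ IsMulCommutative G) (h16 : 16 ≤ Nat.card ↥A)
    {bl : Set (Subgroup G)} (hbl : Blocks S A cov bd bl) : False :=
  (h.blockData hbl).false hnc (w0 A) (h.odd_w0 h16)
    (fun _ ha ha1 => h.cent_elt_le h16 hnc ha ha1 fun _ hJ => h.eight_le_bd hbl ha ha1 hJ)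
    fun h0 _ hE hE4 _ hc _ hb => h.dead h16 h0 hE hE4 hc _ hb

/-- An irreducible `A` of order at least sixteen admits no component. -/
theorem irreducible_false [IsSimpleGroup G] (hnc : ¬ IsMulCommutative G) (h16 : 16 ≤ Nat.card ↥A)
    (hirr : ∀ C : Subgroup G, C ≤ A →
      (∀ n ∈ normalizer ((S : Subgroup G) : Set G), ∀ x ∈ C, n * x * n⁻¹ ∈ C) → C = ⊥ ∨ C = A)
    {a₀ : G} (ha₀ : a₀ ∈ A) (ha₀1 : a₀ ≠ 1) {J₀ : Subgroup G} (hJ₀ : J₀ ∈ cov a₀) : False := by
  obtain ⟨bl, hbl⟩ := h.exists_blocks h16 hirr ha₀ ha₀1 hJ₀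
  exact h.blocks_false hnc h16 hbl

end CoreSys

end Cfsg.Agent.Walter.Core
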