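import Cfsg.Agent.Lib.Walter.Linear
import Cfsg.Agent.Lib.Walter.Irreducible

/-!
# The linear step for atoms

Pure module data on an elementary subgroup `A` of an abelian Sylow 2-subgroup `S`: a pair `W, B` whose
`N(S)`-conjugates are fixed, orthogonal or have trivially meeting `B`.  Either `|A| = 8`, or all conjugates
are fixed or orthogonal and `|W| < |B|`.
-/

set_option autoImplicit false
set_option linter.unusedSectionVars false
set_option linter.style.haveILetI false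

open Subgroup
open scoped Pointwise

namespace Cfsg.Agent.Walter

variable {G : Type*} [Group G] [Finite G]

theorem odd_actHom_range (S : Sylow 2 G)
    (hab : ∀ x ∈ (S : Subgroup G), ∀ y ∈ (S : Subgroup G), x * y = y * x) (U : Subgroup G)
    (hU : normalizer ((S : Subgroup G) : Set G) ≤ normalizer (U : Set G)) (hUS : U ≤ (S : Subgroup G)) :
    Odd (Nat.card ↥(actHom S U hU).range) := by
  rw [Nat.odd_iff, ← Nat.two_dvd_ne_zero]
  intro h2
  haveI : Fact (Nat.Prime 2) := ⟨Nat.prime_two⟩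
  obtain ⟨⟨q, n, rfl⟩, hq⟩ := exists_prime_orderOf_dvd_card' 2 h2
  obtain ⟨m, hm, hnm⟩ := odd_part_mem S n.2
  have h1 : (actHom S U hU n) ^ m = 1 := by
    rw [← map_pow]
    ext u
    rw [actHom_apply, MulAut.one_apply, coe_pow, hab _ hnm _ (hUS u.2), mul_inv_cancel_right]
  have hq' : orderOf (actHom S U hU n) = 2 := (Subgroup.orderOf_mk _ _).symm.trans hq
  have := hq'.symm.dvd.trans (orderOf_dvd_of_pow_eq_one h1)
  obtain ⟨k, rfl⟩ := hm
  omega

/-- Module data of an atom. -/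
structure AtomPair (S : Sylow 2 G) (A W B : Subgroup G) : Prop where
  comm : ∀ x ∈ (S : Subgroup G), ∀ y ∈ (S : Subgroup G), x * y = y * x
  leS : A ≤ (S : Subgroup G)
  inv : normalizer ((S : Subgroup G) : Set G) ≤ normalizer (A : Set G)
  sq : ∀ x ∈ A, x * x = 1
  wle : W ≤ A
  ble : B ≤ A
  span : ∀ x ∈ A, ∃ w ∈ W, ∃ b ∈ B, w * b = x
  disj : ∀ x ∈ W, x ∈ B → x = 1
  four : 4 ≤ Nat.card ↥W
  bne : ∃ b ∈ B, b ≠ 1
  trans : ∀ u ∈ W, u ≠ 1 → ∀ v ∈ W, v ≠ 1 →
    ∃ n ∈ normalizer ((S : Subgroup G) : Set G), n * u * n⁻¹ = v ∧ ∀ b ∈ B, n * b * n⁻¹ = b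
  move : ∃ n ∈ normalizer ((S : Subgroup G) : Set G), MulAut.conj n • W ≠ W
  pair : ∀ n ∈ normalizer ((S : Subgroup G) : Set G),
    (MulAut.conj n • W = W ∧ MulAut.conj n • B = B) ∨
    (MulAut.conj n • W ≤ B ∧ W ≤ MulAut.conj n • B) ∨
    ∀ x ∈ B, x ∈ MulAut.conj n • B → x = 1

namespace AtomPair

variable {S : Sylow 2 G} {A W B : Subgroup G} (h : AtomPair S A W B)

include h

theorem card_split : Nat.card ↥W * Nat.card ↥B = Nat.card ↥A := by
  rw [← Nat.card_prod]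
  refine Nat.card_congr (Equiv.ofBijective (fun p : ↥W × ↥B => (⟨(p.1 : G) * p.2,
    mul_mem (h.wle p.1.2) (h.ble p.2.2)⟩ : ↥A)) ⟨?_, fun v => ?_⟩)
  · rintro ⟨⟨a, ha⟩, ⟨b, hb⟩⟩ ⟨⟨a', ha'⟩, ⟨b', hb'⟩⟩ e
    have e' : a * b = a' * b' := congrArg Subtype.val e
    have h1 : a'⁻¹ * a = b' * b⁻¹ := by
      rw [inv_mul_eq_iff_eq_mul, ← mul_assoc, ← e', mul_inv_cancel_right]
    obtain rfl : a' = a := eq_of_inv_mul_eq_one
      (h.disj _ (mul_mem (inv_mem ha') ha) (h1 ▸ mul_mem hb' (inv_mem hb)))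
    obtain rfl := mul_left_cancel e'
    rfl
  · obtain ⟨w, hw, b, hb, e⟩ := h.span v v.2
    exact ⟨(⟨w, hw⟩, ⟨b, hb⟩), Subtype.ext e⟩

theorem card_conj_eq (n : G) (C : Subgroup G) : Nat.card ↥(MulAut.conj n • C) = Nat.card ↥C :=
  (Nat.card_congr (equivSMul (MulAut.conj n) C).toEquiv).symm

/-- Orthogonal conjugates force `|W| < |B|`. -/
theorem lt_of_orth {n : G} (hn : n ∈ normalizer ((S : Subgroup G) : Set G))
    (h1 : MulAut.conj n • W ≤ B) (h2 : W ≤ MulAut.conj n • B) : Nat.card ↥W < Nat.card ↥B := by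
  by_contra hle
  push Not at hle
  have hWB : MulAut.conj n • W = B := eq_of_le_of_card_ge h1 (by rw [h.card_conj_eq]; exact hle)
  have hBW : MulAut.conj n • B = W := (eq_of_le_of_card_ge h2 (by
    rw [h.card_conj_eq, ← hWB, h.card_conj_eq])).symm
  obtain ⟨m, hm, hnm⟩ := odd_part_mem S hn
  have hfix : MulAut.conj (n ^ m) • W = W := by
    ext x
    rw [mem_conj]
    have hc : ∀ y ∈ (S : Subgroup G), (n ^ m)⁻¹ * y * n ^ m = y := fun y hy => by
      rw [mul_assoc, h.comm y hy _ hnm, inv_mul_cancel_left]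
    refine ⟨fun hx => ?_, fun hx => by rw [hc x (h.leS (h.wle hx))]; exact hx⟩
    have hxS : x ∈ (S : Subgroup G) := by
      have := mul_mem (mul_mem hnm (h.leS (h.wle hx))) (inv_mem hnm)
      rwa [show n ^ m * ((n ^ m)⁻¹ * x * n ^ m) * (n ^ m)⁻¹ = x by group] at this
    rwa [hc x hxS] at hx
  have heven : ∀ k : ℕ, MulAut.conj (n ^ (2 * k)) • W = W := fun k => by
    induction k with
    | zero => simp
    | succ k ih =>
      rw [show 2 * (k + 1) = 2 * k + 1 + 1 by ring, pow_succ, pow_succ, map_mul, map_mul, mul_smul, hWB,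
        mul_smul, hBW, ih]
  obtain ⟨k, rfl⟩ := hm
  rw [pow_succ', map_mul, mul_smul, heven k, hWB] at hfix
  have : W = ⊥ := (eq_bot_iff_forall W).2 fun x hx => h.disj x hx (hfix.symm ▸ hx)
  have h4 := h.four
  rw [this, card_bot] at h4
  omega

/-- The linear step. -/
theorem main :
    (Nat.card ↥A = 8 ∧ Nat.card ↥B = 2 ∧ Nat.card ↥W = 4 ∧
      ∀ u ∈ A, u ≠ 1 → ∀ v ∈ A, v ≠ 1 → ∃ n ∈ normalizer ((S : Subgroup G) : Set G), n * u * n⁻¹ = v) ∨
    (Nat.card ↥W < Nat.card ↥B ∧ ∀ n ∈ normalizer ((S : Subgroup G) : Set G),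
      (MulAut.conj n • W = W ∧ MulAut.conj n • B = B) ∨
      (MulAut.conj n • W ≤ B ∧ W ≤ MulAut.conj n • B)) := by
  by_cases hd : ∃ n ∈ normalizer ((S : Subgroup G) : Set G), ∀ x ∈ B, x ∈ MulAut.conj n • B → x = 1
  swap
  · push Not at hd
    have hall : ∀ n ∈ normalizer ((S : Subgroup G) : Set G),
        (MulAut.conj n • W = W ∧ MulAut.conj n • B = B) ∨
        (MulAut.conj n • W ≤ B ∧ W ≤ MulAut.conj n • B) := fun n hn => by
      rcases h.pair n hn with e | e | e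
      · exact Or.inl e
      · exact Or.inr e
      · obtain ⟨x, hx, hx', hx1⟩ := hd n hn
        exact absurd (e x hx hx') hx1
    obtain ⟨n, hn, hne⟩ := h.move
    rcases hall n hn with e | e
    · exact absurd e.1 hne
    · exact Or.inr ⟨h.lt_of_orth hn e.1 e.2, hall⟩
  refine Or.inl ?_
  obtain ⟨n₀, hn₀, hd₀⟩ := hd
  have hBle : ∀ n ∈ normalizer ((S : Subgroup G) : Set G), ∀ C ≤ A, MulAut.conj n • C ≤ A :=
    fun n hn C hC x hx => (mem_normalizer_iff''.1 (h.inv hn) x).2 (hC (mem_conj.1 hx))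
  have hBW : Nat.card ↥B ≤ Nat.card ↥W := by
    have h1 : Nat.card ↥B * Nat.card ↥B ≤ Nat.card ↥W * Nat.card ↥B := by
      rw [h.card_split]
      nth_rw 2 [← h.card_conj_eq n₀ B]
      rw [← Nat.card_prod]
      refine Nat.card_le_card_of_injective (fun p : ↥B × ↥(MulAut.conj n₀ • B) => (⟨(p.1 : G) * p.2,
        mul_mem (h.ble p.1.2) (hBle n₀ hn₀ B h.ble p.2.2)⟩ : ↥A)) ?_
      rintro ⟨⟨a, ha⟩, ⟨b, hb⟩⟩ ⟨⟨a', ha'⟩, ⟨b', hb'⟩⟩ e
      have e' : a * b = a' * b' := congrArg Subtype.val e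
      have h2 : a'⁻¹ * a = b' * b⁻¹ := by
        rw [inv_mul_eq_iff_eq_mul, ← mul_assoc, ← e', mul_inv_cancel_right]
      obtain rfl : a' = a := eq_of_inv_mul_eq_one
        (hd₀ _ (mul_mem (inv_mem ha') ha) (h2 ▸ mul_mem hb' (inv_mem hb)))
      obtain rfl := mul_left_cancel e'
      rfl
    exact Nat.le_of_mul_le_mul_right h1 Nat.card_pos
  have hcase : ∀ n ∈ normalizer ((S : Subgroup G) : Set G),
      (MulAut.conj n • W = W ∧ MulAut.conj n • B = B) ∨ ∀ x ∈ B, x ∈ MulAut.conj n • B → x = 1 :=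
    fun n hn => by
      rcases h.pair n hn with e | e | e
      · exact Or.inl e
      · exact absurd (h.lt_of_orth hn e.1 e.2) (not_lt.2 hBW)
      · exact Or.inr e
  obtain ⟨b₀, hb₀, hb₀1⟩ := h.bne
  letI : CommGroup ↥A :=
    { (inferInstance : Group ↥A) with
      mul_comm := fun a b => Subtype.ext (h.comm _ (h.leS a.2) _ (h.leS b.2)) }
  have hsmul : ∀ (C : Subgroup G) (n : ↥(normalizer ((S : Subgroup G) : Set G))),
      (actHom S A h.inv).rangeRestrict n • C.subgroupOf A =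
        (MulAut.conj (n : G) • C).subgroupOf A := fun C n => Subgroup.ext fun x => by
    refine mem_pointwise_smul_iff_inv_smul_mem.trans ?_
    refine Iff.trans ?_ (mem_conj (J := C) (g := (n : G)) (x := (x : G))).symm
    show ((((actHom S A h.inv n)⁻¹ : MulAut ↥A) x : ↥A) : G) ∈ C ↔ _
    rw [← map_inv, actHom_apply, coe_inv, inv_inv]
  have hinj : ∀ C D : Subgroup G, C ≤ A → D ≤ A → C.subgroupOf A = D.subgroupOf A → C = D :=
    fun C D hC hD e => by rw [← map_subgroupOf_eq_of_le hC, e, map_subgroupOf_eq_of_le hD]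
  have hsp : SpreadHyp (V := ↥A) ↥(actHom S A h.inv).range (W.subgroupOf A) (B.subgroupOf A) := by
    refine ⟨odd_actHom_range S h.comm A h.inv h.leS, fun v => Subtype.ext (h.sq v v.2), fun v hw hx =>
      Subtype.ext (h.disj v hw hx), fun v => ?_, ?_, ⟨⟨b₀, h.ble hb₀⟩, hb₀, fun e =>
      hb₀1 (congrArg Subtype.val e)⟩, fun u hu hu1 v hv hv1 => ?_, ?_, ?_, ?_⟩
    · obtain ⟨w, hw, c, hc, e⟩ := h.span v v.2
      exact ⟨⟨w, h.wle hw⟩, hw, ⟨c, h.ble hc⟩, hc, Subtype.ext e⟩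
    · rw [Nat.card_congr (subgroupOfEquivOfLe h.wle).toEquiv]
      exact h.four
    · obtain ⟨g, hgN, hgu, hgc⟩ := h.trans u hu (fun e => hu1 (Subtype.ext e)) v hv
        (fun e => hv1 (Subtype.ext e))
      exact ⟨(actHom S A h.inv).rangeRestrict ⟨g, hgN⟩, Subtype.ext hgu, fun x hx => Subtype.ext (hgc x hx)⟩
    · intro q hq
      obtain ⟨n, rfl⟩ := (actHom S A h.inv).rangeRestrict_surjective q
      have e := hinj _ _ (hBle n n.2 B h.ble) h.ble ((hsmul B n).symm.trans hq)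
      rcases hcase n n.2 with ⟨eW, -⟩ | e'
      · exact (hsmul W n).trans (congrArg (fun C : Subgroup G => C.subgroupOf A) eW)
      · exact absurd (e' b₀ hb₀ (e.symm ▸ hb₀)) hb₀1
    · intro q hq v hv hv'
      obtain ⟨n, rfl⟩ := (actHom S A h.inv).rangeRestrict_surjective q
      rcases hcase n n.2 with ⟨-, eB⟩ | e'
      · exact absurd ((hsmul B n).trans (congrArg (fun C : Subgroup G => C.subgroupOf A) eB)) hq
      · exact Subtype.ext (e' v hv ((Subgroup.ext_iff.1 (hsmul B n) v).1 hv'))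
    · obtain ⟨n, hn, hne⟩ := h.move
      refine ⟨(actHom S A h.inv).rangeRestrict ⟨n, hn⟩, fun e => hne ?_⟩
      exact hinj _ _ (hBle n hn W h.wle) h.wle ((hsmul W ⟨n, hn⟩).symm.trans e)
  obtain ⟨h8, h2, h4, htr⟩ := hsp.main
  rw [Nat.card_congr (subgroupOfEquivOfLe h.ble).toEquiv] at h2
  rw [Nat.card_congr (subgroupOfEquivOfLe h.wle).toEquiv] at h4
  refine ⟨h8, h2, h4, fun u hu hu1 v hv hv1 => ?_⟩
  obtain ⟨q, e⟩ := htr ⟨u, hu⟩ ⟨v, hv⟩ (fun e => hu1 (congrArg Subtype.val e))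
    (fun e => hv1 (congrArg Subtype.val e))
  obtain ⟨n, rfl⟩ := (actHom S A h.inv).rangeRestrict_surjective q
  exact ⟨n, n.2, congrArg Subtype.val e⟩

end AtomPair

end Cfsg.Agent.Walter
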