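import Cfsg.Agent.Lib.Walter.Shape
import Cfsg.Agent.Lib.Components.Hyperplane

/-!
# The blocks case

The involutions of the abelian Sylow subgroup `S` are a direct sum of at least three blocks that are
permuted by `N(S)`, and the facts of `BlockData` hold modulo the odd subgroups `O a` of the centralisers
of the involutions. Then no odd subgroup `W` can be normalised by all these centralisers, if `W = 1`
means that `A` centralises what four-groups have in common in their odd subgroups.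

For `W = 1` the normal closures `V P` of `P` in `C(Bc P)` commute elementwise, so the normalizer of their
join contains all centralisers, is strongly embedded, and all involutions are conjugate.
-/

set_option autoImplicit false
set_option linter.unusedSectionVars false
set_option linter.style.haveILetI false

open Subgroup
open scoped Pointwise

namespace Cfsg.Agent.Walter.Core

variable {G : Type*} [Group G]

/-- The join of the other blocks. -/
def Bc (bl : Set (Subgroup G)) (P : Subgroup G) : Subgroup G := sSup (bl \ {P})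

/-- The normal closure of a block in the centraliser of the other blocks. -/
def blockClosure (bl : Set (Subgroup G)) (P : Subgroup G) : Subgroup G :=
  closure {x | ∃ g ∈ centralizer (Bc bl P : Set G), ∃ p ∈ P, g * p * g⁻¹ = x}

/-- The blocks and what is needed of the involution centralisers. -/
structure BlockData (S : Sylow 2 G) (A : Subgroup G) (O : G → Subgroup G) (bl : Set (Subgroup G)) :
    Prop where
  comm : ∀ x ∈ (S : Subgroup G), ∀ y ∈ (S : Subgroup G), x * y = y * x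
  mem_iff : ∀ x : G, x ∈ A ↔ x ∈ (S : Subgroup G) ∧ x * x = 1
  le : ∀ P ∈ bl, P ≤ A
  four : ∀ P ∈ bl, 4 ≤ Nat.card ↥P
  disj : ∀ P ∈ bl, ∀ x ∈ P, x ∈ Bc bl P → x = 1
  span : ∀ P ∈ bl, P ⊔ Bc bl P = A
  nonempty : bl.Nonempty
  three : ∀ P ∈ bl, ∀ Q ∈ bl, ∃ R ∈ bl, R ≠ P ∧ R ≠ Q
  perm : ∀ n ∈ normalizer ((S : Subgroup G) : Set G), ∀ P ∈ bl, MulAut.conj n • P ∈ bl
  O_le : ∀ a ∈ A, a ≠ 1 → O a ≤ centralizer ({a} : Set G)
  O_odd : ∀ a ∈ A, a ≠ 1 → Odd (Nat.card ↥(O a))
  O_norm : ∀ a ∈ A, a ≠ 1 → centralizer ({a} : Set G) ≤ normalizer (O a : Set G)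
  sep : ∀ P ∈ bl, ∀ Q ∈ bl, P ≠ Q → ∀ e ∈ Bc bl P ⊓ Bc bl Q, e ≠ 1 →
    ∀ g ∈ centralizer (Bc bl P : Set G), ∀ h ∈ centralizer (Bc bl Q : Set G), ∀ p ∈ P, ∀ q ∈ Q,
      ((g * p * g⁻¹) * (h * q * h⁻¹)) ^ 4 ∈ O e
  flat : ∀ K : Subgroup G, K ≤ A → K.relIndex A = 2 → (∀ P ∈ bl, ¬ Bc bl P ≤ K) → ∀ e ∈ K, e ≠ 1 →
    ∀ x ∈ centralizer (K : Set G), Odd (orderOf x) → ∀ b ∈ A, x⁻¹ * (b * x * b⁻¹) ∈ O e
  gen : ∀ a ∈ A, a ≠ 1 → centralizer ({a} : Set G) ≤
    O a ⊔ (⨆ P ∈ bl, centralizer (Bc bl P : Set G)) ⊔ normalizer (A : Set G)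

theorem le_normalizer_of_conj_mem {X E : Subgroup G} (h : ∀ g ∈ X, ∀ x ∈ E, g * x * g⁻¹ ∈ E) :
    X ≤ normalizer (E : Set G) := fun g hg => mem_normalizer_iff.2 fun x => ⟨fun hx => h g hg x hx,
  fun hx => by simpa [mul_assoc] using h g⁻¹ (inv_mem hg) _ hx⟩

/-- An element of order at most two in an odd subgroup is trivial. -/
theorem eq_one_of_sq_of_odd [Finite G] {H : Subgroup G} (hH : Odd (Nat.card ↥H)) {c : G} (hc : c ∈ H)
    (h2 : c * c = 1) : c = 1 := by
  have h1 : orderOf c ∣ Nat.card ↥H := by rw [← Subgroup.orderOf_mk c hc]; exact orderOf_dvd_natCard _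
  have h3 : orderOf c ∣ 2 := orderOf_dvd_of_pow_eq_one (by rw [pow_two, h2])
  rcases (Nat.dvd_prime Nat.prime_two).1 h3 with e | e
  · exact orderOf_eq_one_iff.1 e
  · exact absurd (hH.of_dvd_nat (e ▸ h1)) (by decide)

theorem isPGroup_zpowers_of_pow {x : G} {k : ℕ} (hk : x ^ 2 ^ k = 1) : IsPGroup 2 ↥(zpowers x) := by
  rintro ⟨y, hy⟩
  obtain ⟨m, rfl⟩ := mem_zpowers_iff.1 hy
  refine ⟨k, Subtype.ext ?_⟩
  rw [SubgroupClass.coe_pow, ← zpow_natCast, ← zpow_mul, mul_comm, zpow_mul, zpow_natCast, hk, one_zpow,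
    coe_one]

/-- An involution inverts its product with another one. -/
theorem conj_mul_eq_inv {X Y : G} (hX : X * X = 1) (hY : Y * Y = 1) : X * (X * Y) * X⁻¹ = (X * Y)⁻¹ := by
  rw [mul_inv_rev, inv_eq_of_mul_eq_one_right hX, inv_eq_of_mul_eq_one_right hY,
    show X * (X * Y) * X = X * X * (Y * X) by group, hX, one_mul]

/-- Two involutions with a product of order dividing four commute if the Sylow 2-subgroups are abelian. -/
theorem commute_of_pow_four [Finite G] {S : Sylow 2 G}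
    (hS : ∀ x ∈ (S : Subgroup G), ∀ y ∈ (S : Subgroup G), x * y = y * x) {X Y : G} (hX : X * X = 1)
    (hY : Y * Y = 1) (h : (X * Y) ^ 4 = 1) : Y * X = X * Y := by
  haveI : Fact (Nat.Prime 2) := ⟨Nat.prime_two⟩
  have hP : IsPGroup 2 ↥(zpowers (X * Y) ⊔ zpowers X) := by
    refine IsPGroup.to_sup_of_normal_left' (isPGroup_zpowers_of_pow (k := 2) h)
      (isPGroup_zpowers_of_pow (k := 1) (by rw [pow_one, pow_two, hX])) (zpowers_le.2 ?_)
    have hxi : X⁻¹ = X := inv_eq_of_mul_eq_one_right hX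
    have hinv := conj_mul_eq_inv hX hY
    refine mem_normalizer_iff.2 fun z => ⟨fun hz => ?_, fun hz => ?_⟩
    · obtain ⟨m, rfl⟩ := mem_zpowers_iff.1 hz
      rw [← conj_zpow, hinv]
      exact zpow_mem (inv_mem (mem_zpowers _)) m
    · obtain ⟨m, hm⟩ := mem_zpowers_iff.1 hz
      refine mem_zpowers_iff.2 ⟨-m, ?_⟩
      rw [zpow_neg, ← inv_zpow, ← hinv, conj_zpow, hm, show X * (X * z * X⁻¹) * X⁻¹ = X * X * z * (X⁻¹ * X⁻¹) by
        group, hX, hxi, hX, one_mul, mul_one]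
  obtain ⟨T, hT⟩ := hP.exists_le_sylow
  obtain ⟨g, hg⟩ := MulAction.exists_smul_eq G T S
  have hmove : ∀ x ∈ zpowers (X * Y) ⊔ zpowers X, g * x * g⁻¹ ∈ (S : Subgroup G) := fun x hx => by
    rw [← hg, Sylow.coe_subgroup_smul]
    exact conj_mem_conj (hT hx)
  have hYm : Y ∈ zpowers (X * Y) ⊔ zpowers X := by
    have h1 := mul_mem (inv_mem (mem_sup_right (mem_zpowers X) : X ∈ zpowers (X * Y) ⊔ zpowers X))
      (mem_sup_left (mem_zpowers (X * Y)))
    rwa [inv_mul_cancel_left] at h1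
  have h1 := hS _ (hmove Y hYm) _ (hmove X (mem_sup_right (mem_zpowers X)))
  rw [show g * Y * g⁻¹ * (g * X * g⁻¹) = g * (Y * X) * g⁻¹ by group,
    show g * X * g⁻¹ * (g * Y * g⁻¹) = g * (X * Y) * g⁻¹ by group] at h1
  exact mul_left_cancel (mul_right_cancel h1)

namespace BlockData

variable {S : Sylow 2 G} {A : Subgroup G} {O : G → Subgroup G} {bl : Set (Subgroup G)}
  (d : BlockData S A O bl)

include d

theorem A_le : A ≤ (S : Subgroup G) := fun x hx => ((d.mem_iff x).1 hx).1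

theorem sq {x : G} (hx : x ∈ A) : x * x = 1 := ((d.mem_iff x).1 hx).2

theorem Bc_le (P : Subgroup G) : Bc bl P ≤ A := sSup_le fun Q hQ => d.le Q hQ.1

theorem le_Bc {P Q : Subgroup G} (hQ : Q ∈ bl) (hne : Q ≠ P) : Q ≤ Bc bl P := le_sSup ⟨hQ, hne⟩

theorem A_comm {x y : G} (hx : x ∈ A) (hy : y ∈ A) : x * y = y * x := d.comm x (d.A_le hx) y (d.A_le hy)

theorem A_le_centralizer {X : Subgroup G} (hX : X ≤ A) : A ≤ centralizer (X : Set G) := fun _ ha =>
  mem_centralizer_comm.2 fun _ hy => d.A_comm ha (hX hy)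

theorem S_le_centralizer {X : Subgroup G} (hX : X ≤ A) : (S : Subgroup G) ≤ centralizer (X : Set G) :=
  fun _ hs => mem_centralizer_comm.2 fun _ hy => d.comm _ hs _ (d.A_le (hX hy))

theorem normalizer_S_le : normalizer ((S : Subgroup G) : Set G) ≤ normalizer (A : Set G) := fun n hn =>
  mem_normalizer_iff.2 fun x => by
    rw [d.mem_iff, d.mem_iff, ← mem_normalizer_iff.1 hn x,
      show n * x * n⁻¹ * (n * x * n⁻¹) = n * (x * x) * n⁻¹ by group, conj_eq_one_iff]

theorem exists_mem_ne {P : Subgroup G} (hP : P ∈ bl) : ∃ p ∈ P, p ≠ 1 := by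
  by_contra hcon
  push Not at hcon
  have := d.four P hP
  rw [(eq_bot_iff_forall P).2 hcon, card_bot] at this
  omega

theorem mem_blockClosure {P : Subgroup G} {p : G} (hp : p ∈ P) : p ∈ blockClosure bl P :=
  subset_closure ⟨1, one_mem _, p, hp, by rw [one_mul, inv_one, mul_one]⟩

theorem blockClosure_le {P : Subgroup G} (hP : P ∈ bl) :
    blockClosure bl P ≤ centralizer (Bc bl P : Set G) := by
  refine (closure_le _).2 ?_
  rintro x ⟨g, hg, p, hp, rfl⟩
  exact mul_mem (mul_mem hg (d.A_le_centralizer (d.Bc_le P) (d.le P hP hp))) (inv_mem hg)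

theorem centralizer_le_normalizer_closure (P : Subgroup G) :
    centralizer (Bc bl P : Set G) ≤ normalizer (blockClosure bl P : Set G) := by
  refine le_normalizer_of_conj_mem fun g hg => ?_
  have : blockClosure bl P ≤ (blockClosure bl P).comap (MulAut.conj g).toMonoidHom := by
    refine (closure_le _).2 ?_
    rintro x ⟨k, hk, p, hp, rfl⟩
    exact subset_closure ⟨g * k, mul_mem hg hk, p, hp, by
      show g * k * p * (g * k)⁻¹ = g * (k * p * k⁻¹) * g⁻¹
      group⟩
  exact fun x hx => this hx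

theorem conj_blockClosure {n : G} (hn : n ∈ normalizer ((S : Subgroup G) : Set G)) {P : Subgroup G}
    {x : G} (hx : x ∈ blockClosure bl P) :
    n * x * n⁻¹ ∈ blockClosure bl (MulAut.conj n • P) := by
  have hB : ∀ y ∈ Bc bl (MulAut.conj n • P), n⁻¹ * y * n ∈ Bc bl P := by
    have : Bc bl (MulAut.conj n • P) ≤ (Bc bl P).comap (MulAut.conj n⁻¹).toMonoidHom := by
      refine sSup_le fun Q hQ y hy => ?_
      show n⁻¹ * y * (n⁻¹)⁻¹ ∈ Bc bl P
      refine d.le_Bc (d.perm n⁻¹ (inv_mem hn) Q hQ.1) (fun e => hQ.2 ?_) (conj_mem_conj hy)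
      show Q = MulAut.conj n • P
      rw [← e, ← mul_smul, ← map_mul, mul_inv_cancel, map_one, one_smul]
    intro y hy
    have h1 : n⁻¹ * y * (n⁻¹)⁻¹ ∈ Bc bl P := this hy
    rwa [inv_inv] at h1
  have : blockClosure bl P ≤ (blockClosure bl (MulAut.conj n • P)).comap (MulAut.conj n).toMonoidHom := by
    refine (closure_le _).2 ?_
    rintro _ ⟨g, hg, p, hp, rfl⟩
    refine subset_closure ⟨n * g * n⁻¹, mem_centralizer_comm.2 fun y hy => ?_, n * p * n⁻¹,
      conj_mem_conj hp, ?_⟩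
    · have h1 := mem_centralizer_comm.1 hg _ (hB y hy)
      calc n * g * n⁻¹ * y = n * (g * (n⁻¹ * y * n)) * n⁻¹ := by group
        _ = y * (n * g * n⁻¹) := by rw [h1]; group
    · show n * g * n⁻¹ * (n * p * n⁻¹) * (n * g * n⁻¹)⁻¹ = n * (g * p * g⁻¹) * n⁻¹
      group
  exact this hx

variable [Finite G]

theorem four_le_inf {P Q : Subgroup G} (hP : P ∈ bl) (hQ : Q ∈ bl) :
    4 ≤ Nat.card ↥(Bc bl P ⊓ Bc bl Q) := by
  obtain ⟨R, hR, hRP, hRQ⟩ := d.three P hP Q hQ
  exact (d.four R hR).trans (Subgroup.card_le_of_le (le_inf (d.le_Bc hR hRP) (d.le_Bc hR hRQ)))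

/-- The closures of two blocks commute. -/
theorem closure_commute
    (dead : ∀ E : Subgroup G, E ≤ A → 4 ≤ Nat.card ↥E → ∀ c : G, (∀ e ∈ E, e ≠ 1 → c ∈ O e) →
      ∀ b ∈ A, b * c = c * b)
    {P Q : Subgroup G} (hP : P ∈ bl) (hQ : Q ∈ bl) (hne : P ≠ Q) :
    blockClosure bl P ≤ centralizer (blockClosure bl Q : Set G) := by
  refine (closure_le _).2 ?_
  rintro _ ⟨g, hg, p, hp, rfl⟩
  show g * p * g⁻¹ ∈ centralizer (blockClosure bl Q : Set G)
  refine mem_centralizer_comm.2 fun y hy => ?_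
  suffices blockClosure bl Q ≤ centralizer ({g * p * g⁻¹} : Set G) from
    (mem_centralizer_one.1 (this hy)).symm
  refine (closure_le _).2 ?_
  rintro _ ⟨h, hh, q, hq, rfl⟩
  refine mem_centralizer_one.2 ?_
  set X := g * p * g⁻¹ with hX
  set Y := h * q * h⁻¹ with hY
  set c := (X * Y) ^ 4 with hc
  have hsep := fun e (he : e ∈ Bc bl P ⊓ Bc bl Q) (he1 : e ≠ 1) =>
    d.sep P hP Q hQ hne e he he1 g hg h hh p hp q hq
  have hconj : ∀ e ∈ Bc bl P ⊓ Bc bl Q, e ≠ 1 → g⁻¹ * c * g ∈ O e := fun e he he1 => by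
    have hge : g ∈ centralizer ({e} : Set G) :=
      mem_centralizer_one.2 (mem_centralizer_comm.1 hg e he.1)
    exact (mem_normalizer_iff''.1 (d.O_norm e (d.Bc_le P he.1) he1 hge) c).1 (hsep e he he1)
  have hcp := dead _ (inf_le_left.trans (d.Bc_le P)) (d.four_le_inf hP hQ) _ hconj p (d.le P hP hp)
  have hX2 : X * X = 1 := by
    rw [hX, show g * p * g⁻¹ * (g * p * g⁻¹) = g * (p * p) * g⁻¹ by group, d.sq (d.le P hP hp),
      mul_one, mul_inv_cancel]
  have hY2 : Y * Y = 1 := by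
    rw [hY, show h * q * h⁻¹ * (h * q * h⁻¹) = h * (q * q) * h⁻¹ by group, d.sq (d.le Q hQ hq),
      mul_one, mul_inv_cancel]
  have hXc : X * c = c * X := by
    calc X * c = g * (p * (g⁻¹ * c * g)) * g⁻¹ := by rw [hX]; group
      _ = g * (g⁻¹ * c * g * p) * g⁻¹ := by rw [hcp]
      _ = c * X := by rw [hX]; group
  have hc2 : c * c = 1 := by
    have hinv : X * c * X⁻¹ = c⁻¹ := by rw [hc, ← conj_pow, ← inv_pow, conj_mul_eq_inv hX2 hY2]
    rw [hXc, mul_inv_cancel_right] at hinv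
    exact mul_eq_one_iff_eq_inv.2 hinv
  have hc1 : c = 1 := by
    obtain ⟨e, he, he1⟩ : ∃ e ∈ Bc bl P ⊓ Bc bl Q, e ≠ 1 := by
      by_contra hcon
      push Not at hcon
      have := d.four_le_inf hP hQ
      rw [(eq_bot_iff_forall (Bc bl P ⊓ Bc bl Q)).2 hcon, card_bot] at this
      omega
    exact eq_one_of_sq_of_odd (d.O_odd e (d.Bc_le P he.1) he1) (hsep e he he1) hc2
  exact commute_of_pow_four d.comm hX2 hY2 hc1

/-- The centraliser of the other blocks lies in the closure times `N(A)`. -/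
theorem centralizer_Bc_le {Q : Subgroup G} (hQ : Q ∈ bl) :
    centralizer (Bc bl Q : Set G) ≤ blockClosure bl Q ⊔ normalizer (A : Set G) := by
  haveI : Fact (Nat.Prime 2) := ⟨Nat.prime_two⟩
  intro g hg
  set V := blockClosure bl Q
  set U := V ⊔ (S : Subgroup G) with hU
  have hUn : (S : Subgroup G) ≤ normalizer (V : Set G) :=
    (d.S_le_centralizer (d.Bc_le Q)).trans (d.centralizer_le_normalizer_closure Q)
  have hgA : ∀ a ∈ A, g * a * g⁻¹ ∈ U := by
    intro a ha
    rw [← d.span Q hQ] at ha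
    have hsub : Q ⊔ Bc bl Q ≤ U.comap (MulAut.conj g).toMonoidHom := by
      refine sup_le (fun q hq => ?_) (fun b hb => ?_)
      · exact mem_sup_left (subset_closure ⟨g, hg, q, hq, rfl⟩)
      · show g * b * g⁻¹ ∈ U
        rw [mem_centralizer_comm.1 hg b hb, mul_inv_cancel_right]
        exact mem_sup_right (d.A_le (d.Bc_le Q hb))
    exact hsub ha
  let Ag : Subgroup ↥U := (MulAut.conj g • A).subgroupOf U
  have hle : MulAut.conj g • A ≤ U := fun x hx => by
    have := hgA _ (mem_conj.1 hx)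
    simpa [mul_assoc] using this
  have hP : IsPGroup 2 ↥Ag := IsPGroup.of_equiv ((S.2.to_le d.A_le).of_equiv (equivSMul (MulAut.conj g) A))
    (subgroupOfEquivOfLe hle).symm
  obtain ⟨T, hT⟩ := hP.exists_le_sylow
  obtain ⟨u, hu⟩ := MulAction.exists_smul_eq ↥U T (S.subtype (le_sup_right : (S : Subgroup G) ≤ U))
  have hmove : ∀ a ∈ A, ((u : G) * g) * a * ((u : G) * g)⁻¹ ∈ A := by
    intro a ha
    have h1 : u * ⟨g * a * g⁻¹, hgA a ha⟩ * u⁻¹ ∈
        (S.subtype (le_sup_right : (S : Subgroup G) ≤ U) : Subgroup ↥U) := by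
      rw [← hu, Sylow.coe_subgroup_smul]
      exact conj_mem_conj (hT (mem_subgroupOf.2 (conj_mem_conj ha)))
    rw [Sylow.coe_subtype, mem_subgroupOf] at h1
    have h2 : (u : G) * (g * a * g⁻¹) * (u : G)⁻¹ ∈ (S : Subgroup G) := h1
    refine (d.mem_iff _).2 ⟨?_, ?_⟩
    · rwa [show (u : G) * g * a * ((u : G) * g)⁻¹ = (u : G) * (g * a * g⁻¹) * (u : G)⁻¹ by group]
    · rw [show (u : G) * g * a * ((u : G) * g)⁻¹ * ((u : G) * g * a * ((u : G) * g)⁻¹) =
        (u : G) * g * (a * a) * ((u : G) * g)⁻¹ by group, d.sq ha, mul_one, mul_inv_cancel]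
  have hn : (u : G) * g ∈ normalizer (A : Set G) := by
    have heq : MulAut.conj ((u : G) * g) • A = A := eq_of_le_of_card_ge
      (fun x hx => by
        have := hmove _ (mem_conj.1 hx)
        simpa [mul_assoc] using this) (by rw [card_conj])
    refine mem_normalizer_iff.2 fun x => ?_
    conv_rhs => rw [← heq, mem_conj]
    simp [mul_assoc]
  obtain ⟨s, hs, v, hv, e⟩ : ∃ s ∈ (S : Subgroup G), ∃ v ∈ V, v * s = (u : G) := by
    have h1 : (u : G) ∈ V ⊔ (S : Subgroup G) := u.2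
    rw [← SetLike.mem_coe, coe_mul_of_right_le_normalizer_left _ _ hUn] at h1
    obtain ⟨v, hv, s, hs, e⟩ := h1
    exact ⟨s, hs, v, hv, e⟩
  have hsA : s ∈ normalizer (A : Set G) :=
    centralizer_le_normalizer (A : Set G) (d.S_le_centralizer le_rfl hs)
  rw [show g = (u : G)⁻¹ * ((u : G) * g) by group, ← e]
  refine mul_mem ?_ (mem_sup_right (e ▸ hn))
  rw [mul_inv_rev]
  exact mul_mem (mem_sup_right (inv_mem hsA)) (mem_sup_left (inv_mem hv))

/-- `N(A)` is `C(A)` times `N(S)`. -/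
theorem normalizer_A_le :
    normalizer (A : Set G) ≤ centralizer (A : Set G) ⊔ normalizer ((S : Subgroup G) : Set G) := by
  haveI : Fact (Nat.Prime 2) := ⟨Nat.prime_two⟩
  intro g hg
  set C := centralizer (A : Set G)
  have hSC : (S : Subgroup G) ≤ C := d.S_le_centralizer le_rfl
  have hle : MulAut.conj g • (S : Subgroup G) ≤ C := fun x hx => mem_centralizer_comm.2 fun a ha => by
    have h1 := mem_centralizer_comm.1 (hSC (mem_conj.1 hx)) _ ((mem_normalizer_iff''.1 hg a).1 ha)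
    calc x * a = g * (g⁻¹ * x * g * (g⁻¹ * a * g)) * g⁻¹ := by group
      _ = a * x := by rw [h1]; group
  obtain ⟨c, hc⟩ := MulAction.exists_smul_eq ↥C ((g • S).subtype (by
    rw [Sylow.coe_subgroup_smul]; exact hle)) (S.subtype hSC)
  have key : ∀ x ∈ (S : Subgroup G), ((c : G) * g) * x * ((c : G) * g)⁻¹ ∈ (S : Subgroup G) := fun x hx => by
    have hx' : g * x * g⁻¹ ∈ C := hle (conj_mem_conj hx)
    have h1 : c * ⟨g * x * g⁻¹, hx'⟩ * c⁻¹ ∈ (S.subtype hSC : Subgroup ↥C) := by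
      rw [← hc, Sylow.coe_subgroup_smul]
      refine conj_mem_conj ?_
      rw [Sylow.coe_subtype, mem_subgroupOf, Sylow.coe_subgroup_smul]
      exact conj_mem_conj hx
    rw [Sylow.coe_subtype, mem_subgroupOf] at h1
    have h2 : (c : G) * (g * x * g⁻¹) * (c : G)⁻¹ ∈ (S : Subgroup G) := h1
    rwa [show (c : G) * g * x * ((c : G) * g)⁻¹ = (c : G) * (g * x * g⁻¹) * (c : G)⁻¹ by group]
  have hn : (c : G) * g ∈ normalizer ((S : Subgroup G) : Set G) := by
    have heq : MulAut.conj ((c : G) * g) • (S : Subgroup G) = (S : Subgroup G) := eq_of_le_of_card_ge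
      (fun x hx => by
        have := key _ (mem_conj.1 hx)
        simpa [mul_assoc] using this) (by rw [card_conj])
    refine mem_normalizer_iff.2 fun x => ?_
    conv_rhs => rw [← heq, mem_conj]
    simp [mul_assoc]
  rw [show g = (c : G)⁻¹ * ((c : G) * g) by group]
  exact mul_mem (mem_sup_left (inv_mem c.2)) (mem_sup_right hn)

theorem sylow_le_centralizer {a : G} (ha : a ∈ A) : (S : Subgroup G) ≤ centralizer ({a} : Set G) :=
  fun _ hs => mem_centralizer_one.2 (d.comm _ hs _ (d.A_le ha))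

/-- A strongly embedded subgroup is impossible: the blocks give more than one class of involutions. -/
theorem false_of_le [IsSimpleGroup G] (M : Subgroup G) (hM : M ≠ ⊤)
    (hC : ∀ a ∈ A, a ≠ 1 → centralizer ({a} : Set G) ≤ M) : False := by
  haveI : Fact (Nat.Prime 2) := ⟨Nat.prime_two⟩
  obtain ⟨P, hP⟩ := d.nonempty
  obtain ⟨R, hR, hRP, -⟩ := d.three P hP P hP
  obtain ⟨p, hp, hp1⟩ := d.exists_mem_ne hP
  obtain ⟨r, hr, hr1⟩ := d.exists_mem_ne hR
  have hpA := d.le P hP hp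
  have hrA := d.le R hR hr
  have hrB : r ∈ Bc bl P := d.le_Bc hR hRP hr
  have hpr : p * r ≠ 1 := fun e => hp1 (d.disj P hP p hp (by
    rw [eq_inv_of_mul_eq_one_left e]; exact inv_mem hrB))
  have ho : ∀ x ∈ A, x ≠ 1 → orderOf x = 2 := fun x hx hx1 =>
    orderOf_eq_prime (by rw [pow_two]; exact d.sq hx) hx1
  obtain ⟨g, hg⟩ := isConj_iff.1 (one_class (S := S) M hM
    ((d.sylow_le_centralizer hpA).trans (hC p hpA hp1))
    (fun z hz hz2 => hC z ((d.mem_iff z).2 ⟨hz, by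
        rw [← pow_two]; exact orderOf_dvd_iff_pow_eq_one.1 hz2.dvd⟩)
      fun e => by rw [e, orderOf_one] at hz2; omega)
    (d.A_le hpA) (ho p hpA hp1) (d.A_le (mul_mem hpA hrA)) (ho _ (mul_mem hpA hrA) hpr))
  haveI : IsMulCommutative ↥(S : Subgroup G) := ⟨⟨fun a b => Subtype.ext (d.comm a a.2 b b.2)⟩⟩
  obtain ⟨n, hn, e⟩ := S.conj_eq_normalizer_conj_of_mem p g⁻¹ (d.A_le hpA)
    (by rw [inv_inv, hg]; exact d.A_le (mul_mem hpA hrA))
  have hmem : p * r ∈ MulAut.conj n⁻¹ • P := by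
    rw [show p * r = n⁻¹ * p * (n⁻¹)⁻¹ by rw [← hg, inv_inv]; simpa using e]
    exact conj_mem_conj hp
  by_cases hne : MulAut.conj n⁻¹ • P = P
  · rw [hne] at hmem
    exact hr1 (d.disj P hP r (by simpa using mul_mem (inv_mem hp) hmem) hrB)
  · refine hp1 (d.disj P hP p hp ?_)
    simpa using mul_mem (d.le_Bc (d.perm n⁻¹ (inv_mem hn) P hP) hne hmem) (inv_mem hrB)

/-- The blocks case is impossible. -/
theorem «false» [IsSimpleGroup G] (hna : ¬ IsMulCommutative G) (W : Subgroup G) (hW : Odd (Nat.card ↥W))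
    (hC : ∀ a ∈ A, a ≠ 1 → centralizer ({a} : Set G) ≤ normalizer (W : Set G))
    (dead : W = ⊥ → ∀ E : Subgroup G, E ≤ A → 4 ≤ Nat.card ↥E → ∀ c : G,
      (∀ e ∈ E, e ≠ 1 → c ∈ O e) → ∀ b ∈ A, b * c = c * b) : False := by
  haveI : Fact (Nat.Prime 2) := ⟨Nat.prime_two⟩
  obtain ⟨P₀, hP₀⟩ := d.nonempty
  obtain ⟨p₀, hp₀, hp₀1⟩ := d.exists_mem_ne hP₀
  by_cases hW1 : W ≠ ⊥
  · refine d.false_of_le _ (fun e => ?_) hC
    haveI : W.Normal := normalizer_eq_top_iff.1 e
    rcases (‹W.Normal›).eq_bot_or_eq_top with e' | e'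
    · exact hW1 e'
    · rw [e'] at hW
      have h1 := orderOf_dvd_natCard (G := ↥(⊤ : Subgroup G)) ⟨p₀, mem_top _⟩
      rw [Subgroup.orderOf_mk, orderOf_eq_prime (by rw [pow_two]; exact d.sq (d.le P₀ hP₀ hp₀)) hp₀1] at h1
      exact (Nat.not_even_iff_odd.2 hW) (even_iff_two_dvd.2 h1)
  have dead := dead (not_not.1 hW1)
  set E := ⨆ P ∈ bl, blockClosure bl P with hE
  have hleE : ∀ P ∈ bl, blockClosure bl P ≤ E := fun P hP =>
    le_iSup₂ (f := fun P (_ : P ∈ bl) => blockClosure bl P) P hP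
  set M := normalizer (E : Set G)
  have hclM : ∀ P ∈ bl, blockClosure bl P ≤ M := fun P hP => (hleE P hP).trans le_normalizer
  have hNS : normalizer ((S : Subgroup G) : Set G) ≤ M := by
    refine le_normalizer_of_conj_mem fun n hn => ?_
    have : E ≤ E.comap (MulAut.conj n).toMonoidHom := iSup₂_le fun P hP x hx =>
      hleE _ (d.perm n hn P hP) (d.conj_blockClosure hn hx)
    exact fun x hx => this hx
  have hCA : centralizer (A : Set G) ≤ M := by
    refine le_normalizer_of_conj_mem fun c hc => ?_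
    have : E ≤ E.comap (MulAut.conj c).toMonoidHom := iSup₂_le fun P hP x hx =>
      hleE P hP ((mem_normalizer_iff.1 (d.centralizer_le_normalizer_closure P
        (centralizer_le (d.Bc_le P) hc)) x).1 hx)
    exact fun x hx => this hx
  have hNA : normalizer (A : Set G) ≤ M := d.normalizer_A_le.trans (sup_le hCA hNS)
  have hCB : ∀ P ∈ bl, centralizer (Bc bl P : Set G) ≤ M := fun P hP =>
    (d.centralizer_Bc_le hP).trans (sup_le (hclM P hP) hNA)
  have hAcard : 16 ≤ Nat.card ↥A := by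
    obtain ⟨R, hR, hRP, -⟩ := d.three P₀ hP₀ P₀ hP₀
    have h1 := card_mul_le (U := A) (d.le P₀ hP₀) (d.Bc_le P₀) (d.disj P₀ hP₀)
    have h2 := (d.four R hR).trans (Subgroup.card_le_of_le (d.le_Bc hR hRP))
    have h3 := Nat.mul_le_mul (d.four P₀ hP₀) h2
    omega
  have hAe : Cfsg.IsElementaryAbelian 2 A :=
    ⟨⟨⟨fun a b => Subtype.ext (d.A_comm a.2 b.2)⟩⟩, fun a ha => by rw [pow_two]; exact d.sq ha⟩
  refine d.false_of_le M ?_ fun a ha ha1 => ?_
  · intro htop
    haveI : E.Normal := normalizer_eq_top_iff.1 htop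
    have hEtop : E = ⊤ := (‹E.Normal›).eq_bot_or_eq_top.resolve_left fun e =>
      hp₀1 (mem_bot.1 (e ▸ hleE P₀ hP₀ (d.mem_blockClosure hp₀)))
    have hVn : (blockClosure bl P₀).Normal := by
      refine normalizer_eq_top_iff.1 (top_le_iff.1 (hEtop ▸ iSup₂_le fun Q hQ => ?_))
      by_cases hne : Q = P₀
      · rw [hne]; exact le_normalizer
      · exact (d.closure_commute dead hQ hP₀ hne).trans (centralizer_le_normalizer _)
    have hVtop : blockClosure bl P₀ = ⊤ := hVn.eq_bot_or_eq_top.resolve_left fun e =>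
      hp₀1 (mem_bot.1 (e ▸ d.mem_blockClosure hp₀))
    obtain ⟨R, hR, hRP, -⟩ := d.three P₀ hP₀ P₀ hP₀
    obtain ⟨r, hr, hr1⟩ := d.exists_mem_ne hR
    have hz : r ∈ center G := mem_center_iff.2 fun x =>
      mem_centralizer_comm.1 (d.blockClosure_le hP₀ (hVtop ▸ mem_top x)) r (d.le_Bc hR hRP hr)
    rcases (inferInstance : (center G).Normal).eq_bot_or_eq_top with e | e
    · exact hr1 (mem_bot.1 (e ▸ hz))
    · exact hna ⟨⟨fun a b => mem_center_iff.1 (e ▸ mem_top b) a⟩⟩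
  · refine (d.gen a ha ha1).trans (sup_le (sup_le ?_ (iSup₂_le hCB)) hNA)
    have hAn : A ≤ normalizer (O a : Set G) :=
      le_trans (fun b hb => mem_centralizer_one.2 (d.A_comm hb ha)) (d.O_norm a ha ha1)
    rw [Components.Hyperplane.eq_iSup_hyperplane hAe (le_trans (by norm_num) hAcard)
      (fun h2 => Nat.not_even_iff_odd.2 (d.O_odd a ha ha1) (even_iff_two_dvd.2 h2)) hAn]
    refine iSup_le fun D => ?_
    by_cases hex : ∃ P ∈ bl, Bc bl P ≤ (D : Subgroup G)
    · obtain ⟨P, hP, hle⟩ := hex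
      exact inf_le_right.trans ((centralizer_le hle).trans (hCB P hP))
    push Not at hex
    rintro x ⟨hxO, hxD⟩
    refine hCA (mem_centralizer_comm.2 fun b hb => ?_)
    have hD4 : 4 ≤ Nat.card ↥(D : Subgroup G) := by
      have h1 : Nat.card (D : Subgroup G) * (D : Subgroup G).relIndex A = Nat.card A := by
        rw [← relIndex_bot_left, ← relIndex_bot_left A]
        exact relIndex_mul_relIndex _ _ _ bot_le D.2.1
      rw [D.2.2] at h1
      omega
    obtain ⟨e, he, he1⟩ : ∃ e ∈ (D : Subgroup G), e ≠ 1 := by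
      by_contra hcon
      push Not at hcon
      rw [(eq_bot_iff_forall (D : Subgroup G)).2 hcon, card_bot] at hD4
      omega
    have hxodd : Odd (orderOf x) := by
      have h1 : orderOf x ∣ Nat.card ↥(O a) := by
        rw [← Subgroup.orderOf_mk x hxO]; exact orderOf_dvd_natCard _
      exact (d.O_odd a ha ha1).of_dvd_nat h1
    set c := x⁻¹ * (b * x * b⁻¹) with hc
    have hcO : ∀ e ∈ (D : Subgroup G), e ≠ 1 → c ∈ O e := fun e he he1 =>
      d.flat D D.2.1 D.2.2 hex e he he1 x hxD hxodd b hb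
    have hbc := dead _ D.2.1 hD4 c hcO b hb
    have hb2 := d.sq hb
    have hbi : b⁻¹ = b := inv_eq_of_mul_eq_one_right hb2
    have h1 : c * c = 1 := by
      have e1 : c = b * c * b⁻¹ := by rw [hbc, mul_inv_cancel_right]
      conv_lhs => arg 2; rw [e1]
      rw [hc, hbi, show x⁻¹ * (b * x * b) * (b * (x⁻¹ * (b * x * b)) * b) =
        x⁻¹ * b * x * (b * b) * x⁻¹ * b * x * (b * b) by group, hb2]
      rw [mul_one, mul_one, show x⁻¹ * b * x * x⁻¹ * b * x = x⁻¹ * (b * b) * x by group, hb2, mul_one,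
        inv_mul_cancel]
    have h2 := eq_one_of_sq_of_odd (d.O_odd e (D.2.1 he) he1) (hcO e he he1) h1
    calc x * b = x * c * b := by rw [h2, mul_one]
      _ = b * x * (b⁻¹ * b) := by rw [hc]; group
      _ = b * x := by rw [inv_mul_cancel, mul_one]

end BlockData

end Cfsg.Agent.Walter.Core
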