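import Cfsg.Agent.Lib.Walter.Core.Setting
import Cfsg.Agent.Lib.Walter.Core.AtomLinear
import Cfsg.Agent.Lib.Walter.Core.Blocks

/-!
# From an irreducible `A` of order at least sixteen to the blocks

The pairs `(A ⊓ J, bd a J)` of the atoms that are maximal form a system of at least three blocks.
-/

set_option autoImplicit false
set_option linter.unusedSectionVars false
set_option linter.style.haveILetI false

open Subgroup
open scoped Pointwise

namespace Cfsg.Agent.Walter.Core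

variable {G : Type*} [Group G] [Finite G]

theorem conj_coreOf_le (g : G) (X : Subgroup G) : MulAut.conj g • coreOf X ≤ coreOf (MulAut.conj g • X) := by
  refine le_coreOf (fun x hx => mem_conj.2 (coreOf_le X (mem_conj.1 hx))) ?_ ?_
  · intro y hy
    refine mem_normalizer_iff.2 fun x => ?_
    rw [mem_conj, mem_conj, mem_normalizer_iff.1 (le_normalizer_coreOf X (mem_conj.1 hy)) (g⁻¹ * x * g),
      show g⁻¹ * y * g * (g⁻¹ * x * g) * (g⁻¹ * y * g)⁻¹ = g⁻¹ * (y * x * y⁻¹) * g by group]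
  · rw [card_conj_eq g (coreOf X)]
    exact odd_coreOf X
where
  card_conj_eq (g : G) (C : Subgroup G) : Nat.card ↥(MulAut.conj g • C) = Nat.card ↥C :=
    (Nat.card_congr (equivSMul (MulAut.conj g) C).toEquiv).symm

theorem conj_oc (g a : G) : MulAut.conj g • oc a = oc (g * a * g⁻¹) := by
  have key : ∀ g a : G, MulAut.conj g • oc a ≤ oc (g * a * g⁻¹) := fun g a => by
    refine (conj_coreOf_le g _).trans (le_of_eq (congrArg coreOf ?_))
    ext x
    rw [mem_conj, mem_centralizer_singleton_iff, mem_centralizer_singleton_iff]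
    constructor
    · intro e
      calc x * (g * a * g⁻¹) = g * (g⁻¹ * x * g * a) * g⁻¹ := by group
        _ = g * a * g⁻¹ * x := by rw [e]; group
    · intro e
      calc g⁻¹ * x * g * a = g⁻¹ * (x * (g * a * g⁻¹)) * g := by group
        _ = a * (g⁻¹ * x * g) := by rw [e]; group
  refine le_antisymm (key g a) fun x hx => mem_conj.2 ?_
  have := key g⁻¹ (g * a * g⁻¹) (conj_mem_conj (g := g⁻¹) hx)
  simpa [mul_assoc] using this

/-- The blocks. -/
structure Blocks (S : Sylow 2 G) (A : Subgroup G) (cov : G → Set (Subgroup G))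
    (bd : G → Subgroup G → Subgroup G) (bl : Set (Subgroup G)) : Prop where
  le : ∀ P ∈ bl, P ≤ A
  four : ∀ P ∈ bl, 4 ≤ Nat.card ↥P
  disj : ∀ P ∈ bl, ∀ x ∈ P, x ∈ Bc bl P → x = 1
  span : ∀ P ∈ bl, P ⊔ Bc bl P = A
  nonempty : bl.Nonempty
  three : ∀ P ∈ bl, ∀ Q ∈ bl, ∃ R ∈ bl, R ≠ P ∧ R ≠ Q
  perm : ∀ n ∈ normalizer ((S : Subgroup G) : Set G), ∀ P ∈ bl, MulAut.conj n • P ∈ bl
  inside : ∀ a ∈ A, a ≠ 1 → ∀ J ∈ cov a, ∃ P ∈ bl, A ⊓ J ≤ P ∧ Bc bl P ≤ bd a J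

/-- A pair of an atom. -/
def IsPair (A : Subgroup G) (cov : G → Set (Subgroup G)) (bd : G → Subgroup G → Subgroup G)
    (p : Subgroup G × Subgroup G) : Prop :=
  ∃ a ∈ A, a ≠ 1 ∧ ∃ J ∈ cov a, p = (A ⊓ J, bd a J)

/-- The order on pairs. -/
def PairLe (p q : Subgroup G × Subgroup G) : Prop := p.1 ≤ q.1 ∧ q.2 ≤ p.2

/-- A maximal pair. -/
def MaxPair (A : Subgroup G) (cov : G → Set (Subgroup G)) (bd : G → Subgroup G → Subgroup G)
    (p : Subgroup G × Subgroup G) : Prop :=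
  IsPair A cov bd p ∧ ∀ q, IsPair A cov bd q → PairLe p q → p = q

/-- Irreducibility from the absence of invariant decompositions. -/
theorem irreducible_of_no_split {S : Sylow 2 G} {A : Subgroup G}
    (hab : ∀ x ∈ (S : Subgroup G), ∀ y ∈ (S : Subgroup G), x * y = y * x) (hAS : A ≤ (S : Subgroup G))
    (hinv : normalizer ((S : Subgroup G) : Set G) ≤ normalizer (A : Set G)) (hsq : ∀ x ∈ A, x * x = 1)
    (hno : ∀ V U : Subgroup G, V ≤ A → U ≤ A →
      (∀ n ∈ normalizer ((S : Subgroup G) : Set G), ∀ x ∈ V, n * x * n⁻¹ ∈ V) →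
      (∀ n ∈ normalizer ((S : Subgroup G) : Set G), ∀ x ∈ U, n * x * n⁻¹ ∈ U) →
      (∀ x ∈ V, x ∈ U → x = 1) → (∀ x ∈ A, ∃ v ∈ V, ∃ u ∈ U, v * u = x) → V ≠ ⊥ → U ≠ ⊥ → False)
    (C : Subgroup G) (hC : C ≤ A)
    (hCn : ∀ n ∈ normalizer ((S : Subgroup G) : Set G), ∀ x ∈ C, n * x * n⁻¹ ∈ C) : C = ⊥ ∨ C = A := by
  refine or_iff_not_imp_left.2 fun hC0 => ?_
  letI : CommGroup ↥A :=
    { (inferInstance : Group ↥A) with mul_comm := fun a b => Subtype.ext (hab _ (hAS a.2) _ (hAS b.2)) }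
  obtain ⟨B', hB', hdisj, hspan⟩ := exists_invariant_compl (V := ↥A) (Q := ↥(actHom S A hinv).range)
    (odd_actHom_range S hab A hinv hAS) (fun v => Subtype.ext (hsq v v.2)) (C.subgroupOf A) (by
      rintro ⟨q, n, rfl⟩ a ha
      show ((actHom S A hinv n a : ↥A) : G) ∈ C
      rw [actHom_apply]
      exact hCn n n.2 _ ha)
  by_cases hB : B' = ⊥
  · refine le_antisymm hC fun x hx => ?_
    obtain ⟨a, ha, b, hb, e⟩ := hspan ⟨x, hx⟩
    rw [hB, mem_bot] at hb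
    rw [hb, mul_one] at e
    rw [e] at ha
    exact ha
  exfalso
  refine hno C (B'.map A.subtype) hC (map_subtype_le _) hCn ?_ ?_ ?_ hC0 ?_
  · rintro n hn x ⟨⟨y, hy⟩, hy', rfl⟩
    exact ⟨actHom S A hinv ⟨n, hn⟩ ⟨y, hy⟩, hB' ⟨_, ⟨n, hn⟩, rfl⟩ _ hy', rfl⟩
  · rintro x hx ⟨⟨y, hy⟩, hy', rfl⟩
    exact congrArg Subtype.val (hdisj ⟨y, hy⟩ hx hy')
  · intro x hx
    obtain ⟨a, ha, b, hb, e⟩ := hspan ⟨x, hx⟩
    exact ⟨a, ha, b, ⟨b, hb, rfl⟩, congrArg Subtype.val e⟩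
  · rwa [Ne, Subgroup.map_eq_bot_iff_of_injective _ A.subtype_injective]

namespace CoreSys

variable {S : Sylow 2 G} {A : Subgroup G} {cov : G → Set (Subgroup G)} {bd : G → Subgroup G → Subgroup G}
  (h : CoreSys S A cov bd)

include h

theorem leS : A ≤ (S : Subgroup G) := fun x hx => ((h.omega x).1 hx).1

theorem sq {x : G} (hx : x ∈ A) : x * x = 1 := ((h.omega x).1 hx).2

theorem normalizer_le_A : normalizer ((S : Subgroup G) : Set G) ≤ normalizer (A : Set G) := fun n hn =>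
  mem_normalizer_iff.2 fun x => by
    rw [h.omega, h.omega, ← mem_normalizer_iff.1 hn x,
      show n * x * n⁻¹ * (n * x * n⁻¹) = n * (x * x) * n⁻¹ by group, conj_eq_one_iff]

theorem conj_memA {n x : G} (hn : n ∈ normalizer ((S : Subgroup G) : Set G)) (hx : x ∈ A) :
    n * x * n⁻¹ ∈ A := (mem_normalizer_iff.1 (h.normalizer_le_A hn) x).1 hx

theorem bd_le {a : G} (ha : a ∈ A) (ha1 : a ≠ 1) {J : Subgroup G} (hJ : J ∈ cov a) : bd a J ≤ A :=
  fun s hs => ((h.bd_iff a ha ha1 J hJ s).1 hs).1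

theorem pair_conj {p : Subgroup G × Subgroup G} (hp : IsPair A cov bd p) {n : G}
    (hn : n ∈ normalizer ((S : Subgroup G) : Set G)) :
    IsPair A cov bd (MulAut.conj n • p.1, MulAut.conj n • p.2) := by
  obtain ⟨a, ha, ha1, J, hJ, rfl⟩ := hp
  have hb := h.conj_memA hn ha
  have hb1 : n * a * n⁻¹ ≠ 1 := fun e => ha1 (conj_eq_one_iff.1 e)
  have hJ' := h.cov_conj a ha ha1 n hb J hJ
  have hA : ∀ x : G, x ∈ A ↔ n⁻¹ * x * n ∈ A := fun x => mem_normalizer_iff''.1 (h.normalizer_le_A hn) x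
  refine ⟨_, hb, hb1, _, hJ', Prod.ext (Subgroup.ext fun x => ?_) (Subgroup.ext fun x => ?_)⟩
  · rw [mem_conj, mem_inf, mem_inf, mem_conj, hA x]
  · show x ∈ MulAut.conj n • bd a J ↔ _
    rw [mem_conj, h.bd_iff a ha ha1 J hJ, h.bd_iff _ hb hb1 _ hJ', ← hA x]
    refine and_congr_right fun _ => ⟨fun H j hj => ?_, fun H j hj => ?_⟩
    · have h1 := conj_mem_conj (g := n) (H _ (mem_conj.1 hj))
      rw [conj_oc] at h1
      convert h1 using 1
      group
    · have h1 := H _ (conj_mem_conj (g := n) hj)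
      rw [← conj_oc, mem_conj] at h1
      convert h1 using 1
      group

theorem max_conj {p : Subgroup G × Subgroup G} (hp : MaxPair A cov bd p) {n : G}
    (hn : n ∈ normalizer ((S : Subgroup G) : Set G)) :
    MaxPair A cov bd (MulAut.conj n • p.1, MulAut.conj n • p.2) := by
  refine ⟨h.pair_conj hp.1 hn, fun q hq hle => ?_⟩
  have h1 := hp.2 _ (h.pair_conj hq (inv_mem hn))
    ⟨fun x hx => mem_conj.2 (by simpa using hle.1 (conj_mem_conj (g := n) hx)),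
      fun x hx => by
        have := hle.2 (by simpa [mul_assoc] using mem_conj.1 hx : n * x * n⁻¹ ∈ q.2)
        simpa [mul_assoc] using mem_conj.1 this⟩
  rw [h1]
  simp only [smul_smul, ← map_mul, mul_inv_cancel, map_one, one_smul]

theorem exists_max {p : Subgroup G × Subgroup G} (hp : IsPair A cov bd p) :
    ∃ q, MaxPair A cov bd q ∧ PairLe p q := by
  have hfin : ({q | IsPair A cov bd q ∧ PairLe p q} : Set (Subgroup G × Subgroup G)).Finite := Set.toFinite _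
  obtain ⟨q, hq, hmax⟩ := Set.exists_max_image _
    (fun q : Subgroup G × Subgroup G => Nat.card ↥q.1 * (Nat.card G + 1) + (Nat.card G - Nat.card ↥q.2))
    hfin ⟨p, hp, le_rfl, le_rfl⟩
  refine ⟨q, ⟨hq.1, fun r hr hle => ?_⟩, hq.2⟩
  have hb := hmax r ⟨hr, hq.2.1.trans hle.1, hle.2.trans hq.2.2⟩
  have h1 := Subgroup.card_le_of_le hle.1
  have h2 := Subgroup.card_le_of_le hle.2
  have h3 := Subgroup.card_le_card_group q.2
  have h4 : Nat.card ↥q.1 = Nat.card ↥r.1 := by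
    by_contra hne
    have : (Nat.card ↥q.1 + 1) * (Nat.card G + 1) ≤ Nat.card ↥r.1 * (Nat.card G + 1) :=
      Nat.mul_le_mul_right _ (by omega)
    rw [add_mul, one_mul] at this
    omega
  rw [h4] at hb
  exact Prod.ext (eq_of_le_of_card_ge hle.1 h4.ge) (eq_of_le_of_card_ge hle.2 (by omega)).symm

/-- A maximal pair is realised at every involution of its second part. -/
theorem realised {p : Subgroup G × Subgroup G} (hp : MaxPair A cov bd p) {b : G} (hb : b ∈ p.2)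
    (hb1 : b ≠ 1) : ∃ J ∈ cov b, p = (A ⊓ J, bd b J) := by
  obtain ⟨a, ha, ha1, J, hJ, rfl⟩ := hp.1
  obtain ⟨J', hJ', h1, h2⟩ := h.grow a ha ha1 J hJ b hb hb1
  exact ⟨J', hJ', hp.2 _ ⟨b, h.bd_le ha ha1 hJ hb, hb1, J', hJ', rfl⟩ ⟨h1, h2⟩⟩

theorem pair_facts {p : Subgroup G × Subgroup G} (hp : IsPair A cov bd p) :
    p.1 ≤ A ∧ p.2 ≤ A ∧ 4 ≤ Nat.card ↥p.1 ∧ (∀ x ∈ p.1, x ∈ p.2 → x = 1) ∧
      (∀ x ∈ A, ∃ w ∈ p.1, ∃ b ∈ p.2, w * b = x) ∧ ∃ b ∈ p.2, b ≠ 1 := by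
  obtain ⟨a, ha, ha1, J, hJ, rfl⟩ := hp
  refine ⟨inf_le_left, h.bd_le ha ha1 hJ, h.four a ha ha1 J hJ, h.disj a ha ha1 J hJ, fun x hx => ?_,
    a, h.self a ha ha1 J hJ, ha1⟩
  have hx' := h.span a ha ha1 J hJ hx
  have hn : bd a J ≤ normalizer ((A ⊓ J : Subgroup G) : Set G) := fun b hb =>
    centralizer_le_normalizer _ (mem_centralizer_comm.2 fun y hy =>
      h.comm b (h.leS (h.bd_le ha ha1 hJ hb)) y (h.leS hy.1))
  rw [← SetLike.mem_coe, coe_mul_of_right_le_normalizer_left _ _ hn] at hx'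
  obtain ⟨w, hw, b, hb, e⟩ := hx'
  exact ⟨w, hw, b, hb, e⟩

theorem max_pair {p q : Subgroup G × Subgroup G} (hp : MaxPair A cov bd p) (hq : MaxPair A cov bd q) :
    p = q ∨ (q.1 ≤ p.2 ∧ p.1 ≤ q.2) ∨ ∀ x ∈ p.2, x ∈ q.2 → x = 1 := by
  by_cases hd : ∀ x ∈ p.2, x ∈ q.2 → x = 1
  · exact Or.inr (Or.inr hd)
  push Not at hd
  obtain ⟨b, hbp, hbq, hb1⟩ := hd
  obtain ⟨J, hJ, rfl⟩ := h.realised hp hbp hb1
  obtain ⟨J', hJ', rfl⟩ := h.realised hq hbq hb1
  by_cases hJJ : J = J'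
  · exact Or.inl (by rw [hJJ])
  have hbA : b ∈ A := (h.pair_facts hp.1).2.1 hbp
  exact Or.inr (Or.inl ⟨h.orth b hbA hb1 J' hJ' J hJ (Ne.symm hJJ), h.orth b hbA hb1 J hJ J' hJ' hJJ⟩)

/-- The blocks of an irreducible `A` of order at least sixteen. -/
theorem exists_blocks (h16 : 16 ≤ Nat.card ↥A)
    (hirr : ∀ C : Subgroup G, C ≤ A →
      (∀ n ∈ normalizer ((S : Subgroup G) : Set G), ∀ x ∈ C, n * x * n⁻¹ ∈ C) → C = ⊥ ∨ C = A)
    {a₀ : G} (ha₀ : a₀ ∈ A) (ha₀1 : a₀ ≠ 1) {J₀ : Subgroup G} (hJ₀ : J₀ ∈ cov a₀) :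
    ∃ bl : Set (Subgroup G), Blocks S A cov bd bl := by
  have hmove : ∀ p, IsPair A cov bd p →
      ∃ n ∈ normalizer ((S : Subgroup G) : Set G), MulAut.conj n • p.1 ≠ p.1 := by
    intro p hp
    obtain ⟨h1, h2, h4, hd, -, b, hb, hb1⟩ := h.pair_facts hp
    by_contra hcon
    push Not at hcon
    rcases hirr p.1 h1 (fun n hn x hx => hcon n hn ▸ conj_mem_conj hx) with e | e
    · rw [e, card_bot] at h4; omega
    · exact hb1 (hd b (e.ge (h2 hb)) hb)
  have hatom : ∀ p, MaxPair A cov bd p → Nat.card ↥p.1 < Nat.card ↥p.2 := by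
    intro p hp
    obtain ⟨h1, h2, h4, hd, hsp, hbne⟩ := h.pair_facts hp.1
    have hA : AtomPair S A p.1 p.2 := by
      refine ⟨h.comm, h.leS, h.normalizer_le_A, fun x hx => h.sq hx, h1, h2, hsp, hd, h4, hbne,
        fun u hu hu1 v hv hv1 => ?_, hmove p hp.1, fun n hn => ?_⟩
      · obtain ⟨b, hb, hb1⟩ := hbne
        obtain ⟨J, hJ, rfl⟩ := h.realised hp hb hb1
        obtain ⟨n, hn, hnN, e⟩ := h.torus b (h2 hb) hb1 J hJ u hu hu1 v hv hv1
        exact ⟨n, hnN, e, fun c hc => by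
          rw [← (mem_centralizer_iff.1 hn.2 c hc), mul_inv_cancel_right]⟩
      · rcases h.max_pair hp (h.max_conj hp hn) with e | e | e
        · exact Or.inl ⟨(congrArg Prod.fst e).symm, (congrArg Prod.snd e).symm⟩
        · exact Or.inr (Or.inl e)
        · exact Or.inr (Or.inr e)
    rcases hA.main with ⟨h8, -⟩ | ⟨hlt, -⟩
    · omega
    · exact hlt
  have hall : ∀ p q, MaxPair A cov bd p → MaxPair A cov bd q → p = q ∨ (q.1 ≤ p.2 ∧ p.1 ≤ q.2) := by
    intro p q hp hq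
    rcases h.max_pair hp hq with e | e | e
    · exact Or.inl e
    · exact Or.inr e
    · exfalso
      have hp' := hatom p hp
      have hq' := hatom q hq
      have hcard : ∀ r, MaxPair A cov bd r → Nat.card ↥r.1 * Nat.card ↥r.2 = Nat.card ↥A := fun r hr => by
        obtain ⟨h1, h2, h4, hd, hsp, hbne⟩ := h.pair_facts hr.1
        rw [← Nat.card_prod]
        refine Nat.card_congr (Equiv.ofBijective (fun x : ↥r.1 × ↥r.2 => (⟨(x.1 : G) * x.2,
          mul_mem (h1 x.1.2) (h2 x.2.2)⟩ : ↥A)) ⟨?_, fun v => ?_⟩)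
        · rintro ⟨⟨a, ha⟩, ⟨b, hb⟩⟩ ⟨⟨a', ha'⟩, ⟨b', hb'⟩⟩ e
          have e' : a * b = a' * b' := congrArg Subtype.val e
          have h5 : a'⁻¹ * a = b' * b⁻¹ := by
            rw [inv_mul_eq_iff_eq_mul, ← mul_assoc, ← e', mul_inv_cancel_right]
          obtain rfl : a' = a := eq_of_inv_mul_eq_one
            (hd _ (mul_mem (inv_mem ha') ha) (h5 ▸ mul_mem hb' (inv_mem hb)))
          obtain rfl := mul_left_cancel e'
          rfl
        · obtain ⟨w, hw, b, hb, e⟩ := hsp v v.2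
          exact ⟨(⟨w, hw⟩, ⟨b, hb⟩), Subtype.ext e⟩
      have hle : Nat.card ↥p.2 * Nat.card ↥q.2 ≤ Nat.card ↥A := by
        rw [← Nat.card_prod]
        refine Nat.card_le_card_of_injective (fun x : ↥p.2 × ↥q.2 => (⟨(x.1 : G) * x.2,
          mul_mem ((h.pair_facts hp.1).2.1 x.1.2) ((h.pair_facts hq.1).2.1 x.2.2)⟩ : ↥A)) ?_
        rintro ⟨⟨a, ha⟩, ⟨b, hb⟩⟩ ⟨⟨a', ha'⟩, ⟨b', hb'⟩⟩ e'
        have e'' : a * b = a' * b' := congrArg Subtype.val e'
        have h5 : a'⁻¹ * a = b' * b⁻¹ := by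
          rw [inv_mul_eq_iff_eq_mul, ← mul_assoc, ← e'', mul_inv_cancel_right]
        obtain rfl : a' = a := eq_of_inv_mul_eq_one
          (e _ (mul_mem (inv_mem ha') ha) (h5 ▸ mul_mem hb' (inv_mem hb)))
        obtain rfl := mul_left_cancel e''
        rfl
      have hcp := hcard p hp
      have hcq := hcard q hq
      nlinarith
  have hinj : ∀ p q, MaxPair A cov bd p → MaxPair A cov bd q → p.1 = q.1 → p = q := by
    intro p q hp hq e
    refine (hall p q hp hq).resolve_right fun e' => ?_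
    obtain ⟨-, -, h4, hd, -, -⟩ := h.pair_facts hp.1
    have : p.1 = ⊥ := (eq_bot_iff_forall p.1).2 fun x hx => hd x hx (e'.1 (e ▸ hx))
    rw [this, card_bot] at h4
    omega
  refine ⟨{P | ∃ p, MaxPair A cov bd p ∧ p.1 = P}, ?_⟩
  set bl : Set (Subgroup G) := {P | ∃ p, MaxPair A cov bd p ∧ p.1 = P}
  obtain ⟨p₀, hp₀, -⟩ := h.exists_max (p := (A ⊓ J₀, bd a₀ J₀)) ⟨a₀, ha₀, ha₀1, J₀, hJ₀, rfl⟩
  have hperm : ∀ n ∈ normalizer ((S : Subgroup G) : Set G), ∀ P ∈ bl, MulAut.conj n • P ∈ bl := by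
    rintro n hn _ ⟨p, hp, rfl⟩
    exact ⟨_, h.max_conj hp hn, rfl⟩
  have htop : sSup bl = A := by
    refine (hirr _ (sSup_le fun P hP => ?_) fun n hn => ?_).resolve_left fun e => ?_
    · obtain ⟨p, hp, rfl⟩ := hP
      exact (h.pair_facts hp.1).1
    · have : sSup bl ≤ (sSup bl).comap (MulAut.conj n).toMonoidHom :=
        sSup_le fun P hP x hx => le_sSup (hperm n hn P hP) (conj_mem_conj hx)
      exact fun x hx => this hx
    · have h4 := (h.pair_facts hp₀.1).2.2.1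
      rw [show p₀.1 = ⊥ from le_bot_iff.1 (e ▸ le_sSup ⟨p₀, hp₀, rfl⟩), card_bot] at h4
      omega
  have hBc : ∀ p, MaxPair A cov bd p → Bc bl p.1 = p.2 ∧ p.1 ⊔ Bc bl p.1 = A := by
    intro p hp
    obtain ⟨h1, h2, -, hd, -, -⟩ := h.pair_facts hp.1
    have hle : Bc bl p.1 ≤ p.2 := sSup_le fun P hP => by
      obtain ⟨⟨q, hq, rfl⟩, hne⟩ := hP
      exact ((hall p q hp hq).resolve_left fun e => hne (by rw [e]; rfl)).1
    have hsup : p.1 ⊔ Bc bl p.1 = A := by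
      refine le_antisymm (sup_le h1 (hle.trans h2)) (htop.symm.trans_le (sSup_le fun P hP => ?_))
      by_cases hPp : P = p.1
      · exact hPp ▸ le_sup_left
      · exact le_sup_of_le_right (le_sSup ⟨hP, hPp⟩)
    refine ⟨le_antisymm hle fun x hx => ?_, hsup⟩
    have hx' : x ∈ (p.1 ⊔ Bc bl p.1 : Subgroup G) := hsup.symm ▸ h2 hx
    have hn : Bc bl p.1 ≤ normalizer (p.1 : Set G) := fun b hb =>
      centralizer_le_normalizer _ (mem_centralizer_comm.2 fun y hy =>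
        h.comm b (h.leS (h2 (hle hb))) y (h.leS (h1 hy)))
    rw [← SetLike.mem_coe, coe_mul_of_right_le_normalizer_left _ _ hn] at hx'
    obtain ⟨w, hw, b, hb, rfl⟩ := hx'
    have hw1 : w = 1 := hd w hw (by simpa using mul_mem hx (inv_mem (hle hb)))
    show w * b ∈ Bc bl p.1
    rw [hw1, one_mul]
    exact hb
  refine ⟨?_, ?_, ?_, ?_, ⟨_, p₀, hp₀, rfl⟩, ?_, hperm, ?_⟩
  · rintro _ ⟨p, hp, rfl⟩
    exact (h.pair_facts hp.1).1
  · rintro _ ⟨p, hp, rfl⟩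
    exact (h.pair_facts hp.1).2.2.1
  · rintro _ ⟨p, hp, rfl⟩ x hx hx'
    exact (h.pair_facts hp.1).2.2.2.1 x hx ((hBc p hp).1 ▸ hx')
  · rintro _ ⟨p, hp, rfl⟩
    exact (hBc p hp).2
  · rintro _ ⟨p, hp, rfl⟩ _ ⟨q, hq, rfl⟩
    by_contra hcon
    push Not at hcon
    have hle : ∀ r s, MaxPair A cov bd r → (∀ R ∈ bl, R ≠ r.1 → R = s) → r.2 ≤ s := by
      intro r s hr hR
      rw [← (hBc r hr).1]
      exact sSup_le fun R hR' => (hR R hR'.1 hR'.2).le
    have h1 := Subgroup.card_le_of_le (hle p q.1 hp hcon)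
    have h2 := Subgroup.card_le_of_le (hle q p.1 hq fun R hR hne => by
      by_contra hne'
      exact hne (hcon R hR hne'))
    have := hatom p hp
    have := hatom q hq
    omega
  · intro a ha ha1 J hJ
    obtain ⟨q, hq, hle⟩ := h.exists_max (p := (A ⊓ J, bd a J)) ⟨a, ha, ha1, J, hJ, rfl⟩
    exact ⟨q.1, ⟨q, hq, rfl⟩, hle.1, (hBc q hq).1 ▸ hle.2⟩

end CoreSys

end Cfsg.Agent.Walter.Core
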