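import Cfsg.Agent.Lib.Walter.Core.ReduciblePairs
import Cfsg.Agent.Lib.Walter.Core.FunctorNormalizer
import Cfsg.Agent.Lib.Walter.Core.Linear

/-!
# `Ω₁(S)` is irreducible under `N(S)`

Rank at least four, `A = V × U` with both summands invariant.  Each atom lies in one side and the other side
centralises it.  If the signalizer `w0` is trivial then some `v` centralises the cores `O(C(v * u))`, so it is
central in these centralisers and commutes with a whole class.  Otherwise `N(w0)` contains the centralisers of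
all mixed involutions and of some `v`; for two summands of order four this uses either the tori of a component
or, when all components are flat, that `w0` is generated by the cores at `V`.
-/

set_option autoImplicit false
set_option linter.unusedSectionVars false
set_option linter.style.haveILetI false

open Subgroup

namespace Cfsg.Agent.Walter.Core.Reducible

universe u

variable {G : Type u} [Group G] [Finite G] {S : Sylow 2 G} {A V U : Subgroup G}
  {cov : G → Set (Subgroup G)} {bd : G → Subgroup G → Subgroup G} (h : CoreSys S A cov bd)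

include h

theorem bd_le_A {a : G} (ha : a ∈ A) (ha1 : a ≠ 1) {J : Subgroup G} (hJ : J ∈ cov a) : bd a J ≤ A :=
  fun s hs => ((h.bd_iff a ha ha1 J hJ s).1 hs).1

/-- An invariant subgroup contains the trace of an atom or centralises it. -/
theorem atom_dichotomy {a : G} (ha : a ∈ A) (ha1 : a ≠ 1) {J : Subgroup G} (hJ : J ∈ cov a) {X : Subgroup G}
    (hXA : X ≤ A) (hX : ∀ n ∈ normalizer ((S : Subgroup G) : Set G), ∀ x ∈ X, n * x * n⁻¹ ∈ X) :
    A ⊓ J ≤ X ∨ X ≤ bd a J := by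
  refine or_iff_not_imp_right.2 fun hn => ?_
  obtain ⟨x, hx, hxb⟩ := SetLike.not_le_iff_exists.1 hn
  obtain ⟨w, hw, c, hc, rfl⟩ := (Coprime.mem_sup_of_le_normalizer
    (le_normalizer_A h inf_le_left (bd_le_A h ha ha1 hJ))).1 (h.span a ha ha1 J hJ (hXA hx))
  have hw1 : w ≠ 1 := fun e => hxb (by rwa [e, one_mul])
  obtain ⟨w', hw', hw'1, hne⟩ := exists_two (h.four a ha ha1 J hJ) w
  obtain ⟨t, ht, htN, htw⟩ := h.torus a ha ha1 J hJ w hw hw1 w' hw' hw'1
  have htc : t * c * t⁻¹ = c := by rw [← mem_centralizer_iff.1 ht.2 c hc, mul_inv_cancel_right]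
  have h5 : w' * w⁻¹ ∈ X := by
    have := mul_mem (hX t htN _ hx) (inv_mem hx)
    rwa [show t * (w * c) * t⁻¹ = t * w * t⁻¹ * (t * c * t⁻¹) by group, htw, htc,
      show w' * c * (w * c)⁻¹ = w' * w⁻¹ by group] at this
  intro y hy
  by_cases hy1 : y = 1
  · exact hy1 ▸ one_mem X
  obtain ⟨t', -, ht'N, ht'w⟩ := h.torus a ha ha1 J hJ (w' * w⁻¹) (mul_mem hw' (inv_mem hw))
    (fun e => hne (mul_inv_eq_one.1 e)) y hy hy1
  exact ht'w ▸ hX t' ht'N _ h5

/-- The trace of an atom lies in one summand, its centraliser contains the other. -/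
theorem atom_side (p : Pair S A V U) {a : G} (ha : a ∈ A) (ha1 : a ≠ 1) {J : Subgroup G} (hJ : J ∈ cov a) :
    (A ⊓ J ≤ V ∧ U ≤ bd a J) ∨ (A ⊓ J ≤ U ∧ V ≤ bd a J) := by
  obtain ⟨w, hw, hw1, -⟩ := exists_two (h.four a ha ha1 J hJ) 1
  rcases atom_dichotomy h ha ha1 hJ p.le_left p.inv_left with hV | hV <;>
    rcases atom_dichotomy h ha ha1 hJ p.le_right p.inv_right with hU | hU
  · exact absurd (p.disj w (hV hw) (hU hw)) hw1
  · exact Or.inl ⟨hV, hU⟩
  · exact Or.inr ⟨hU, hV⟩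
  · exact absurd (h.disj a ha ha1 J hJ w hw (sup_le hV hU (p.span hw.1))) hw1

/-- The mixed involution puts both of its factors on the centralised side. -/
theorem mixed_mem_bd (p : Pair S A V U) {v u : G} (hv : v ∈ V) (hv1 : v ≠ 1) (hu : u ∈ U) {J : Subgroup G}
    (hJ : J ∈ cov (v * u)) : v ∈ bd (v * u) J ∧ u ∈ bd (v * u) J := by
  have ha : v * u ∈ A := mul_mem (p.le_left hv) (p.le_right hu)
  have ha1 := mul_ne_one p hv hv1 hu
  have hs := h.self _ ha ha1 J hJ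
  rcases atom_side h p ha ha1 hJ with ⟨-, hb⟩ | ⟨-, hb⟩
  · exact ⟨by simpa using mul_mem hs (inv_mem (hb hu)), hb hu⟩
  · exact ⟨hb hv, by simpa [← mul_assoc] using mul_mem (inv_mem (hb hv)) hs⟩

/-- `v` is central in `C(v * u)` modulo the core. -/
theorem central_mod_core (p : Pair S A V U) {v u : G} (hv : v ∈ V) (hv1 : v ≠ 1) (hu : u ∈ U) {g : G}
    (hg : g ∈ centralizer ({v * u} : Set G)) : v * g * v⁻¹ * g⁻¹ ∈ oc (v * u) := by
  set a := v * u
  have ha : a ∈ A := mul_mem (p.le_left hv) (p.le_right hu)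
  have ha1 : a ≠ 1 := mul_ne_one p hv hv1 hu
  have hvC : v ∈ centralizer ({a} : Set G) := h.A_le_cent ha (p.le_left hv)
  let K : Subgroup G :=
    { carrier := {g | g ∈ centralizer ({a} : Set G) ∧ v * g * v⁻¹ * g⁻¹ ∈ oc a}
      mul_mem' := fun {x y} hx hy => ⟨(centralizer ({a} : Set G)).mul_mem hx.1 hy.1, by
        rw [show v * (x * y) * v⁻¹ * (x * y)⁻¹ =
          v * x * v⁻¹ * x⁻¹ * (x * (v * y * v⁻¹ * y⁻¹) * x⁻¹) by group]
        exact mul_mem hx.2 (oc_conj_mem hx.1 hy.2)⟩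
      one_mem' := ⟨one_mem _, by simp⟩
      inv_mem' := fun {x} hx => ⟨(centralizer ({a} : Set G)).inv_mem hx.1, by
        rw [show v * x⁻¹ * v⁻¹ * x⁻¹⁻¹ = x⁻¹ * (v * x * v⁻¹ * x⁻¹)⁻¹ * x⁻¹⁻¹ by group]
        exact oc_conj_mem ((centralizer ({a} : Set G)).inv_mem hx.1) (inv_mem hx.2)⟩ }
  have hle : centralizer ({a} : Set G) ≤ K := by
    refine (h.frattini a ha ha1).trans (sup_le (sup_le ?_ (iSup₂_le fun J hJ j hj => ?_)) ?_)
    · exact fun o ho => ⟨oc_le a ho, mul_mem (oc_conj_mem hvC ho) (inv_mem ho)⟩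
    · exact ⟨(h.cov_le a ha ha1 J hJ).2 hj,
        ((h.bd_iff a ha ha1 J hJ v).1 (mixed_mem_bd h p hv hv1 hu hJ).1).2 j hj⟩
    · rintro n ⟨hn, hnN⟩
      refine ⟨hn, ?_⟩
      rw [← fix_left h p hv hu hnN (mem_centralizer_singleton_iff.1 hn), mul_inv_cancel_right, mul_inv_cancel]
      exact one_mem _
  exact (hle hg).2

variable (h16 : 16 ≤ Nat.card ↥A)

include h16

/-- With trivial signalizer `v` centralises the core of `C(v * u)`. -/
theorem core_le_centralizer (p : Pair S A V U) (hw : w0 A = ⊥) {v u : G} (hv : v ∈ V) (hv1 : v ≠ 1)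
    (hu : u ∈ U) : oc (v * u) ≤ centralizer ({v} : Set G) := by
  have ha : v * u ∈ A := mul_mem (p.le_left hv) (p.le_right hu)
  have ha1 := mul_ne_one p hv hv1 hu
  refine h.le_of_pieces (by omega) (odd_coreOf _) (h.A_normalizes_oc ha)
    (inf_le_right.trans (h.centA_le (p.le_left hv))) fun D hDA hD y hy hyD w hwA hwD hyw => ?_
  by_cases hvD : v ∈ D
  · exact mem_centralizer_one.2 (mem_centralizer_comm.1 hyD v hvD)
  by_cases hy1 : y = 1
  · exact hy1 ▸ one_mem _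
  have haD : v * u ∈ D := h.mem_of_inverted hDA hD hyD
    (odd_orderOf_of_mem (odd_coreOf _) hy) hwA hwD hyw ha (mem_centralizer_one.1 (oc_le _ hy)) hy1
  by_cases hall : ∀ k ∈ D, k ≠ 1 → y ∈ oc k
  · exact absurd (eq_one_of_piece hw ⟨hDA, hD, hyD, ⟨w, hwA, hyw⟩, hall⟩) hy1
  push Not at hall
  obtain ⟨k, hk, hk1, hyk⟩ := hall
  obtain ⟨J, hJ, -, hJD, -⟩ := h.bad D hDA hD _ haD ha1 k hk hk1 y hy hyD w hwA hyw hyk
  rcases atom_side h p (hDA hk) hk1 hJ with ⟨-, hb⟩ | ⟨-, hb⟩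
  · exact absurd (by simpa using mul_mem haD (inv_mem (hJD (hb hu)))) hvD
  · exact absurd (hJD (hb hv)) hvD

/-- The case of trivial signalizer. -/
theorem false_of_w0_bot [IsSimpleGroup G] (hna : ¬ IsMulCommutative G) (p : Pair S A V U)
    (hw : w0 A = ⊥) : False := by
  obtain ⟨v, hv, hv1⟩ := (Subgroup.bot_or_exists_ne_one V).resolve_left p.ne_left
  refine no_proper h p hv hv1 (centralizer_ne_top h hna hv1) le_rfl fun u hu _ g hg => ?_
  have ho := central_mod_core h p hv hv1 hu hg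
  set o := v * g * v⁻¹ * g⁻¹ with hodef
  have h1 : v * o * v⁻¹ = o := by
    rw [← mem_centralizer_one.1 (core_le_centralizer h h16 p hw hv hv1 hu ho), mul_inv_cancel_right]
  have hvi := h.A_inv (p.le_left hv)
  have h2 : v * o * v⁻¹ = o⁻¹ := by
    calc v * o * v⁻¹ = (v * v) * g * v⁻¹ * g⁻¹ * v⁻¹ := by rw [hodef]; group
      _ = g * v * g⁻¹ * v⁻¹ := by rw [h.A_sq (p.le_left hv), one_mul, hvi]
      _ = o⁻¹ := by rw [hodef]; group
  have h3 : o = 1 := StronglyClosedFour.eq_one_of_sq (odd_orderOf_of_mem (odd_coreOf _) ho)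
    (by nth_rewrite 2 [h1.symm.trans h2]; exact mul_inv_cancel o)
  rw [hodef, mul_inv_eq_one, mul_inv_eq_iff_eq_mul] at h3
  exact mem_centralizer_one.2 h3.symm

section Normalizer

variable {M : Subgroup G} (hN : normalizer ((S : Subgroup G) : Set G) ≤ M)
  (hO : ∀ a ∈ A, a ≠ 1 → oc a ≤ M)
  (hB : ∀ B ≤ A, 8 ≤ Nat.card ↥B → centralizer (B : Set G) ≤ M)

include hO

theorem cover_le_of_cent {a : G} (ha : a ∈ A) (ha1 : a ≠ 1) {J : Subgroup G} (hJ : J ∈ cov a)
    (hC : centralizer (bd a J : Set G) ≤ M) : J ≤ M :=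
  (h.lift a ha ha1 J hJ).trans (sup_le (hO a ha ha1) (inf_le_right.trans hC))

include hN

theorem cent_le_of_covers {a : G} (ha : a ∈ A) (ha1 : a ≠ 1) (hJ : ∀ J ∈ cov a, J ≤ M) :
    centralizer ({a} : Set G) ≤ M :=
  (h.frattini a ha ha1).trans (sup_le (sup_le (hO a ha ha1) (iSup₂_le hJ)) (inf_le_right.trans hN))

include hB

theorem cover_le_of_gen {a : G} (ha : a ∈ A) (ha1 : a ≠ 1) {J : Subgroup G} (hJ : J ∈ cov a)
    (h4 : 4 ≤ Nat.card ↥(bd a J)) (hg : GenTori (S : Subgroup G) A a J (bd a J)) : J ≤ M := by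
  refine le_trans hg (sup_le (sup_le (hO a ha ha1) (inf_le_right.trans hN)) (iSup_le fun w => ?_))
  refine inf_le_right.trans (hB _ (sup_le (bd_le_A h ha ha1 hJ) (zpowers_le.2 w.2.1.1)) ?_)
  have := two_mul_card_le h (le_sup_left (b := zpowers (w : G)) (a := bd a J))
    (mem_sup_right (mem_zpowers (w : G))) fun hm => w.2.2 (h.disj a ha ha1 J hJ _ w.2.1 hm)
  omega

theorem mixed_le [IsSimpleGroup G] (hna : ¬ IsMulCommutative G) (p : Pair S A V U) {v u : G} (hv : v ∈ V)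
    (hv1 : v ≠ 1) (hu : u ∈ U) (hu1 : u ≠ 1) : centralizer ({v * u} : Set G) ≤ M := by
  have ha : v * u ∈ A := mul_mem (p.le_left hv) (p.le_right hu)
  have ha1 := mul_ne_one p hv hv1 hu
  refine cent_le_of_covers h h16 hN hO ha ha1 fun J hJ => ?_
  refine cover_le_of_cent h h16 hO ha ha1 hJ (hB _ (bd_le_A h ha ha1 hJ) ?_)
  obtain ⟨hvb, hub⟩ := mixed_mem_bd h p hv hv1 hu hJ
  rcases atom_side h p ha ha1 hJ with ⟨-, hb⟩ | ⟨-, hb⟩
  · have := two_mul_card_le h hb hvb fun hm => hv1 (p.disj v hv hm)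
    have := four_le_left h hna p.symm
    omega
  · have := two_mul_card_le h hb hub fun hm => hu1 (p.disj u hm hu)
    have := four_le_left h hna p
    omega

theorem left_le (p : Pair S A V U) {v : G} (hv : v ∈ V) (hv1 : v ≠ 1)
    (hV : ∀ J ∈ cov v, A ⊓ J ≤ U → V ≤ bd v J → J ≤ M) (hU4 : 4 ≤ Nat.card ↥U) :
    centralizer ({v} : Set G) ≤ M := by
  have ha := p.le_left hv
  refine cent_le_of_covers h h16 hN hO ha hv1 fun J hJ => ?_
  rcases atom_side h p ha hv1 hJ with ⟨-, hb⟩ | ⟨hl, hb⟩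
  · refine cover_le_of_cent h h16 hO ha hv1 hJ (hB _ (bd_le_A h ha hv1 hJ) ?_)
    have := two_mul_card_le h hb (h.self v ha hv1 J hJ) fun hm => hv1 (p.disj v hv hm)
    omega
  · exact hV J hJ hl hb

theorem false_of_left [IsSimpleGroup G] (hna : ¬ IsMulCommutative G) (p : Pair S A V U) (hM : M ≠ ⊤) {v : G}
    (hv : v ∈ V) (hv1 : v ≠ 1) (hV : ∀ J ∈ cov v, A ⊓ J ≤ U → V ≤ bd v J → J ≤ M) : False :=
  no_proper h p hv hv1 hM (left_le h h16 hN hO hB p hv hv1 hV (four_le_left h hna p.symm))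
    fun _ hu hu1 => mixed_le h h16 hN hO hB hna p hv hv1 hu hu1

theorem false_of_big [IsSimpleGroup G] (hna : ¬ IsMulCommutative G) (p : Pair S A V U) (hM : M ≠ ⊤)
    (h8 : 8 ≤ Nat.card ↥V) : False := by
  obtain ⟨v, hv, hv1⟩ := (Subgroup.bot_or_exists_ne_one V).resolve_left p.ne_left
  refine false_of_left h h16 hN hO hB hna p hM hv hv1 fun J hJ _ hb => ?_
  exact cover_le_of_cent h h16 hO (p.le_left hv) hv1 hJ
    (hB _ (bd_le_A h (p.le_left hv) hv1 hJ) (h8.trans (card_le_of_le hb)))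

theorem false_of_nonflat [IsSimpleGroup G] (hna : ¬ IsMulCommutative G) (p : Pair S A V U) (hM : M ≠ ⊤)
    (hU : Nat.card ↥U = 4) {v : G} (hv : v ∈ V) (hv1 : v ≠ 1) {J : Subgroup G} (hJ : J ∈ cov v)
    (hl : A ⊓ J ≤ U) (hflat : ¬ Flat A v J) : False := by
  have ha := p.le_left hv
  have heq : A ⊓ J = U := eq_of_le_of_card_ge hl (hU.le.trans (h.four v ha hv1 J hJ))
  refine false_of_left h h16 hN hO hB hna p hM hv hv1 fun J' hJ' hl' hb' => ?_
  have hJJ : J' = J := by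
    by_contra hne
    obtain ⟨w, hw, hw1, -⟩ := exists_two (h.four v ha hv1 J' hJ') 1
    have hw' : w ∈ A ⊓ J := heq.symm ▸ hl' hw
    exact hw1 (h.disj v ha hv1 J hJ w hw' (h.orth v ha hv1 J' hJ' J hJ hne hw))
  subst hJJ
  exact cover_le_of_gen h h16 hN hO hB ha hv1 hJ ((four_le_left h hna p).trans (card_le_of_le hb'))
    ((h.small v ha hv1 _ hJ (heq ▸ hU)).resolve_right hflat)

end Normalizer

/-- If all components are flat, the signalizer is generated by the cores at `V`. -/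
theorem w0_eq_of_flat (hV : V ≤ A) (hV4 : 4 ≤ Nat.card ↥V) (hflat : ∀ a ∈ A, a ≠ 1 → ∀ J ∈ cov a, Flat A a J) :
    w0 A = ⨆ e : {e : G // e ∈ V ∧ e ≠ 1}, oc (e : G) := by
  obtain ⟨v₁, hv₁, hv₁1, -⟩ := exists_two hV4 1
  refine le_antisymm (sup_le ((closure_le _).2 ?_) fun c hc => ?_) (iSup_le ?_)
  · rintro y ⟨K, hKA, h2, -, -, hyK⟩
    obtain ⟨e, he, he1⟩ : ∃ e ∈ K, e ∈ V ∧ e ≠ 1 := by
      by_cases h1 : v₁ ∈ K
      · exact ⟨v₁, h1, hv₁, hv₁1⟩
      obtain ⟨v₂, hv₂, hv₂1, hne⟩ := exists_two hV4 v₁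
      by_cases h2' : v₂ ∈ K
      · exact ⟨v₂, h2', hv₂, hv₂1⟩
      exact ⟨v₂ * v₁, mul_mem_of_index_two hKA h2 (hV hv₂) (hV hv₁) h2' h1, mul_mem hv₂ hv₁,
        fun e => hne (by rw [eq_inv_of_mul_eq_one_left e, h.A_inv (hV hv₁)])⟩
    exact (le_iSup (fun e : {e : G // e ∈ V ∧ e ≠ 1} => oc (e : G)) ⟨e, he1⟩) (hyK e he he1.2)
  · exact (le_iSup (fun e : {e : G // e ∈ V ∧ e ≠ 1} => oc (e : G)) ⟨v₁, hv₁, hv₁1⟩)
      (mem_iInf.1 hc.2 ⟨v₁, hV hv₁, hv₁1⟩)
  · rintro ⟨e, he, he1⟩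
    have heA := hV he
    have hc0 : ∀ c ∈ c0 A, ∀ a ∈ A, a ≠ 1 → c ∈ oc a := fun c hc a ha ha1 =>
      h.fix_all a ha ha1 c hc fun J hJ j hj => (hflat a ha ha1 J hJ).2 c hc j hj
    refine h.le_of_pieces (by omega) (odd_coreOf _) (h.A_normalizes_oc heA) ?_ ?_
    · intro c hc
      have := h.oc_inf_le_c0 heA hc
      exact mem_sup_right ⟨this, mem_iInf.2 fun a => hc0 c this a a.2.1 a.2.2⟩
    · intro D hDA hD y hy hyD w hwA hwD hyw
      by_cases hy1 : y = 1
      · exact hy1 ▸ one_mem _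
      have heD : e ∈ D := h.mem_of_inverted hDA hD hyD (odd_orderOf_of_mem (odd_coreOf _) hy) hwA hwD hyw heA
        (mem_centralizer_one.1 (oc_le _ hy)) hy1
      refine piece_mem_w0 ⟨hDA, hD, hyD, ⟨w, hwA, hyw⟩, fun k hk hk1 => ?_⟩
      by_contra hyk
      obtain ⟨J, hJ, -, -, hnf⟩ := h.bad D hDA hD e heD he1 k hk hk1 y hy hyD w hwA hyw hyk
      exact hnf (hflat k (hDA hk) hk1 J hJ)

/-- `Ω₁(S)` is not the product of two invariant subgroups, given the properties of the signalizer. -/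
theorem false_of_pair [IsSimpleGroup G] (hna : ¬ IsMulCommutative G) (p : Pair S A V U)
    (hodd : Odd (Nat.card ↥(w0 A)))
    (hN : normalizer ((S : Subgroup G) : Set G) ≤ normalizer (w0 A : Set G))
    (hO : ∀ a ∈ A, a ≠ 1 → oc a ≤ normalizer (w0 A : Set G))
    (hB : ∀ B ≤ A, 8 ≤ Nat.card ↥B → centralizer (B : Set G) ≤ normalizer (w0 A : Set G)) : False := by
  by_cases hw : w0 A = ⊥
  · exact false_of_w0_bot h h16 hna p hw
  set M := normalizer (w0 A : Set G)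
  have hM : M ≠ ⊤ := by
    intro e
    rcases IsSimpleGroup.eq_bot_or_eq_top_of_normal _ (normalizer_eq_top_iff.1 e) with e' | e'
    · exact hw e'
    · rw [e', Subgroup.card_top] at hodd
      obtain ⟨v, hv, hv1⟩ := (Subgroup.bot_or_exists_ne_one V).resolve_left p.ne_left
      have := orderOf_dvd_natCard v
      rw [h.A_orderOf (p.le_left hv) hv1] at this
      exact absurd (hodd.of_dvd_nat this) (by decide)
  by_cases hV8 : 8 ≤ Nat.card ↥V
  · exact false_of_big h h16 hN hO hB hna p hM hV8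
  by_cases hU8 : 8 ≤ Nat.card ↥U
  · exact false_of_big h h16 hN hO hB hna p.symm hM hU8
  have small4 : ∀ {V U : Subgroup G}, Pair S A V U → ¬ 8 ≤ Nat.card ↥V → Nat.card ↥V = 4 := by
    intro V U q h8
    obtain ⟨k, hk⟩ := card_eq_two_pow h q.le_left
    have h4 := four_le_left h hna q
    rw [hk] at h8 h4 ⊢
    have hk3 : k < 3 := by
      by_contra hge
      exact h8 (Nat.pow_le_pow_right (show 0 < 2 by norm_num) (Nat.le_of_not_lt hge))
    interval_cases k <;> simp_all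
  have hV4 := small4 p hV8
  have hU4 := small4 p.symm hU8
  by_cases hflat : ∀ a ∈ A, a ≠ 1 → ∀ J ∈ cov a, Flat A a J
  · have hCV : centralizer (V : Set G) ≤ M := fun c hc => by
      refine mem_normalizer_of_conj_le ?_
      rw [w0_eq_of_flat h h16 p.le_left hV4.ge hflat]
      intro x hx
      have hle : (⨆ e : {e : G // e ∈ V ∧ e ≠ 1}, oc (e : G)) ≤
          (⨆ e : {e : G // e ∈ V ∧ e ≠ 1}, oc (e : G)).comap (MulAut.conj c).toMonoidHom :=
        iSup_le fun e y hy => mem_iSup_of_mem e (oc_conj_mem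
          (mem_centralizer_one.2 (mem_centralizer_comm.1 hc e e.2.1)) hy)
      exact hle hx
    obtain ⟨v, hv, hv1⟩ := (Subgroup.bot_or_exists_ne_one V).resolve_left p.ne_left
    exact false_of_left h h16 hN hO hB hna p hM hv hv1 fun J hJ _ hb =>
      cover_le_of_cent h h16 hO (p.le_left hv) hv1 hJ ((centralizer_le hb).trans hCV)
  push Not at hflat
  obtain ⟨a, ha, ha1, J, hJ, hnf⟩ := hflat
  obtain ⟨v, hv, u, hu, rfl⟩ := exists_decomp h p ha
  have h4 := h.four _ ha ha1 J hJ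
  rcases atom_side h p ha ha1 hJ with ⟨hl, -⟩ | ⟨hl, -⟩
  · have hv1 : v = 1 := by
      by_contra hv1
      have heq : A ⊓ J = V := eq_of_le_of_card_ge hl (hV4.le.trans h4)
      exact hv1 (h.disj _ ha ha1 J hJ v (heq.symm ▸ hv) (mixed_mem_bd h p hv hv1 hu hJ).1)
    subst hv1
    rw [one_mul] at ha ha1 hJ hnf
    exact false_of_nonflat h h16 hN hO hB hna p.symm hM hV4 hu ha1 hJ hl hnf
  · have hu1 : u = 1 := by
      by_contra hu1
      have heq : A ⊓ J = U := eq_of_le_of_card_ge hl (hU4.le.trans h4)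
      have hm : u ∈ bd (v * u) J := by
        by_cases hv1 : v = 1
        · subst hv1
          simpa using h.self _ ha ha1 J hJ
        · exact (mixed_mem_bd h p hv hv1 hu hJ).2
      exact hu1 (h.disj _ ha ha1 J hJ u (heq.symm ▸ hu) hm)
    subst hu1
    rw [mul_one] at ha ha1 hJ hnf
    exact false_of_nonflat h h16 hN hO hB hna p hM hU4 hv ha1 hJ hl hnf

end Cfsg.Agent.Walter.Core.Reducible

namespace Cfsg.Agent.Walter.Core.CoreSys

universe u

variable {G : Type u} [Group G] [Finite G] {S : Sylow 2 G} {A : Subgroup G}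
  {cov : G → Set (Subgroup G)} {bd : G → Subgroup G → Subgroup G}

/-- No decomposition of `Ω₁(S)` into two invariant subgroups. -/
theorem no_split [IsSimpleGroup G] (hna : ¬ IsMulCommutative G) (h : CoreSys S A cov bd)
    (h16 : 16 ≤ Nat.card ↥A) (V U : Subgroup G) (hV : V ≤ A) (hU : U ≤ A)
    (hVn : ∀ n ∈ normalizer ((S : Subgroup G) : Set G), ∀ x ∈ V, n * x * n⁻¹ ∈ V)
    (hUn : ∀ n ∈ normalizer ((S : Subgroup G) : Set G), ∀ x ∈ U, n * x * n⁻¹ ∈ U)
    (hdisj : ∀ x ∈ V, x ∈ U → x = 1) (hspan : ∀ x ∈ A, ∃ v ∈ V, ∃ u ∈ U, v * u = x)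
    (hV0 : V ≠ ⊥) (hU0 : U ≠ ⊥) : False := by
  refine Reducible.false_of_pair h h16 hna ⟨hV, hU, hVn, hUn, hdisj, fun x hx => ?_, hV0, hU0⟩
    (h.odd_w0 h16) (h.normalizer_le_w0 h16) (fun a ha _ => h.oc_le_normalizer h16 hna ha)
    fun B hB h8 => h.cent_le h16 hna hB h8
  obtain ⟨v, hv, u, hu, rfl⟩ := hspan x hx
  exact mul_mem_sup hv hu

/-- `N(S)` acts irreducibly on `Ω₁(S)`. -/
theorem irreducible [IsSimpleGroup G] (hna : ¬ IsMulCommutative G) (h : CoreSys S A cov bd)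
    (h16 : 16 ≤ Nat.card ↥A) (C : Subgroup G) (hC : C ≤ A)
    (hCn : ∀ n ∈ normalizer ((S : Subgroup G) : Set G), ∀ x ∈ C, n * x * n⁻¹ ∈ C) : C = ⊥ ∨ C = A :=
  irreducible_of_no_split h.comm h.A_le h.normalizer_A (fun _ hx => h.A_sq hx)
    (no_split hna h h16) C hC hCn

end Cfsg.Agent.Walter.Core.CoreSys
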