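import Cfsg.Agent.Lib.Walter.Setting
import Cfsg.Agent.Lib.Walter.Core.BlockSys
import Cfsg.Agent.Lib.Walter.Core.Reducible

/-!
# A component system modulo cores has rank three

With a component, `|A| = 8`; without components the centralisers are solvable.
-/

set_option autoImplicit false
set_option linter.unusedSectionVars false
set_option linter.style.haveILetI false

open Subgroup
open scoped Pointwise

namespace Cfsg.Agent.Walter.Core.CoreSys

universe u

variable {G : Type u} [Group G] [Finite G] {S : Sylow 2 G} {A : Subgroup G} {cov : G → Set (Subgroup G)}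
  {bd : G → Subgroup G → Subgroup G}

theorem eight_le (h : CoreSys S A cov bd) {a : G} (ha : a ∈ A) (ha1 : a ≠ 1) {J : Subgroup G} (hJ : J ∈ cov a) :
    8 ≤ Nat.card ↥A := by
  haveI : Fact (Nat.Prime 2) := ⟨Nat.prime_two⟩
  have h4 := h.four a ha ha1 J hJ
  have hlt : A ⊓ J < A := lt_of_le_of_ne inf_le_left fun e =>
    ha1 (h.disj a ha ha1 J hJ a ⟨ha, (e.ge ha).2⟩ (h.self a ha ha1 J hJ))
  obtain ⟨i, hi⟩ := IsPGroup.iff_card.1 (S.2.to_le (fun x hx => ((h.omega x).1 hx.1).1 :
    A ⊓ J ≤ (S : Subgroup G)))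
  obtain ⟨k, hk⟩ := IsPGroup.iff_card.1 (S.2.to_le (fun x hx => ((h.omega x).1 hx).1 : A ≤ (S : Subgroup G)))
  have hlt' : Nat.card ↥(A ⊓ J : Subgroup G) < Nat.card ↥A := by
    refine lt_of_le_of_ne (card_le_of_le hlt.le) fun e => hlt.ne ?_
    exact eq_of_le_of_card_ge hlt.le e.ge
  rw [hi] at h4 hlt'
  rw [hk] at hlt' ⊢
  have hi2 : 2 ≤ i := by
    by_contra hi
    have := Nat.pow_le_pow_right (show 0 < 2 by norm_num) (show i ≤ 1 by omega)
    omega
  have := (Nat.pow_lt_pow_iff_right (by norm_num)).1 hlt'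
  exact (show (8 : ℕ) = 2 ^ 3 by norm_num) ▸ Nat.pow_le_pow_right (by norm_num) (by omega)

/-- The rank is three. -/
theorem card_eq_eight [IsSimpleGroup G] (h : CoreSys S A cov bd) (hnc : ¬ IsMulCommutative G) {a : G}
    (ha : a ∈ A) (ha1 : a ≠ 1) {J : Subgroup G} (hJ : J ∈ cov a) : Nat.card ↥A = 8 := by
  haveI : Fact (Nat.Prime 2) := ⟨Nat.prime_two⟩
  obtain ⟨k, hk⟩ := IsPGroup.iff_card.1 (S.2.to_le (fun x hx => ((h.omega x).1 hx).1 : A ≤ (S : Subgroup G)))
  have h8 := h.eight_le ha ha1 hJ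
  rcases Nat.lt_or_ge k 4 with hlt | hge
  · rw [hk] at h8 ⊢
    interval_cases k <;> omega
  exfalso
  have h16 : 16 ≤ Nat.card ↥A := hk ▸ (show 16 = 2 ^ 4 by norm_num) ▸ Nat.pow_le_pow_right (by norm_num) hge
  exact h.irreducible_false hnc h16 (fun C hC hCn => irreducible hnc h h16 C hC hCn) ha ha1 hJ

/-- Without components the centraliser is solvable. -/
theorem solvable_of_empty (h : CoreSys S A cov bd) {a : G} (ha : a ∈ A) (ha1 : a ≠ 1) (hno : cov a = ∅) :
    Group.IsSolvable ↥(centralizer ({a} : Set G)) := by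
  set C := centralizer ({a} : Set G)
  set N := normalizer ((S : Subgroup G) : Set G)
  haveI := isSolvable_normalizer S h.comm
  haveI := S0205.result (Agent.Cores.oddCore_odd (G := ↥C))
  let f : ↥(C ⊓ N) →* ↥C ⧸ Cfsg.oddCore ↥C := (QuotientGroup.mk' _).comp (inclusion inf_le_left)
  haveI : Group.IsSolvable ↥(C ⊓ N) :=
    Group.isSolvable_of_isSolvable_injective (f := inclusion (inf_le_right : C ⊓ N ≤ N)) (inclusion_injective _)
  have hsurj : Function.Surjective f := by
    intro z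
    obtain ⟨x, rfl⟩ := QuotientGroup.mk'_surjective _ z
    have hle : C ≤ oc a ⊔ (C ⊓ N) := by
      refine (h.frattini a ha ha1).trans ?_
      rw [hno]
      simp [C, N]
    have hx := hle x.2
    rw [← SetLike.mem_coe, coe_mul_of_right_le_normalizer_left _ _
      (inf_le_left.trans (le_normalizer_coreOf _) : C ⊓ N ≤ normalizer (oc a : Set G))] at hx
    obtain ⟨_, ⟨y, hy, rfl⟩, n, hn, e⟩ := hx
    refine ⟨⟨n, hn⟩, ?_⟩
    show QuotientGroup.mk' (Cfsg.oddCore ↥C) (inclusion inf_le_left ⟨n, hn⟩) = QuotientGroup.mk' _ x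
    rw [← show y * inclusion inf_le_left ⟨n, hn⟩ = x from Subtype.ext e, map_mul,
      show QuotientGroup.mk' (Cfsg.oddCore ↥C) y = 1 from (QuotientGroup.eq_one_iff y).2 hy, one_mul]
  haveI := Group.isSolvable_of_surjective hsurj
  exact Group.isSolvable_of_ker_le_range (Cfsg.oddCore ↥C).subtype (QuotientGroup.mk' (Cfsg.oddCore ↥C))
    (by rw [QuotientGroup.ker_mk', range_subtype])

/-- A non-solvable centraliser gives a component and rank three. -/
theorem exists_cov_card [IsSimpleGroup G] (h : CoreSys S A cov bd) (hnc : ¬ IsMulCommutative G)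
    (hns : ∃ t : G, orderOf t = 2 ∧ ¬ Group.IsSolvable ↥(centralizer ({t} : Set G))) :
    Nat.card ↥A = 8 ∧ ∃ a ∈ A, a ≠ 1 ∧ (cov a).Nonempty := by
  haveI : Fact (Nat.Prime 2) := ⟨Nat.prime_two⟩
  obtain ⟨t, ht, hns⟩ := hns
  obtain ⟨T, hT⟩ := (IsPGroup.of_card (n := 1) (G := zpowers t)
    (by rw [Nat.card_zpowers, ht, pow_one])).exists_le_sylow
  obtain ⟨g, hg⟩ := MulAction.exists_smul_eq G T S
  have hgS : g * t * g⁻¹ ∈ (S : Subgroup G) := by
    rw [← hg, Sylow.coe_subgroup_smul]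
    exact conj_mem_conj (hT (mem_zpowers t))
  set a := g * t * g⁻¹ with hadef
  have hao : orderOf a = 2 := by rw [← ht]; exact (MulAut.conj g).orderOf_eq t
  have haA : a ∈ A := (h.omega a).2 ⟨hgS, by rw [← pow_two, ← hao, pow_orderOf_eq_one]⟩
  have ha1 : a ≠ 1 := fun e => by rw [e, orderOf_one] at hao; omega
  rcases (cov a).eq_empty_or_nonempty with he | ⟨J, hJ⟩
  · haveI := h.solvable_of_empty haA ha1 he
    refine absurd ?_ hns
    let φ : ↥(centralizer ({t} : Set G)) →* ↥(centralizer ({a} : Set G)) :=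
      MonoidHom.codRestrict ((MulAut.conj g).toMonoidHom.comp (centralizer ({t} : Set G)).subtype) _
        fun x => mem_centralizer_singleton_iff.2 (by
          show g * (x : G) * g⁻¹ * a = a * (g * (x : G) * g⁻¹)
          rw [hadef, show g * (x : G) * g⁻¹ * (g * t * g⁻¹) = g * ((x : G) * t) * g⁻¹ by group,
            mem_centralizer_singleton_iff.1 x.2]
          group)
    exact Group.isSolvable_of_isSolvable_injective (f := φ) fun x y e =>
      Subtype.ext ((MulAut.conj g).injective (congrArg Subtype.val e))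
  · exact ⟨h.card_eq_eight hnc haA ha1 hJ, a, haA, ha1, J, hJ⟩

end Cfsg.Agent.Walter.Core.CoreSys
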