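import Cfsg.Agent.Lib.Walter.Core.Layer
import Cfsg.Agent.Lib.Coprime.Action
import Cfsg.Agent.Lib.Components.TwoBalance

/-!
# Atoms: the components modulo the odd core, seen in an abelian Sylow 2-subgroup

A component `K` of `Y/O(Y)` gives the trace `W` (the elements of `S` mapped into `K`) and the centralizing part
`B` (the elements of `S` centralizing `K`): `S = W × B`, and a perfect subgroup of the centralizer of `B`
moves the elements of `W` transitively.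
-/

set_option autoImplicit false
set_option linter.style.haveILetI false
set_option linter.unusedSectionVars false

namespace Cfsg.Agent.Walter.Core

open Subgroup
open Cfsg.Agent.SEAbelian
open scoped Pointwise

universe u

variable {Y : Type u} [Group Y] [Finite Y]

/-- The trace of a component modulo the core. -/
def traceW (S : Sylow 2 Y) (K : Subgroup (Y ⧸ Cfsg.oddCore Y)) : Subgroup Y :=
  (S : Subgroup Y) ⊓ K.comap (QuotientGroup.mk' (Cfsg.oddCore Y))

/-- The part of the Sylow subgroup centralizing a component modulo the core. -/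
def traceB (S : Sylow 2 Y) (K : Subgroup (Y ⧸ Cfsg.oddCore Y)) : Subgroup Y :=
  (S : Subgroup Y) ⊓ (centralizer (K : Set (Y ⧸ Cfsg.oddCore Y))).comap (QuotientGroup.mk' (Cfsg.oddCore Y))

/-- The image of the Sylow subgroup modulo the core. -/
noncomputable def bar (S : Sylow 2 Y) : Sylow 2 (Y ⧸ Cfsg.oddCore Y) :=
  haveI : Fact (Nat.Prime 2) := ⟨Nat.prime_two⟩
  S.mapSurjective (QuotientGroup.mk'_surjective _)

theorem mem_bar {S : Sylow 2 Y} {q : Y ⧸ Cfsg.oddCore Y} :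
    q ∈ (bar S : Subgroup (Y ⧸ Cfsg.oddCore Y)) ↔
      ∃ s ∈ (S : Subgroup Y), QuotientGroup.mk' (Cfsg.oddCore Y) s = q := by
  unfold bar
  rw [Sylow.coe_mapSurjective, mem_map]

theorem core_quot : Cfsg.oddCore (Y ⧸ Cfsg.oddCore Y) = ⊥ :=
  Agent.Cores.pPrimeCore_quotient_self 2

theorem abTwo_quot (h : AbTwo Y) : AbTwo (Y ⧸ Cfsg.oddCore Y) :=
  h.map (QuotientGroup.mk'_surjective _)

/-- The Sylow subgroup meets the core trivially. -/
theorem eq_one_of_mk {S : Sylow 2 Y} {x : Y} (hx : x ∈ (S : Subgroup Y))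
    (h1 : QuotientGroup.mk' (Cfsg.oddCore Y) x = 1) : x = 1 := by
  have hO : x ∈ Cfsg.oddCore Y := (QuotientGroup.eq_one_iff x).1 h1
  obtain ⟨k, hk⟩ := exists_two_pow hx
  refine orderOf_eq_one_iff.1 (Nat.eq_one_of_dvd_coprimes
    ((Agent.Cores.pPrimeCore_card_coprime (G := Y) 2).symm.pow_left k)
    (orderOf_dvd_of_pow_eq_one hk) (Subgroup.orderOf_dvd_natCard _ hO))

theorem eq_of_mk {S : Sylow 2 Y} {x y : Y} (hx : x ∈ (S : Subgroup Y)) (hy : y ∈ (S : Subgroup Y))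
    (e : QuotientGroup.mk' (Cfsg.oddCore Y) x = QuotientGroup.mk' (Cfsg.oddCore Y) y) : x = y :=
  mul_inv_eq_one.1 (eq_one_of_mk (S := S) (mul_mem hx (inv_mem hy)) (by rw [map_mul, map_inv, e, mul_inv_cancel]))

variable {S : Sylow 2 Y} {K : Subgroup (Y ⧸ Cfsg.oddCore Y)}

theorem mem_traceW {x : Y} : x ∈ traceW S K ↔
    x ∈ (S : Subgroup Y) ∧ QuotientGroup.mk' (Cfsg.oddCore Y) x ∈ K := Iff.rfl

theorem mem_traceB {x : Y} : x ∈ traceB S K ↔
    x ∈ (S : Subgroup Y) ∧ QuotientGroup.mk' (Cfsg.oddCore Y) x ∈ centralizer (K : Set _) := Iff.rfl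

theorem trace_split (h : AbTwo Y) (hK : Cfsg.IsComponent K) {s : Y} (hs : s ∈ (S : Subgroup Y)) :
    ∃ w ∈ traceW S K, ∃ c ∈ traceB S K, w * c = s := by
  obtain ⟨w, hw, c, hc, e⟩ := exists_split (abTwo_quot h) core_quot (bar S) hK
    (mem_bar.2 ⟨s, hs, rfl⟩)
  obtain ⟨w0, hw0, rfl⟩ := mem_bar.1 hw.1
  obtain ⟨c0, hc0, rfl⟩ := mem_bar.1 hc.1
  exact ⟨w0, ⟨hw0, hw.2⟩, c0, ⟨hc0, hc.2⟩, eq_of_mk (mul_mem hw0 hc0) hs (by rw [map_mul, e])⟩

theorem trace_disj (h : AbTwo Y) (hK : Cfsg.IsComponent K) {x : Y} (hw : x ∈ traceW S K)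
    (hb : x ∈ traceB S K) : x = 1 := by
  obtain ⟨hs, hn⟩ := component_simple (abTwo_quot h) core_quot hK
  exact eq_one_of_mk hw.1 (eq_one_of_central hs hn hw.2 fun y hy => (mem_centralizer_iff.1 hb.2 y hy).symm)

theorem four_le_traceW (h : AbTwo Y) (hK : Cfsg.IsComponent K) : 4 ≤ Nat.card ↥(traceW S K) := by
  obtain ⟨P, hP⟩ := exists_sylow_component (abTwo_quot h) core_quot (bar S) hK
  obtain ⟨hs, hn⟩ := component_simple (abTwo_quot h) core_quot hK
  haveI := hs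
  refine (four_le_sylow hn ((abTwo_quot h).subgroup K) P).trans ?_
  rw [← hP, Nat.card_congr (subgroupOfEquivOfLe inf_le_right).toEquiv]
  refine (Subgroup.card_le_of_le (show (bar S : Subgroup _) ⊓ K ≤
    (traceW S K).map (QuotientGroup.mk' (Cfsg.oddCore Y)) from ?_)).trans
    (Nat.le_of_dvd Nat.card_pos (Subgroup.card_map_dvd _ _))
  rintro q ⟨hq, hqK⟩
  obtain ⟨s, hs', rfl⟩ := mem_bar.1 hq
  exact ⟨s, ⟨hs', hqK⟩, rfl⟩

theorem traceW_le_traceB {L : Subgroup (Y ⧸ Cfsg.oddCore Y)} (hK : Cfsg.IsComponent K)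
    (hL : Cfsg.IsComponent L) (hne : L ≠ K) : traceW S L ≤ traceB S K := fun _ hx =>
  ⟨hx.1, commutator_eq_bot_iff_le_centralizer.1
    (Components.Basic.component_commutator_eq_bot_of_ne hL hK hne) hx.2⟩

/-- A perfect subgroup of the centralizer of `B` moves `W` transitively inside `N(S)`. -/
theorem trace_trans (h : AbTwo Y) (hK : Cfsg.IsComponent K) (hone : OneTwoClass ↥K) {u v : Y}
    (hu : u ∈ traceW S K) (hu1 : u ≠ 1) (hv : v ∈ traceW S K) (hv1 : v ≠ 1) :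
    ∃ D : Subgroup Y, ⁅D, D⁆ = D ∧ D ≤ centralizer (traceB S K : Set Y) ∧
      D ≤ K.comap (QuotientGroup.mk' (Cfsg.oddCore Y)) ∧
      ∃ n ∈ D, n ∈ normalizer ((S : Subgroup Y) : Set Y) ∧ n * u * n⁻¹ = v := by
  classical
  haveI : Fact (Nat.Prime 2) := ⟨Nat.prime_two⟩
  set π := QuotientGroup.mk' (Cfsg.oddCore Y) with hπ
  set B := traceB S K with hB
  set H := K.comap π ⊓ centralizer (B : Set Y) with hH
  -- the image of the centralizer of `B` is the whole component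
  have hHK : H.map π = K := by
    refine le_antisymm ((Subgroup.map_mono inf_le_left).trans (map_comap_le _ _)) fun k hk => ?_
    obtain ⟨l, rfl⟩ := QuotientGroup.mk'_surjective _ k
    obtain ⟨m, hm, hlm⟩ := Coprime.exists_fixed_in_coset (A := B) (N := Cfsg.oddCore Y) (k := l)
      le_normalizer_of_normal (by
        have hBS : B ≤ (S : Subgroup Y) := inf_le_left
        obtain ⟨i, hi⟩ := IsPGroup.iff_card.1 (S.2.to_le hBS)
        rw [hi]
        exact (Agent.Cores.pPrimeCore_card_coprime (G := Y) 2).symm.pow_left i)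
      (Or.inl (Group.isSolvable_of_comm fun a b => Subtype.ext (h _ S.2 a a.2.1 b b.2.1).eq))
      (fun b hb => (QuotientGroup.eq_one_iff _).1 (show π (l⁻¹ * (b * l * b⁻¹)) = 1 by
        rw [map_mul, map_mul, map_mul, map_inv, map_inv, ← mem_centralizer_iff.1 hb.2 _ hk]
        simp only [hπ]
        group))
    have hm1 : π m = 1 := (QuotientGroup.eq_one_iff m).2 hm
    refine ⟨l * m, ⟨?_, hlm⟩, by rw [map_mul, hm1, mul_one]⟩
    show π (l * m) ∈ K
    rw [map_mul, hm1, mul_one]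
    exact hk
  have hSH : (S : Subgroup Y) ≤ normalizer (H : Set Y) := by
    have h1 : ∀ s ∈ (S : Subgroup Y), π s ∈ normalizer (K : Set _) := fun s hs =>
      sylow_le_normalizer_component (abTwo_quot h) core_quot (bar S) hK (mem_bar.2 ⟨s, hs, rfl⟩)
    have key : ∀ s ∈ (S : Subgroup Y), ∀ x ∈ H, s * x * s⁻¹ ∈ H := by
      intro s hs x hx
      refine ⟨?_, mem_centralizer_iff.2 fun b hb => ?_⟩
      · show π (s * x * s⁻¹) ∈ K
        rw [map_mul, map_mul, map_inv]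
        exact (mem_normalizer_iff.1 (h1 s hs) _).1 hx.1
      · have hbs : Commute b s := h _ S.2 b (mem_traceB.1 hb).1 s hs
        exact ((hbs.mul_right (mem_centralizer_iff.1 hx.2 b hb)).mul_right hbs.inv_right).eq
    intro s hs
    refine mem_normalizer_iff.2 fun x => ⟨key s hs x, fun hx => ?_⟩
    have := key s⁻¹ (inv_mem hs) _ hx
    simpa [mul_assoc] using this
  obtain ⟨D, hDH, ⟨hSD, hDK⟩, hmin⟩ := Components.Basic.exists_minimal_le
    (fun D : Subgroup Y => (S : Subgroup Y) ≤ normalizer (D : Set Y) ∧ D.map π = K) (H := H) ⟨hSH, hHK⟩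
  have hperf : ⁅D, D⁆ = D := by
    refine hmin _ (commutator_le.2 fun a ha b hb => mul_mem (mul_mem (mul_mem ha hb) (inv_mem ha)) (inv_mem hb)) ⟨fun s hs => mem_normalizer_iff_map_conj_eq.2 ?_, ?_⟩
    · rw [map_commutator]
      have := mem_normalizer_iff_map_conj_eq.1 (hSD hs)
      exact congrArg₂ (fun A B => ⁅A, B⁆) this this
    · rw [map_commutator, hDK]
      exact Components.Basic.component_commutator_self hK
  obtain ⟨k, hkK, hkS, hkv⟩ := component_trans (abTwo_quot h) core_quot (bar S) hK hone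
    (u := π u) (v := π v) ⟨mem_bar.2 ⟨u, hu.1, rfl⟩, hu.2⟩ (fun e => hu1 (eq_one_of_mk hu.1 e))
    ⟨mem_bar.2 ⟨v, hv.1, rfl⟩, hv.2⟩ (fun e => hv1 (eq_one_of_mk hv.1 e))
  obtain ⟨d, hd, hdk⟩ : k ∈ D.map π := hDK ▸ hkK
  -- the conjugate of the Sylow subgroup
  set T := (D ⊔ (S : Subgroup Y)) ⊓ (bar S : Subgroup (Y ⧸ Cfsg.oddCore Y)).comap π with hT
  have hST : (S : Subgroup Y) ≤ T := le_inf le_sup_right fun s hs => mem_bar.2 ⟨s, hs, rfl⟩
  have hdT : ((d • S : Sylow 2 Y) : Subgroup Y) ≤ T := by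
    rw [Sylow.coe_subgroup_smul]
    intro x hx
    have hx' : d⁻¹ * x * d ∈ (S : Subgroup Y) := Cfsg.Agent.Walter.mem_conj.1 hx
    refine ⟨?_, ?_⟩
    · have := mul_mem (mul_mem (mem_sup_left (T := (S : Subgroup Y)) hd) (mem_sup_right (S := D) hx'))
        (inv_mem (mem_sup_left (T := (S : Subgroup Y)) hd))
      rwa [show d * (d⁻¹ * x * d) * d⁻¹ = x by group] at this
    · show π x ∈ (bar S : Subgroup (Y ⧸ Cfsg.oddCore Y))
      have h1 := (mem_normalizer_iff.1 hkS (π (d⁻¹ * x * d))).1 (mem_bar.2 ⟨_, hx', rfl⟩)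
      rw [← hdk, ← map_inv, ← map_mul, ← map_mul, show d * (d⁻¹ * x * d) * d⁻¹ = x by group] at h1
      exact h1
  obtain ⟨t, ht⟩ := MulAction.exists_smul_eq ↥T (S.subtype hST) ((d • S : Sylow 2 Y).subtype hdT)
  have hn0 : (t : Y)⁻¹ * d ∈ normalizer ((S : Subgroup Y) : Set Y) := by
    have h2 : ∀ x ∈ (S : Subgroup Y), d⁻¹ * ((t : Y) * x * (t : Y)⁻¹) * d ∈ (S : Subgroup Y) := by
      intro x hx
      have h1 : t * ⟨x, hST hx⟩ * t⁻¹ ∈ ((d • S : Sylow 2 Y).subtype hdT : Subgroup ↥T) := by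
        rw [← ht, Sylow.coe_subgroup_smul]
        exact conj_mem_conj (by rw [Sylow.coe_subtype, mem_subgroupOf]; exact hx)
      rw [Sylow.coe_subtype, mem_subgroupOf, Sylow.coe_subgroup_smul] at h1
      exact Cfsg.Agent.Walter.mem_conj.1 h1
    have h3 : (d⁻¹ * (t : Y)) ∈ normalizer ((S : Subgroup Y) : Set Y) := by
      refine mem_normalizer_iff_map_conj_eq.2 (eq_of_le_of_card_ge ?_ ?_)
      · rintro _ ⟨x, hx, rfl⟩
        show d⁻¹ * (t : Y) * x * (d⁻¹ * (t : Y))⁻¹ ∈ (S : Subgroup Y)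
        rw [show d⁻¹ * (t : Y) * x * (d⁻¹ * (t : Y))⁻¹ = d⁻¹ * ((t : Y) * x * (t : Y)⁻¹) * d by group]
        exact h2 x hx
      · rw [Subgroup.card_map_of_injective (MulAut.conj (d⁻¹ * (t : Y))).injective]
    have := inv_mem h3
    rwa [mul_inv_rev, inv_inv] at this
  have htbar : π t ∈ (bar S : Subgroup (Y ⧸ Cfsg.oddCore Y)) := t.2.2
  have hn0M : (t : Y)⁻¹ * d ∈ D ⊔ (S : Subgroup Y) := mul_mem (inv_mem t.2.1) (mem_sup_left hd)
  rw [← SetLike.mem_coe, coe_mul_of_right_le_normalizer_left _ _ hSD] at hn0M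
  obtain ⟨n, hnD, s, hsS, e⟩ := hn0M
  have e' : n = (t : Y)⁻¹ * d * s⁻¹ := eq_mul_inv_of_mul_eq e
  have hn : n ∈ normalizer ((S : Subgroup Y) : Set Y) := by
    rw [e']
    exact mul_mem hn0 (inv_mem (le_normalizer hsS))
  refine ⟨D, hperf, hDH.trans inf_le_right, hDH.trans inf_le_left, n, hnD, hn,
    eq_of_mk ((mem_normalizer_iff.1 hn u).1 hu.1) hv.1 ?_⟩
  have hab := abTwo_quot h
  have c1 : Commute (π s)⁻¹ (π u) := hab _ (bar S).2 _ (inv_mem (mem_bar.2 ⟨_, hsS, rfl⟩)) _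
    (mem_bar.2 ⟨u, hu.1, rfl⟩)
  have c2 : Commute (π (t : Y))⁻¹ (π v) := hab _ (bar S).2 _ (inv_mem htbar) _ (mem_bar.2 ⟨v, hv.1, rfl⟩)
  rw [e']
  simp only [map_mul, map_inv]
  calc (π (t : Y))⁻¹ * π d * (π s)⁻¹ * π u * ((π (t : Y))⁻¹ * π d * (π s)⁻¹)⁻¹
      = (π (t : Y))⁻¹ * (π d * ((π s)⁻¹ * π u * ((π s)⁻¹)⁻¹) * (π d)⁻¹) * π (t : Y) := by group
    _ = (π (t : Y))⁻¹ * π v * π (t : Y) := by rw [c1.eq, mul_inv_cancel_right, hdk, hkv]
    _ = π v := by rw [c2.eq, inv_mul_cancel_right]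

/-- A perfect subgroup meets `N(S)` in elements normalizing every trace and moving `S` only inside them. -/
theorem trace_perfect (h : AbTwo Y) {D : Subgroup Y} (hD : ⁅D, D⁆ = D) {n : Y} (hn : n ∈ D)
    (hnS : n ∈ normalizer ((S : Subgroup Y) : Set Y)) :
    (∀ K : Subgroup (Y ⧸ Cfsg.oddCore Y), Cfsg.IsComponent K →
      (∀ x ∈ traceW S K, n * x * n⁻¹ ∈ traceW S K) ∧ ∀ x ∈ traceB S K, n * x * n⁻¹ ∈ traceB S K) ∧
    ∀ s ∈ (S : Subgroup Y), n * s * n⁻¹ * s⁻¹ ∈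
      ⨆ K : {K : Subgroup (Y ⧸ Cfsg.oddCore Y) // Cfsg.IsComponent K}, traceW S (K : Subgroup _) := by
  haveI : Fact (Nat.Prime 2) := ⟨Nat.prime_two⟩
  set π := QuotientGroup.mk' (Cfsg.oddCore Y) with hπ
  have hL : π n ∈ Cfsg.layer (Y ⧸ Cfsg.oddCore Y) :=
    perfect_le_layer (abTwo_quot h) core_quot (bar S) (D := D.map π) (by rw [← map_commutator, hD])
      (mem_map_of_mem π hn)
  refine ⟨fun K hK => ?_, fun s hs => ?_⟩
  · have hN := Components.Basic.layer_le_normalizer hK hL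
    refine ⟨fun x hx => ⟨(mem_normalizer_iff.1 hnS x).1 hx.1, ?_⟩,
      fun x hx => ⟨(mem_normalizer_iff.1 hnS x).1 hx.1, ?_⟩⟩
    · show π (n * x * n⁻¹) ∈ K
      rw [map_mul, map_mul, map_inv]
      exact (mem_normalizer_iff.1 hN _).1 hx.2
    · show π (n * x * n⁻¹) ∈ centralizer (K : Set _)
      rw [map_mul, map_mul, map_inv]
      exact (mem_normalizer_iff.1
        (Components.TwoBalance.normalizer_le_normalizer_centralizer' K hN) _).1 hx.2
  · have hnb : π n ∈ normalizer ((bar S : Subgroup (Y ⧸ Cfsg.oddCore Y)) : Set _) := by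
      refine mem_normalizer_iff_map_conj_eq.2 (eq_of_le_of_card_ge ?_ ?_)
      · rintro _ ⟨q, hq, rfl⟩
        obtain ⟨x, hx, rfl⟩ := mem_bar.1 hq
        exact mem_bar.2 ⟨n * x * n⁻¹, (mem_normalizer_iff.1 hnS x).1 hx, by
          rw [map_mul, map_mul, map_inv]; rfl⟩
      · rw [Subgroup.card_map_of_injective (MulAut.conj (π n)).injective]
    have h1 := layer_fix (abTwo_quot h) core_quot (bar S) hL hnb (mem_bar.2 ⟨s, hs, rfl⟩)
    have hle : (⨆ K : {K : Subgroup (Y ⧸ Cfsg.oddCore Y) // Cfsg.IsComponent K},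
        (bar S : Subgroup _) ⊓ (K : Subgroup _)) ≤
        (⨆ K : {K : Subgroup (Y ⧸ Cfsg.oddCore Y) // Cfsg.IsComponent K}, traceW S (K : Subgroup _)).map π := by
      refine iSup_le fun K q hq => ?_
      obtain ⟨x, hx, rfl⟩ := mem_bar.1 hq.1
      exact mem_map_of_mem π (mem_iSup_of_mem K ⟨hx, hq.2⟩)
    obtain ⟨y, hy, e⟩ := hle h1
    have hyS : y ∈ (S : Subgroup Y) :=
      (iSup_le fun K x hx => hx.1 : (⨆ K : {K : Subgroup (Y ⧸ Cfsg.oddCore Y) // Cfsg.IsComponent K},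
        traceW S (K : Subgroup _)) ≤ (S : Subgroup Y)) hy
    have : y = n * s * n⁻¹ * s⁻¹ := eq_of_mk hyS (mul_mem ((mem_normalizer_iff.1 hnS s).1 hs) (inv_mem hs))
      (by rw [e, map_mul, map_mul, map_mul, map_inv, map_inv])
    exact this ▸ hy

end Cfsg.Agent.Walter.Core
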