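import Cfsg.Agent.Lib.Walter.Core.Atom
import Cfsg.Agent.Lib.Walter.ComponentsKnown

/-!
# The atom system of a group with abelian Sylow 2-subgroups

`AtomSys` collects what is known about the components of `C(a)/O(C(a))` in terms of the Sylow subgroup `S`,
without any assumption on the cores.
-/

set_option autoImplicit false
set_option linter.style.haveILetI false
set_option linter.unusedSectionVars false

namespace Cfsg.Agent.Walter.Core

open Subgroup
open Cfsg.Agent.SEAbelian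
open scoped Pointwise

universe u

/-- The components of the involution centralisers modulo their cores, seen in `S`. An atom is the pair of the
trace `W` and the centralising part `B`. -/
structure AtomSys {G : Type u} [Group G] (S : Sylow 2 G) (atoms : G → Set (Subgroup G × Subgroup G)) : Prop where
  comm : ∀ x ∈ (S : Subgroup G), ∀ y ∈ (S : Subgroup G), x * y = y * x
  left_le : ∀ a ∈ (S : Subgroup G), orderOf a = 2 → ∀ A ∈ atoms a, A.1 ≤ (S : Subgroup G)
  right_le : ∀ a ∈ (S : Subgroup G), orderOf a = 2 → ∀ A ∈ atoms a, A.2 ≤ (S : Subgroup G)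
  self : ∀ a ∈ (S : Subgroup G), orderOf a = 2 → ∀ A ∈ atoms a, a ∈ A.2
  split : ∀ a ∈ (S : Subgroup G), orderOf a = 2 → ∀ A ∈ atoms a, ∀ s ∈ (S : Subgroup G),
    ∃ w ∈ A.1, ∃ c ∈ A.2, w * c = s
  disj : ∀ a ∈ (S : Subgroup G), orderOf a = 2 → ∀ A ∈ atoms a, ∀ x ∈ A.1, x ∈ A.2 → x = 1
  four : ∀ a ∈ (S : Subgroup G), orderOf a = 2 → ∀ A ∈ atoms a, 4 ≤ Nat.card ↥A.1
  other : ∀ a ∈ (S : Subgroup G), orderOf a = 2 → ∀ A ∈ atoms a, ∀ A' ∈ atoms a, A' ≠ A → A'.1 ≤ A.2
  trans : ∀ a ∈ (S : Subgroup G), orderOf a = 2 → ∀ A ∈ atoms a, ∀ u ∈ A.1, u ≠ 1 → ∀ v ∈ A.1, v ≠ 1 →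
    ∃ D : Subgroup G, ⁅D, D⁆ = D ∧ D ≤ centralizer ({a} : Set G) ∧ D ≤ centralizer (A.2 : Set G) ∧
      ∃ n ∈ D, n ∈ normalizer ((S : Subgroup G) : Set G) ∧ n * u * n⁻¹ = v
  perfect : ∀ b ∈ (S : Subgroup G), orderOf b = 2 → ∀ D : Subgroup G, ⁅D, D⁆ = D →
    D ≤ centralizer ({b} : Set G) → ∀ n ∈ D, n ∈ normalizer ((S : Subgroup G) : Set G) →
      (∀ A ∈ atoms b, (∀ x ∈ A.1, n * x * n⁻¹ ∈ A.1) ∧ ∀ x ∈ A.2, n * x * n⁻¹ ∈ A.2) ∧
      ∀ s ∈ (S : Subgroup G), n * s * n⁻¹ * s⁻¹ ∈ ⨆ A ∈ atoms b, A.1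
  conj : ∀ a ∈ (S : Subgroup G), orderOf a = 2 → ∀ n ∈ normalizer ((S : Subgroup G) : Set G), ∀ A ∈ atoms a,
    (MulAut.conj n • A.1, MulAut.conj n • A.2) ∈ atoms (n * a * n⁻¹)

variable {Y : Type u} [Group Y] [Finite Y]

/-- Atoms are preserved by isomorphisms. -/
theorem trace_equiv {Y' : Type u} [Group Y'] [Finite Y'] (e : Y ≃* Y') (S : Sylow 2 Y) (S' : Sylow 2 Y')
    (hS : (S : Subgroup Y).map e.toMonoidHom = (S' : Subgroup Y')) {K : Subgroup (Y ⧸ Cfsg.oddCore Y)}
    (hK : Cfsg.IsComponent K) :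
    ∃ K' : Subgroup (Y' ⧸ Cfsg.oddCore Y'), Cfsg.IsComponent K' ∧
      traceW S' K' = (traceW S K).map e.toMonoidHom ∧ traceB S' K' = (traceB S K).map e.toMonoidHom := by
  have hO : (Cfsg.oddCore Y).map e.toMonoidHom = Cfsg.oddCore Y' := Agent.Cores.map_pPrimeCore_eq e 2
  set f := QuotientGroup.congr (Cfsg.oddCore Y) (Cfsg.oddCore Y') e hO with hf
  have hfe : ∀ y : Y, f (QuotientGroup.mk' (Cfsg.oddCore Y) y) = QuotientGroup.mk' (Cfsg.oddCore Y') (e y) :=
    fun y => rfl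
  have hSm : ∀ x : Y', x ∈ (S' : Subgroup Y') ↔ e.symm x ∈ (S : Subgroup Y) := fun x => by
    rw [← hS, mem_map_equiv]
  have hmk : ∀ x : Y', QuotientGroup.mk' (Cfsg.oddCore Y') x =
      f (QuotientGroup.mk' (Cfsg.oddCore Y) (e.symm x)) := fun x => by
    rw [hfe, e.apply_symm_apply]
  refine ⟨K.map f.toMonoidHom, (Components.Basic.isComponent_map_equiv f K).2 hK, ?_, ?_⟩
  · ext x
    rw [mem_traceW, mem_map_equiv, mem_map_equiv, mem_traceW, hSm, hmk, f.symm_apply_apply]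
  · ext x
    rw [mem_traceB, mem_map_equiv, mem_traceB, hSm, hmk]
    refine and_congr_right fun _ => ⟨fun hx => mem_centralizer_iff.2 fun q hq => f.injective ?_,
      fun hx => mem_centralizer_iff.2 ?_⟩
    · rw [map_mul, map_mul]
      exact mem_centralizer_iff.1 hx _ (mem_map_of_mem _ hq)
    · rintro _ ⟨q, hq, rfl⟩
      show f q * _ = _ * f q
      rw [← map_mul, ← map_mul, mem_centralizer_iff.1 hx q hq]

variable {G : Type u} [Group G] [Finite G]

/-- The atoms at `a`. -/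
def atomsOf (S : Sylow 2 G) (a : G) : Set (Subgroup G × Subgroup G) :=
  {A | ∃ (hle : (S : Subgroup G) ≤ centralizer ({a} : Set G))
    (K : Subgroup (↥(centralizer ({a} : Set G)) ⧸ Cfsg.oddCore ↥(centralizer ({a} : Set G)))),
    Cfsg.IsComponent K ∧
    (traceW (S.subtype hle) K).map (centralizer ({a} : Set G)).subtype = A.1 ∧
    (traceB (S.subtype hle) K).map (centralizer ({a} : Set G)).subtype = A.2}

theorem card_quot_lt [IsSimpleGroup G] (hnc : ¬ IsMulCommutative G) {a : G} (ha : orderOf a = 2)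
    (K : Subgroup (↥(centralizer ({a} : Set G)) ⧸ Cfsg.oddCore ↥(centralizer ({a} : Set G)))) :
    Nat.card ↥K < Nat.card G := by
  refine lt_of_le_of_lt ((Subgroup.card_le_card_group K).trans
    (Nat.card_le_card_of_surjective _ (QuotientGroup.mk'_surjective _))) ?_
  refine lt_of_le_of_ne (Subgroup.card_le_card_group _) fun e => ne_one_of_orderOf_two ha ?_
  have htop := Subgroup.eq_top_of_card_eq _ e
  rw [Subgroup.centralizer_eq_top_iff_subset, Set.singleton_subset_iff, center_eq_bot_of_simple hnc,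
    SetLike.mem_coe, mem_bot] at htop
  exact htop

/-- A perfect subgroup moves `S` only inside the atoms. -/
theorem atomsOf_perfect (h : AbTwo G) (S : Sylow 2 G) {b : G} (hbS : b ∈ (S : Subgroup G))
    {D : Subgroup G} (hD : ⁅D, D⁆ = D) (hDC : D ≤ centralizer ({b} : Set G)) {n : G} (hn : n ∈ D)
    (hnS : n ∈ normalizer ((S : Subgroup G) : Set G)) :
    (∀ A ∈ atomsOf S b, (∀ x ∈ A.1, n * x * n⁻¹ ∈ A.1) ∧ ∀ x ∈ A.2, n * x * n⁻¹ ∈ A.2) ∧
      ∀ s ∈ (S : Subgroup G), n * s * n⁻¹ * s⁻¹ ∈ ⨆ A ∈ atomsOf S b, A.1 := by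
  haveI : Fact (Nat.Prime 2) := ⟨Nat.prime_two⟩
  have hle : (S : Subgroup G) ≤ centralizer ({b} : Set G) :=
    fun s hs => mem_centralizer_singleton_iff.2 (h _ S.2 s hs b hbS).eq
  have hleS : ∀ x : ↥(centralizer ({b} : Set G)), x ∈ (S.subtype hle : Subgroup ↥(centralizer ({b} : Set G))) ↔
      (x : G) ∈ (S : Subgroup G) := fun x => by
    rw [Sylow.coe_subtype, mem_subgroupOf]
  have hn' : (⟨n, hDC hn⟩ : ↥(centralizer ({b} : Set G))) ∈ normalizer
      ((S.subtype hle : Subgroup ↥(centralizer ({b} : Set G))) : Set ↥(centralizer ({b} : Set G))) :=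
    mem_normalizer_iff.2 fun x => Iff.trans (hleS x)
      ((mem_normalizer_iff.1 hnS (x : G)).trans (hleS (⟨n, hDC hn⟩ * x * ⟨n, hDC hn⟩⁻¹)).symm)
  obtain ⟨h1, h2⟩ := trace_perfect (h.subgroup _) (S := S.subtype hle)
    (D := D.subgroupOf (centralizer ({b} : Set G)))
    (Subgroup.map_injective (Subgroup.subtype_injective _)
      (by rw [map_commutator, map_subgroupOf_eq_of_le hDC, hD]))
    (n := ⟨n, hDC hn⟩) hn hn'
  refine ⟨?_, fun s hs => ?_⟩
  · rintro A ⟨hle', K, hK, e1, e2⟩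
    refine ⟨fun x hx => ?_, fun x hx => ?_⟩
    · rw [← e1] at hx ⊢
      obtain ⟨y, hy, rfl⟩ := hx
      exact ⟨_, (h1 K hK).1 y hy, rfl⟩
    · rw [← e2] at hx ⊢
      obtain ⟨y, hy, rfl⟩ := hx
      exact ⟨_, (h1 K hK).2 y hy, rfl⟩
  · set R : Subgroup G := ⨆ A ∈ atomsOf S b, A.1 with hR
    have hsup : ∀ (K : Subgroup (↥(centralizer ({b} : Set G)) ⧸ Cfsg.oddCore ↥(centralizer ({b} : Set G)))),
        Cfsg.IsComponent K → traceW (S.subtype hle) K ≤ R.comap (centralizer ({b} : Set G)).subtype := by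
      intro K hK x hx
      rw [mem_comap]
      exact mem_iSup_of_mem ((traceW (S.subtype hle) K).map (centralizer ({b} : Set G)).subtype,
        (traceB (S.subtype hle) K).map (centralizer ({b} : Set G)).subtype)
        (mem_iSup_of_mem ⟨hle, K, hK, rfl, rfl⟩ (mem_map_of_mem _ hx))
    have hall : (⨆ K : {K : Subgroup (↥(centralizer ({b} : Set G)) ⧸ Cfsg.oddCore ↥(centralizer ({b} : Set G))) //
        Cfsg.IsComponent K}, traceW (S.subtype hle) (K : Subgroup _)) ≤
          R.comap (centralizer ({b} : Set G)).subtype := iSup_le fun K => hsup K.1 K.2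
    have h4 := hall (h2 ⟨s, hle hs⟩ ((hleS _).2 hs))
    simpa only [mem_comap, coe_subtype, coe_mul, coe_inv] using h4

/-- The atom system, given one class of 2-elements for the components modulo the cores. -/
theorem atomSys (h : AbTwo G) (S : Sylow 2 G)
    (hone : ∀ a : G, orderOf a = 2 →
      ∀ K : Subgroup (↥(centralizer ({a} : Set G)) ⧸ Cfsg.oddCore ↥(centralizer ({a} : Set G))),
        Cfsg.IsComponent K → OneTwoClass ↥K) : AtomSys S (atomsOf S) := by
  haveI : Fact (Nat.Prime 2) := ⟨Nat.prime_two⟩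
  have hleS : ∀ a : G, ∀ hle : (S : Subgroup G) ≤ centralizer ({a} : Set G),
      ∀ x : ↥(centralizer ({a} : Set G)), x ∈ (S.subtype hle : Subgroup ↥(centralizer ({a} : Set G))) ↔
        (x : G) ∈ (S : Subgroup G) := fun a hle x => by
    rw [Sylow.coe_subtype, mem_subgroupOf]
  refine ⟨fun x hx y hy => (h _ S.2 x hx y hy).eq, ?_, ?_, ?_, ?_, ?_, ?_, ?_, ?_, ?_, ?_⟩
  · rintro a - - A ⟨hle, K, hK, e1, e2⟩ x hx
    rw [← e1] at hx
    obtain ⟨y, hy, rfl⟩ := hx
    exact (hleS a hle y).1 hy.1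
  · rintro a - - A ⟨hle, K, hK, e1, e2⟩ x hx
    rw [← e2] at hx
    obtain ⟨y, hy, rfl⟩ := hx
    exact (hleS a hle y).1 hy.1
  · rintro a haS ha A ⟨hle, K, hK, e1, e2⟩
    rw [← e2]
    refine ⟨⟨a, hle haS⟩, ⟨(hleS a hle _).2 haS, mem_centralizer_iff.2 fun q _ => ?_⟩, rfl⟩
    obtain ⟨y, rfl⟩ := QuotientGroup.mk'_surjective _ q
    rw [← map_mul, ← map_mul]
    exact congrArg _ (Subtype.ext (mem_centralizer_singleton_iff.1 y.2))
  · rintro a haS ha A ⟨hle, K, hK, e1, e2⟩ s hs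
    obtain ⟨w, hw, c, hc, e⟩ := trace_split (h.subgroup _) hK (s := ⟨s, hle hs⟩) ((hleS a hle _).2 hs)
    exact ⟨w, e1 ▸ mem_map_of_mem _ hw, c, e2 ▸ mem_map_of_mem _ hc, congrArg Subtype.val e⟩
  · rintro a haS ha A ⟨hle, K, hK, e1, e2⟩ x hx1 hx2
    rw [← e1] at hx1
    rw [← e2] at hx2
    obtain ⟨y, hy, rfl⟩ := hx1
    obtain ⟨z, hz, ez⟩ := hx2
    obtain rfl : z = y := Subtype.ext ez
    rw [trace_disj (h.subgroup _) hK hy hz, map_one]
  · rintro a haS ha A ⟨hle, K, hK, e1, e2⟩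
    rw [← e1, Subgroup.card_map_of_injective (Subgroup.subtype_injective _)]
    exact four_le_traceW (h.subgroup _) hK
  · rintro a haS ha A ⟨hle, K, hK, e1, e2⟩ A' ⟨hle', K', hK', e1', e2'⟩ hne
    rw [← e1', ← e2]
    refine Subgroup.map_mono (traceW_le_traceB hK hK' fun e => hne ?_)
    subst e
    exact Prod.ext (e1'.symm.trans e1) (e2'.symm.trans e2)
  · rintro a haS ha A ⟨hle, K, hK, e1, e2⟩ u hu hu1 v hv hv1
    rw [← e1] at hu hv
    obtain ⟨u0, hu0, rfl⟩ := hu
    obtain ⟨v0, hv0, rfl⟩ := hv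
    obtain ⟨D, hD, hDB, -, n, hn, hnS, e⟩ := trace_trans (h.subgroup _) hK (hone a ha K hK) hu0
      (fun e => hu1 (by rw [e, map_one])) hv0 (fun e => hv1 (by rw [e, map_one]))
    refine ⟨D.map (centralizer ({a} : Set G)).subtype, by rw [← map_commutator, hD],
      map_subtype_le D, ?_, n, mem_map_of_mem _ hn, ?_, congrArg Subtype.val e⟩
    · rw [← e2]
      rintro _ ⟨d, hd, rfl⟩
      refine mem_centralizer_iff.2 ?_
      rintro _ ⟨b, hb, rfl⟩
      exact congrArg Subtype.val (mem_centralizer_iff.1 (hDB hd) b hb)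
    · refine mem_normalizer_iff.2 fun s => ⟨fun hs => ?_, fun hs => ?_⟩
      · exact (hleS a hle _).1 ((mem_normalizer_iff.1 hnS ⟨s, hle hs⟩).1 ((hleS a hle _).2 hs))
      · have hsC : s ∈ centralizer ({a} : Set G) := by
          have := mul_mem (mul_mem (inv_mem n.2) (hle hs)) n.2
          simpa [mul_assoc] using this
        exact (hleS a hle _).1 ((mem_normalizer_iff.1 hnS ⟨s, hsC⟩).2 ((hleS a hle _).2 hs))
  · exact fun b hbS _ D hD hDC n hn hnS => atomsOf_perfect h S hbS hD hDC hn hnS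
  · rintro a haS ha n hn A ⟨hle, K, hK, e1, e2⟩
    have hn2 : n * a * n⁻¹ ∈ (S : Subgroup G) := (mem_normalizer_iff.1 hn a).1 haS
    have hle' : (S : Subgroup G) ≤ centralizer ({n * a * n⁻¹} : Set G) :=
      fun s hs => mem_centralizer_singleton_iff.2 (h _ S.2 s hs _ hn2).eq
    have hmap : (centralizer ({a} : Set G)).map (MulAut.conj n).toMonoidHom =
        centralizer ({n * a * n⁻¹} : Set G) := by
      ext x
      rw [mem_map_equiv, MulAut.conj_symm_apply, mem_centralizer_singleton_iff, mem_centralizer_singleton_iff]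
      constructor
      · intro hy
        calc x * (n * a * n⁻¹) = n * (n⁻¹ * x * n * a) * n⁻¹ := by group
          _ = n * a * n⁻¹ * x := by rw [hy]; group
      · intro hx
        calc n⁻¹ * x * n * a = n⁻¹ * (x * (n * a * n⁻¹)) * n := by group
          _ = a * (n⁻¹ * x * n) := by rw [hx]; group
    let e : ↥(centralizer ({a} : Set G)) ≃* ↥(centralizer ({n * a * n⁻¹} : Set G)) :=
      ((MulAut.conj n).subgroupMap _).trans (MulEquiv.subgroupCongr hmap)
    have hval : ∀ y, (e y : G) = n * y * n⁻¹ := fun y => rfl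
    obtain ⟨K', hK', h1, h2⟩ := trace_equiv e (S.subtype hle) (S.subtype hle') (by
      ext x
      rw [mem_map_equiv, hleS a hle, hleS _ hle', mem_normalizer_iff.1 hn (e.symm x : G), ← hval,
        e.apply_symm_apply]) hK
    have hsub : ∀ T : Subgroup ↥(centralizer ({a} : Set G)),
        (T.map e.toMonoidHom).map (centralizer ({n * a * n⁻¹} : Set G)).subtype =
          MulAut.conj n • T.map (centralizer ({a} : Set G)).subtype := fun T => by
      show _ = (T.map _).map (MulAut.conj n).toMonoidHom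
      rw [Subgroup.map_map, Subgroup.map_map]
      rfl
    exact ⟨hle', K', hK', by rw [h1, hsub, e1], by rw [h2, hsub, e2]⟩

/-- The atom system, given the list for the smaller simple groups. -/
theorem atomSys_of_listed [IsSimpleGroup G] (hnc : ¬ IsMulCommutative G) (h : AbTwo G) (S : Sylow 2 G)
    (hind : ∀ (T : Type u) [Group T] [Finite T], IsSimpleGroup T → ¬ IsMulCommutative T → AbTwo T →
      Nat.card T < Nat.card G → Listed T) : AtomSys S (atomsOf S) := by
  refine atomSys h S fun a ha K hK => ?_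
  obtain ⟨hs, hn⟩ := component_simple (abTwo_quot (h.subgroup _)) core_quot hK
  haveI := hs
  have hab : AbTwo ↥K := (abTwo_quot (h.subgroup _)).subgroup K
  exact oneTwoClass_of_listed hn hab (hind ↥K hs hn hab (card_quot_lt hnc ha K))

end Cfsg.Agent.Walter.Core
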