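import Cfsg.Agent.Lib.Walter.Core.NiceRigid
import Cfsg.Agent.Lib.Walter.ComponentsClasses
import Cfsg.Agent.Lib.JT.LocalPSL
import Cfsg.Agent.Lib.Forms.DicksonDihedral

/-!
# The centralisers of involutions in `PSL(2, q)`, `q ≡ 0, 3, 5 (mod 8)`

`OddPSL`: what is used of `PSL(2, q)`, `q ≡ 3, 5 (mod 8)`: four groups are self-centralising, the torus is prime
to the class size of the involutions, and either the group is `A₅` or the centralisers are maximal.
`EvenPSL`: the centralisers of involutions are the Sylow subgroups and the order is `|P| (|P|² - 1)`.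
-/

set_option autoImplicit false
set_option linter.style.haveILetI false
set_option linter.unusedSectionVars false

namespace Cfsg.Agent.Walter.Core

open Subgroup

universe u v

/-- What is used of `PSL(2, q)`, `q ≡ 3, 5 (mod 8)`. -/
structure OddPSL (T : Type u) [Group T] : Prop where
  sylow : ∀ P : Sylow 2 T, Nat.card ↥(P : Subgroup T) = 4
  four : ∀ i j x : T, orderOf i = 2 → orderOf j = 2 → Commute i j → i ≠ j → Commute x i → Commute x j →
    x = 1 ∨ x = i ∨ x = j ∨ x = i * j
  coprime : ∀ w y : T, orderOf w = 2 → Commute y w → Odd (orderOf y) →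
    Nat.Coprime (orderOf y) (centralizer ({w} : Set T)).index
  cases : ((∀ w : T, orderOf w = 2 → Nat.card ↥(centralizer ({w} : Set T)) = 4) ∧ Nat.card T = 60) ∨
    ∀ w : T, orderOf w = 2 → IsCoatom (centralizer ({w} : Set T)) ∧
      4 < Nat.card ↥(centralizer ({w} : Set T))

/-- What is used of `PSL(2, 2 ^ n)`. -/
structure EvenPSL (T : Type u) [Group T] : Prop where
  cent : ∀ P : Sylow 2 T, ∀ z ∈ (P : Subgroup T), z ≠ 1 → centralizer ({z} : Set T) ≤ (P : Subgroup T)
  card : ∀ P : Sylow 2 T, Nat.card T + Nat.card ↥(P : Subgroup T) =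
    Nat.card ↥(P : Subgroup T) * (Nat.card ↥(P : Subgroup T) * Nat.card ↥(P : Subgroup T))

theorem map_centralizer_one {T : Type u} [Group T] {K : Type v} [Group K] (e : T ≃* K) (w : T) :
    (centralizer ({w} : Set T)).map e.toMonoidHom = centralizer ({e w} : Set K) := by
  ext x
  rw [mem_map_equiv, mem_centralizer_singleton_iff, mem_centralizer_singleton_iff]
  constructor
  · intro h
    simpa using congrArg e h
  · intro h
    exact e.injective (by simpa using h)

/-- Transport along an isomorphism. -/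
theorem OddPSL.of_equiv {T : Type u} [Group T] [Finite T] {K : Type v} [Group K] (e : T ≃* K) (h : OddPSL K) :
    OddPSL T := by
  have ho : ∀ w : T, orderOf (e w) = orderOf w := fun w => e.orderOf_eq w
  have hc : ∀ w : T, Nat.card ↥(centralizer ({e w} : Set K)) = Nat.card ↥(centralizer ({w} : Set T)) := fun w => by
    rw [← map_centralizer_one, card_map_of_injective e.injective]
  refine ⟨fun P => ?_, fun i j x hi hj hij hne hxi hxj => ?_, fun w y hw hy hyo => ?_, ?_⟩
  · haveI : Fact (Nat.Prime 2) := ⟨Nat.prime_two⟩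
    haveI : Finite K := Finite.of_equiv T e.toEquiv
    obtain ⟨Q⟩ := (inferInstance : Nonempty (Sylow 2 K))
    rw [← h.sylow Q, P.card_eq_multiplicity, Q.card_eq_multiplicity, Nat.card_congr e.toEquiv]
  · have h1 := h.four (e i) (e j) (e x) (by rw [ho, hi]) (by rw [ho, hj]) (hij.map e.toMonoidHom)
      (fun e' => hne (e.injective e')) (hxi.map e.toMonoidHom) (hxj.map e.toMonoidHom)
    simpa only [← map_mul, e.injective.eq_iff, MulEquiv.map_eq_one_iff] using h1
  · have h1 := h.coprime (e w) (e y) (by rw [ho, hw]) (hy.map e.toMonoidHom) (by rw [ho]; exact hyo)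
    rw [ho, ← map_centralizer_one] at h1
    have h2 : ((centralizer ({w} : Set T)).map e.toMonoidHom).index = (centralizer ({w} : Set T)).index :=
      Subgroup.index_map_equiv _ e
    rwa [h2] at h1
  · rcases h.cases with ⟨h1, h2⟩ | h1
    · exact Or.inl ⟨fun w hw => by rw [← hc, h1 _ (by rw [ho, hw])], by rw [Nat.card_congr e.toEquiv, h2]⟩
    · refine Or.inr fun w hw => ?_
      obtain ⟨h2, h3⟩ := h1 (e w) (by rw [ho, hw])
      rw [hc] at h3
      refine ⟨?_, h3⟩
      rw [← map_centralizer_one] at h2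
      exact (OrderIso.isCoatom_iff e.mapSubgroup _).1 h2

theorem EvenPSL.of_equiv {T : Type u} [Group T] [Finite T] {K : Type v} [Group K] (e : T ≃* K) (h : EvenPSL K) :
    EvenPSL T := by
  have hQ : ∀ P : Sylow 2 T, ∃ Q : Sylow 2 K, (∀ z, e z ∈ (Q : Subgroup K) ↔ z ∈ (P : Subgroup T)) ∧
      Nat.card ↥(Q : Subgroup K) = Nat.card ↥(P : Subgroup T) := fun P => by
    refine ⟨P.comapOfInjective e.symm.toMonoidHom e.symm.injective
      (by rw [MonoidHom.range_eq_top.2 e.symm.surjective]; exact le_top), fun z => ?_, ?_⟩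
    · show e.symm (e z) ∈ (P : Subgroup T) ↔ _
      rw [MulEquiv.symm_apply_apply]
    · show Nat.card ↥((P : Subgroup T).comap e.symm.toMonoidHom) = _
      rw [comap_equiv_eq_map_symm', card_map_of_injective e.symm.symm.injective]
  refine ⟨fun P z hz hz1 x hx => ?_, fun P => ?_⟩
  · obtain ⟨Q, hm, -⟩ := hQ P
    refine (hm x).1 (h.cent Q (e z) ((hm z).2 hz) (fun e' => hz1 ((MulEquiv.map_eq_one_iff e).1 e')) ?_)
    rw [← map_centralizer_one]
    exact mem_map_of_mem _ hx
  · obtain ⟨Q, -, hcard⟩ := hQ P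
    rw [← hcard, Nat.card_congr e.toEquiv]
    exact h.card Q

section Linear

variable {F : Type} [Field F] [Fintype F]

local notation "PG" => Matrix.ProjectiveSpecialLinearGroup (Fin 2) F

theorem evenPSL (h2 : 2 ∣ Fintype.card F) (h4 : 4 ≤ Fintype.card F) (h : SEAbelian.AbTwo PG) : EvenPSL PG := by
  classical
  haveI : Fact (Nat.Prime 2) := ⟨Nat.prime_two⟩
  haveI : IsSimpleGroup PG := Classical.Linear.isSimpleGroup_PSL_fin le_rfl fun _ => h4
  set q := Fintype.card F with hq
  have hS := S2507.result (F := F) h2 h4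
  rw [← hq] at hS
  have hgcd : Nat.gcd 2 (q - 1) = 1 := Nat.prime_two.coprime_iff_not_dvd.2 fun h => by omega
  have hG := Forms.DicksonCor.gcd_mul_natCard (F := F)
  rw [← hq, hgcd, one_mul, show (q - 1) * (q + 1) = q ^ 2 - 1 by
    rw [mul_comm, ← Nat.sq_sub_sq, one_pow]] at hG
  have hq2 : 16 ≤ q ^ 2 := by nlinarith
  have hnc : ¬ IsMulCommutative PG := fun hc => by
    obtain ⟨g, hg⟩ : q ^ 2 - 1 ∈ Set.range (fun g : PG => (centralizer ({g} : Set PG)).index) := by
      rw [hS]; simp
    simp only at hg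
    have : centralizer ({g} : Set PG) = ⊤ := (eq_top_iff' _).2 fun z =>
      mem_centralizer_singleton_iff.2 (hc.is_comm.comm z g)
    rw [this, Subgroup.index_top] at hg
    omega
  refine ⟨fun P z hz hz1 => ?_, fun P => ?_⟩
  · have hP : Nat.card ↥(P : Subgroup PG) = q := card_sylow_psl_even h2 P
    have hle : (P : Subgroup PG) ≤ centralizer ({z} : Set PG) := fun x hx =>
      mem_centralizer_singleton_iff.2 (h _ P.2 x hx z hz).eq
    have hidx : (P : Subgroup PG).index = q ^ 2 - 1 := by
      have := (P : Subgroup PG).card_mul_index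
      rw [hP, hG] at this
      exact Nat.eq_of_mul_eq_mul_left (by omega) this
    have hdvd : (centralizer ({z} : Set PG)).index ∣ q ^ 2 - 1 := hidx ▸ index_dvd_of_le hle
    have hmem : (centralizer ({z} : Set PG)).index ∈
        ({1, q * (q - 1), q ^ 2 - 1, q * (q + 1)} : Set ℕ) := hS ▸ ⟨_, rfl⟩
    have hqodd : ¬ 2 ∣ q ^ 2 - 1 := by
      obtain ⟨c, hc⟩ := dvd_pow h2 two_ne_zero
      omega
    simp only [Set.mem_insert_iff, Set.mem_singleton_iff] at hmem
    rcases hmem with e | e | e | e
    · exfalso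
      rw [Subgroup.index_eq_one, Subgroup.centralizer_eq_top_iff_subset, Set.singleton_subset_iff] at e
      rw [center_eq_bot_of_simple hnc, SetLike.mem_coe, mem_bot] at e
      exact hz1 e
    · exact absurd ((h2.mul_right _).trans (e ▸ hdvd)) hqodd
    · refine (eq_of_le_of_card_ge hle ?_).ge
      have := (centralizer ({z} : Set PG)).card_mul_index
      rw [e, hG] at this
      rw [hP]
      exact (Nat.eq_of_mul_eq_mul_right (by omega) this).le
    · exact absurd ((h2.mul_right _).trans (e ▸ hdvd)) hqodd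
  · rw [card_sylow_psl_even h2 P, ← hq, hG, Nat.mul_sub, mul_one,
      Nat.sub_add_cancel (Nat.le_mul_of_pos_right q (by positivity))]
    ring

theorem oddPSL (h : SEAbelian.AbTwo PG) (hF : Fintype.card F % 8 = 3 ∨ Fintype.card F % 8 = 5)
    (h3 : 3 < Fintype.card F) : OddPSL PG := by
  classical
  haveI : Fact (Nat.Prime 2) := ⟨Nat.prime_two⟩
  set q := Fintype.card F with hq
  have hodd : Odd q := Nat.odd_iff.2 (by omega)
  obtain ⟨r, hK, hr⟩ := JT.Loc.exists_kfacts (F := F) hodd h3 fun P a ha b hb => (h _ P.2 a ha b hb).eq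
  obtain ⟨s, hs⟩ := hK.r_odd
  have hgcd : Nat.gcd 2 (q - 1) = 2 := Nat.gcd_eq_left ⟨(q - 1) / 2, by omega⟩
  have hG := Forms.DicksonCor.gcd_mul_natCard (F := F)
  rw [← hq, hgcd] at hG
  have hidx : ∀ w : PG, orderOf w = 2 → (centralizer ({w} : Set PG)).index = q * (2 * r + 1) ∧ q = 4 * r + 1 ∨
      (centralizer ({w} : Set PG)).index = q * (2 * r - 1) ∧ q + 1 = 4 * r := fun w hw => by
    have hc := (centralizer ({w} : Set PG)).card_mul_index
    rw [(hK.torus w hw).1] at hc
    rcases hr with ⟨-, e⟩ | ⟨-, e⟩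
    · refine Or.inl ⟨?_, by omega⟩
      rw [← e, show q + 1 = 2 * (2 * r + 1) by omega, ← hc] at hG
      refine Nat.eq_of_mul_eq_mul_left (show 0 < 2 * (4 * r) by omega) ?_
      linarith
    · refine Or.inr ⟨?_, e.symm⟩
      rw [← e, show q - 1 = 2 * (2 * r - 1) by omega, ← hc] at hG
      refine Nat.eq_of_mul_eq_mul_left (show 0 < 2 * (4 * r) by omega) ?_
      linarith
  refine ⟨fun P => (S0276.result rfl hF P).1, fun i j x hi hj hij hne hxi hxj => ?_,
    fun w y hw hy hyo => ?_, ?_⟩
  · obtain ⟨-, A, -, hAc, hAi, hsplit, -, -⟩ := hK.torus i hi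
    obtain ⟨hinv, hsp⟩ := hsplit j hj hij.symm hne.symm
    have hfix : ∀ a ∈ A, Commute a j → a = 1 := fun a ha haj => by
      have h1 := hinv a ha
      rw [← haj.eq, mul_inv_cancel_right] at h1
      have h2 : orderOf a ∣ 2 := orderOf_dvd_of_pow_eq_one (by rw [pow_two]; nth_rw 1 [h1]; exact inv_mul_cancel a)
      rcases (Nat.dvd_prime Nat.prime_two).1 h2 with e | e
      · exact orderOf_eq_one_iff.1 e
      · have h3 := hAc ▸ Subgroup.orderOf_dvd_natCard A ha
        rw [e] at h3
        omega
    have hii := JT.Loc.invol_mul_self hi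
    have hjj := JT.Loc.invol_mul_self hj
    rcases hsp x hxi with ha | ha | ha | ha
    · exact Or.inl (hfix x ha hxj)
    · refine Or.inr (Or.inl ?_)
      calc x = x * i * i := by rw [mul_assoc, hii, mul_one]
        _ = i := by rw [hfix _ ha (hxj.mul_left hij), one_mul]
    · refine Or.inr (Or.inr (Or.inl ?_))
      calc x = x * j * j := by rw [mul_assoc, hjj, mul_one]
        _ = j := by rw [hfix _ ha (hxj.mul_left (Commute.refl j)), one_mul]
    · refine Or.inr (Or.inr (Or.inr ?_))
      calc x = x * (j * i) * (i * j) := by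
            rw [show x * (j * i) * (i * j) = x * (j * (i * i) * j) by group, hii, mul_one, hjj, mul_one]
        _ = i * j := by rw [hfix _ ha (hxj.mul_left ((Commute.refl j).mul_left hij)), one_mul]
  · have hyr : orderOf y ∣ r := by
      have h1 : orderOf y ∣ 4 * r := (hK.torus w hw).1 ▸
        Subgroup.orderOf_dvd_natCard _ (mem_centralizer_singleton_iff.2 hy.eq)
      exact (Nat.Coprime.pow_right 2 (Nat.coprime_two_right.2 hyo)).dvd_of_dvd_mul_left h1
    refine Nat.Coprime.of_dvd_left hyr ?_
    rcases hidx w hw with ⟨e, e'⟩ | ⟨e, e'⟩ <;> rw [e]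
    · refine Nat.Coprime.mul_right ?_ ((Nat.coprime_mul_right_add_right r 1 2).2 (Nat.coprime_one_right r))
      rw [e']
      exact (Nat.coprime_mul_right_add_right r 1 4).2 (Nat.coprime_one_right r)
    · refine Nat.Coprime.mul_right (Nat.coprime_of_dvd' fun p hp hpr hpq => ?_)
        (Nat.coprime_of_dvd' fun p hp hpr hpq => ?_)
      · have := Nat.dvd_sub (hpr.mul_left 4) hpq
        rwa [show 4 * r - q = 1 by omega] at this
      · have := Nat.dvd_sub (hpr.mul_left 2) hpq
        rwa [show 2 * r - (2 * r - 1) = 1 by omega] at this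
  · rcases Nat.lt_or_ge r 2 with hlt | hge
    · obtain rfl : r = 1 := by omega
      have hq5 : q = 5 := by omega
      refine Or.inl ⟨fun w hw => by rw [(hK.torus w hw).1, mul_one], ?_⟩
      rw [hq5] at hG
      omega
    · refine Or.inr fun w hw => ⟨?_, by rw [(hK.torus w hw).1]; omega⟩
      obtain ⟨hcard, A, hcy, hAc, hAw, hsplit, -, u, hu, huw, hne⟩ := hK.torus w hw
      obtain ⟨p, hchar⟩ := CharP.exists F
      obtain ⟨n, hp, hn⟩ := FiniteField.card F p
      haveI : Fact p.Prime := ⟨hp⟩
      obtain ⟨g, hg⟩ := hcy.exists_monoid_generator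
      have hgo : orderOf (g : PG) = r := by
        rw [Subgroup.orderOf_coe, orderOf_eq_card_of_forall_mem_zpowers fun x =>
          Submonoid.powers_le.2 (mem_zpowers g) (hg x), hAc]
      have hcomm : Commute (g : PG) w := hAw g g.2
      have hc : orderOf ((g : PG) * w) = 2 * r := by
        rw [hcomm.orderOf_mul_eq_mul_orderOf_of_coprime (by
          rw [hgo, hw]; exact Nat.coprime_two_right.2 hK.r_odd), hgo, hw, mul_comm]
      refine Forms.DicksonDihedral.isCoatom_of (F := F) p _ (2 * r) (by rw [hcard]; ring) (by omega) ?_ (by omega)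
        ?_ (by omega) (c := (g : PG) * w) (y := u) (mem_centralizer_singleton_iff.2 (hcomm.mul_left
          (Commute.refl w)).eq) (mem_centralizer_singleton_iff.2 huw.eq) hc ?_
      · intro hd
        have hpq : p ∣ q := hq ▸ hn ▸ dvd_pow_self p n.ne_zero
        rcases hp.dvd_mul.1 hd with h1 | h1
        · have : p = 2 := (Nat.prime_dvd_prime_iff_eq hp Nat.prime_two).1 h1
          subst this
          omega
        · rcases hr with ⟨-, e⟩ | ⟨-, e⟩
          · have := Nat.dvd_sub hpq (h1.mul_left 4)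
            rw [show q - 4 * r = 1 by omega] at this
            exact hp.not_dvd_one this
          · have := Nat.dvd_sub (h1.mul_left 4) hpq
            rw [show 4 * r - q = 1 by omega] at this
            exact hp.not_dvd_one this
      · rw [← hq, hgcd]
        omega
      · have hw' : w⁻¹ = w := inv_eq_of_mul_eq_one_right (JT.Loc.invol_mul_self hw)
        calc u * ((g : PG) * w) * u⁻¹ = (u * g * u⁻¹) * (u * w * u⁻¹) := by group
          _ = (g : PG)⁻¹ * w⁻¹ := by rw [(hsplit u hu huw hne).1 g g.2, huw.eq, mul_inv_cancel_right, hw']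
          _ = ((g : PG) * w)⁻¹ := by rw [hcomm.eq, mul_inv_rev]

end Linear

end Cfsg.Agent.Walter.Core
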