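import Cfsg.Agent.Lib.Walter.Core.Nice
import Cfsg.Agent.Lib.Walter.Core.NicePSL
import Cfsg.Agent.Lib.Walter.Main
import Cfsg.Agent.Lib.Walter.Master

/-!
# The small linear groups and the groups of Janko-Ree shape are nice

`nice_of_shape`: `PSL(2, q)`, `q ≡ 0, 3, 5 (mod 8)`, and the Janko-Ree shape with trivial field part.
Also the facts about a simple group with a four group as Sylow 2-subgroup used in rank three.
-/

set_option autoImplicit false
set_option linter.style.haveILetI false
set_option linter.unusedSectionVars false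

namespace Cfsg.Agent.Walter.Core

open Subgroup
open Cfsg.Agent.SEAbelian

universe u

theorem abTwo_of_equiv {T : Type u} [Group T] {K : Type*} [Group K] (e : T ≃* K) (h : AbTwo T) :
    AbTwo K := by
  intro P hP a ha b hb
  have := h _ (hP.map e.symm.toMonoidHom) _ (mem_map_of_mem _ ha) _ (mem_map_of_mem _ hb)
  simpa using this.map e.toMonoidHom

variable {T : Type u} [Group T] [Finite T]

/-- A simple group with a four group as Sylow 2-subgroup. -/
theorem oddPSL_of_four [IsSimpleGroup T] (hnc : ¬ IsMulCommutative T) (h : AbTwo T) (P : Sylow 2 T)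
    (h4 : Nat.card ↥(P : Subgroup T) = 4) : OddPSL T := by
  haveI : Fact (Nat.Prime 2) := ⟨Nat.prime_two⟩
  have h1 := oneTwoClass_of_small hnc h fun Q => by
    rw [← Nat.card_congr (P.equiv Q).toEquiv, h4]
    omega
  have hel : ∀ x ∈ (P : Subgroup T), x * x = 1 := fun x hx => by
    by_cases hx1 : x = 1
    · rw [hx1, mul_one]
    · rw [← pow_two, ← orderOf_two_of_oneTwoClass h1 hx hx1, pow_orderOf_eq_one]
  obtain ⟨F, i1, i2, hF, h3, ⟨e⟩⟩ := psl_of_four hnc P hel h4
  exact (oddPSL (abTwo_of_equiv e h) hF h3).of_equiv e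

namespace OddPSL

variable (ho : OddPSL T) [IsSimpleGroup T] (hnc : ¬ IsMulCommutative T) (h : AbTwo T)
include ho hnc h

theorem one : OneTwoClass T := oneTwoClass_of_small hnc h fun P => by rw [ho.sylow P]; omega

/-- The Sylow subgroup is self-centralising. -/
theorem self_cent (P : Sylow 2 T) : centralizer ((P : Subgroup T) : Set T) ≤ (P : Subgroup T) := by
  intro x hx
  classical
  have h4 := ho.sylow P
  obtain ⟨i, hi, hi1⟩ := (P : Subgroup T).bot_or_exists_ne_one.resolve_left fun e => by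
    rw [e, card_bot] at h4
    omega
  obtain ⟨j, hj, hj1, hji⟩ : ∃ j ∈ (P : Subgroup T), j ≠ 1 ∧ j ≠ i := by
    by_contra hcon
    push Not at hcon
    have hle : (P : Subgroup T) ≤ zpowers i := fun j hj => by
      by_cases hj1 : j = 1
      · exact hj1 ▸ one_mem _
      · exact (hcon j hj hj1) ▸ mem_zpowers i
    have := card_le_of_le hle
    rw [Nat.card_zpowers, orderOf_two_of_oneTwoClass (ho.one hnc h) hi hi1, h4] at this
    omega
  rcases ho.four i j x (orderOf_two_of_oneTwoClass (ho.one hnc h) hi hi1)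
    (orderOf_two_of_oneTwoClass (ho.one hnc h) hj hj1) (h _ P.2 i hi j hj) hji.symm
    (mem_centralizer_iff.1 hx i hi).symm (mem_centralizer_iff.1 hx j hj).symm with e | e | e | e <;> rw [e]
  exacts [one_mem _, hi, hj, mul_mem hi hj]

/-- In the case of `A₅` the Sylow subgroup is the centraliser of each of its involutions. -/
theorem small_cent (h4 : ∀ w : T, orderOf w = 2 → Nat.card ↥(centralizer ({w} : Set T)) = 4) (P : Sylow 2 T) :
    ∀ w ∈ (P : Subgroup T), w ≠ 1 → centralizer ({w} : Set T) ≤ (P : Subgroup T) := fun w hw hw1 =>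
  (eq_of_le_of_card_ge (fun x hx => mem_centralizer_singleton_iff.2 (h _ P.2 x hx w hw).eq)
    (by rw [h4 w (orderOf_two_of_oneTwoClass (ho.one hnc h) hw hw1), ho.sylow P])).ge

/-- Either the torus generates, or the group is `A₅`. -/
theorem small (P : Sylow 2 T) :
    normalizer ((P : Subgroup T) : Set T) ⊔
        (⨆ w : {w : T // w ∈ (P : Subgroup T) ∧ w ≠ 1}, centralizer ({(w : T)} : Set T)) = ⊤ ∨
    ((∀ w ∈ (P : Subgroup T), w ≠ 1 → centralizer ({w} : Set T) ≤ (P : Subgroup T)) ∧
      ∀ α : MulAut T, Odd (orderOf α) → (∀ x ∈ (P : Subgroup T), α x = x) → α = 1) := by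
  have h1 := ho.one hnc h
  rcases ho.cases with ⟨hc4, h60⟩ | hco
  · exact Or.inr ⟨ho.small_cent hnc h hc4 P, fun α hodd hfix => rigid_of_ti hnc h h1 P
      (ho.small_cent hnc h hc4 P) (by rw [h60, ho.sylow P]) hodd hfix⟩
  · refine Or.inl ?_
    obtain ⟨i, hi, hi1⟩ := (P : Subgroup T).bot_or_exists_ne_one.resolve_left fun e => by
      have := ho.sylow P
      rw [e, card_bot] at this
      omega
    obtain ⟨hmax, h5⟩ := hco i (orderOf_two_of_oneTwoClass h1 hi hi1)
    refine hmax.2 _ (lt_of_le_of_ne (le_sup_of_le_right (le_iSup_of_le ⟨i, hi, hi1⟩ le_rfl)) fun e => ?_)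
    -- otherwise the normalizer centralises `i`
    have hN : normalizer ((P : Subgroup T) : Set T) ≤ centralizer ({i} : Set T) := le_sup_left.trans e.ge
    exact hi1 (fixed_eq_one_of_simple hnc h P hi fun n hn => by
      rw [mem_centralizer_singleton_iff.1 (hN hn), mul_inv_cancel_right])

/-- An odd automorphism fixing the Sylow subgroup and one centraliser is trivial. -/
theorem field_rigid (P : Sylow 2 T) {α : MulAut T} (hodd : Odd (orderOf α))
    (hfix : ∀ x ∈ (P : Subgroup T), α x = x) {w : T} (hw : w ∈ (P : Subgroup T)) (hw1 : w ≠ 1)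
    (hC : ∀ g ∈ centralizer ({w} : Set T), α g = g) : α = 1 := by
  have h1 := ho.one hnc h
  rcases ho.cases with ⟨hc4, h60⟩ | hco
  · exact rigid_of_ti hnc h h1 P (ho.small_cent hnc h hc4 P) (by rw [h60, ho.sylow P]) hodd hfix
  · obtain ⟨hmax, -⟩ := hco w (orderOf_two_of_oneTwoClass h1 hw hw1)
    have hN := fix_normalizer (fun p hp => by
      by_cases hp1 : p = 1
      · rw [hp1, mul_one]
      · rw [← pow_two, ← orderOf_two_of_oneTwoClass h1 hp hp1, pow_orderOf_eq_one]) (ho.self_cent hnc h P) hodd hfix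
    let F : Subgroup T :=
      { carrier := {g | α g = g}
        one_mem' := map_one α
        mul_mem' := fun {a b} ha hb => show α (a * b) = a * b by rw [map_mul, ha, hb]
        inv_mem' := fun {a} ha => show α a⁻¹ = a⁻¹ by rw [map_inv, ha] }
    have hF : F = ⊤ := hmax.2 F (lt_of_le_of_ne (fun g hg => hC g hg) fun e => hw1
      (fixed_eq_one_of_simple hnc h P hw fun n hn => by
        rw [mem_centralizer_singleton_iff.1 (e.ge (hN n hn : n ∈ F)), mul_inv_cancel_right]))
    exact MulEquiv.ext fun g => (hF ▸ mem_top g : g ∈ F)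

/-- Nice. -/
theorem nice : Nice T where
  one := ho.one hnc h
  cent := ho.self_cent hnc h
  core := fun P h8 => by rw [ho.sylow P] at h8; omega
  rigid := fun P α _ _ B hB h8 => by
    have := h8.trans (card_le_of_le hB)
    rw [ho.sylow P] at this
    omega
  small := fun P _ => ho.small hnc h P

end OddPSL

/-- `PSL(2, 2 ^ n)`, `n ≥ 3`, is nice. -/
theorem nice_of_even [IsSimpleGroup T] (hnc : ¬ IsMulCommutative T) (h : AbTwo T) (he : EvenPSL T)
    (h1 : OneTwoClass T) (h8 : ∀ P : Sylow 2 T, 8 ≤ Nat.card ↥(P : Subgroup T)) : Nice T where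
  one := h1
  cent := fun P x hx => by
    obtain ⟨u, hu, hu1⟩ := (P : Subgroup T).bot_or_exists_ne_one.resolve_left fun e => by
      have := h8 P
      rw [e, card_bot] at this
      omega
    exact he.cent P u hu hu1 (mem_centralizer_singleton_iff.2 (mem_centralizer_iff.1 hx u hu).symm)
  core := fun _ _ z hz => by
    haveI : Fact (Nat.Prime 2) := ⟨Nat.prime_two⟩
    obtain ⟨Q, hQ⟩ := (IsPGroup.of_card (n := 1) (G := zpowers z)
      (by rw [Nat.card_zpowers, hz, pow_one])).exists_le_sylow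
    have hle := he.cent Q z (hQ (mem_zpowers z)) (ne_one_of_orderOf_two hz)
    obtain ⟨k, hk⟩ := IsPGroup.iff_card.1 (Q.2.to_le hle)
    obtain ⟨a, -, ha⟩ := (Nat.dvd_prime_pow Nat.prime_two).1
      (hk ▸ Subgroup.card_subgroup_dvd_card (Cfsg.oddCore ↥(centralizer ({z} : Set T))))
    have hodd := InvChar.Core.odd_card_oddCore (G := ↥(centralizer ({z} : Set T)))
    rcases a with _ | a
    · exact card_eq_one.1 (ha.trans (pow_zero 2))
    · exfalso
      rw [ha, Nat.odd_pow_iff (Nat.succ_ne_zero a)] at hodd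
      exact absurd hodd (by decide)
  rigid := fun P α hodd hfix _ _ _ _ => rigid_of_ti hnc h h1 P (he.cent P) (he.card P) hodd hfix
  small := fun P h4 => by have := h8 P; omega

/-- The Janko-Ree shape with trivial field part is nice. -/
theorem nice_of_jr [IsSimpleGroup T] (hnc : ¬ IsMulCommutative T) (h : AbTwo T) (hJ : JRShape T)
    (hf : FieldTriv T) : Nice T := by
  haveI : Fact (Nat.Prime 2) := ⟨Nat.prime_two⟩
  obtain ⟨h8, hconj, t, E, E₀, F, i1, i2, -, -, -, -, hF, hF3, hP⟩ := hJ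
  have h5 : 5 ≤ Fintype.card F := by omega
  have hS : CoatomSetup t F E₀ := ⟨h, oneTwoClass_of_small hnc h fun S => (h8 S).le, hP, h5,
    hf t F E₀ h5 hP, four_le_sylow hnc h, fun S => (h8 S).le⟩
  have h1 := hS.one
  have hmap : ∀ g : T, (centralizer ({t} : Set T)).map (MulAut.conj g).toMonoidHom =
      centralizer ({g * t * g⁻¹} : Set T) := fun g => map_centralizer_one (MulAut.conj g) t
  have hcoat : ∀ z : T, orderOf z = 2 → IsCoatom (centralizer ({z} : Set T)) := fun z hz => by
    obtain ⟨g, rfl⟩ := isConj_iff.1 (hconj t z hP.ht hz)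
    rw [← hmap]
    exact (OrderIso.isCoatom_iff (MulAut.conj g).mapSubgroup _).2 (hS.isCoatom hnc)
  -- every Sylow subgroup is conjugate to one through `t`
  have hmove : ∀ P : Sylow 2 T, ∀ z ∈ (P : Subgroup T), z ≠ 1 → ∃ (g : T) (S : Sylow 2 T),
      g * t * g⁻¹ = z ∧ t ∈ (S : Subgroup T) ∧ ∀ x, x ∈ (S : Subgroup T) ↔ g * x * g⁻¹ ∈ (P : Subgroup T) := by
    intro P z hz hz1
    obtain ⟨g, hg⟩ := isConj_iff.1 (hconj t z hP.ht (orderOf_two_of_oneTwoClass h1 hz hz1))
    have hm : ∀ x, x ∈ ((g⁻¹ • P : Sylow 2 T) : Subgroup T) ↔ g * x * g⁻¹ ∈ (P : Subgroup T) := fun x => by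
      rw [Sylow.coe_subgroup_smul]
      exact mem_conj.trans (by rw [inv_inv])
    exact ⟨g, g⁻¹ • P, hg, (hm t).2 (hg.symm ▸ hz), hm⟩
  refine ⟨h1, fun P x hx => ?_, fun _ _ z hz => ?_, fun P α _ _ B hB hB8 hBC => ?_, fun P h4 => ?_⟩
  · -- self-centralising
    obtain ⟨z, hz, hz1⟩ := (P : Subgroup T).bot_or_exists_ne_one.resolve_left fun e => by
      have := h8 P
      rw [e, card_bot] at this
      omega
    obtain ⟨g, S, hg, hS', hm⟩ := hmove P z hz hz1
    have hy : g⁻¹ * x * g ∈ centralizer ((S : Subgroup T) : Set T) := mem_centralizer_iff.2 fun s hs => by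
      have h2 := mem_centralizer_iff.1 hx _ ((hm s).1 hs)
      calc s * (g⁻¹ * x * g) = g⁻¹ * ((g * s * g⁻¹) * x) * g := by group
        _ = g⁻¹ * (x * (g * s * g⁻¹)) * g := by rw [h2]
        _ = g⁻¹ * x * g * s := by group
    suffices hc : centralizer ((S : Subgroup T) : Set T) ≤ (S : Subgroup T) by
      have := (hm _).1 (hc hy)
      rwa [show g * (g⁻¹ * x * g) * g⁻¹ = x by group] at this
    intro y hy
    obtain ⟨e, he, hye⟩ := hS.split (mem_centralizer_iff.1 hy t hS').symm
    haveI := hS.simple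
    obtain ⟨Q, hQ, hQS⟩ := hS.sylow_meet hS'
    have hQ4 : Nat.card ↥(Q : Subgroup ↥E₀) = 4 := by
      have h4 := four_le_sylow hS.not_comm (h.subgroup E₀) Q
      obtain ⟨k, hk⟩ := IsPGroup.iff_card.1 Q.2
      have hle : (Q : Subgroup ↥E₀).map E₀.subtype < (S : Subgroup T) := by
        refine lt_of_le_of_ne (fun q ⟨q', hq', e'⟩ => e' ▸ hQS q' hq') fun e' => ?_
        obtain ⟨q, -, hq⟩ := e'.ge hS'
        exact hP.t_not (hq ▸ q.2)
      have hlt := Set.ncard_lt_ncard (SetLike.coe_ssubset_coe.2 hle) (Set.toFinite _)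
      rw [← Nat.card_coe_set_eq, ← Nat.card_coe_set_eq] at hlt
      replace hlt : Nat.card ↥((Q : Subgroup ↥E₀).map E₀.subtype) < Nat.card ↥(S : Subgroup T) := hlt
      rw [card_subtype, h8 S, hk] at hlt
      rw [hk] at h4 ⊢
      rcases k with _ | _ | _ | k
      · simp at h4
      · simp at h4
      · rfl
      · have : 2 ^ 3 ≤ 2 ^ (k + 3) := Nat.pow_le_pow_right two_pos (by omega)
        omega
    have heS : e ∈ (S : Subgroup T) := by
      refine hQS ⟨e, he⟩ ((oddPSL_of_four hS.not_comm (h.subgroup E₀) Q hQ4).self_cent hS.not_comm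
        (h.subgroup E₀) Q (mem_centralizer_iff.2 fun q hq => Subtype.ext ?_))
      have hqy := mem_centralizer_iff.1 hy _ (hQS q hq)
      rcases hye with rfl | rfl
      · exact hqy
      · show (q : T) * e = e * q
        have hqt := (hS.comm_E q.2).eq
        exact mul_right_cancel (b := t) (by rw [mul_assoc, hqy, mul_assoc e t, ← hqt, mul_assoc])
    rcases hye with rfl | rfl
    exacts [heS, mul_mem heS hS']
  · obtain ⟨g, rfl⟩ := isConj_iff.1 (hconj t z hP.ht hz)
    rw [← hmap]
    have h2 := Agent.Cores.map_pPrimeCore_eq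
      ((centralizer ({t} : Set T)).equivMapOfInjective (MulAut.conj g).toMonoidHom (MulAut.conj g).injective) 2
    rw [show Cfsg.pPrimeCore 2 _ = _ from hS.oddCore_eq_bot le_rfl, Subgroup.map_bot] at h2
    exact h2.symm
  · obtain rfl : B = (P : Subgroup T) := eq_of_le_of_card_ge hB ((h8 P).le.trans hB8)
    obtain ⟨z, hz, hz1⟩ := (P : Subgroup T).bot_or_exists_ne_one.resolve_left fun e => by
      have := h8 P
      rw [e, card_bot] at this
      omega
    obtain ⟨g, S, hg, hS', hm⟩ := hmove P z hz hz1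
    -- an element of `S` which is not central in `C(t)`
    obtain ⟨w, hw, hw1⟩ := ((S : Subgroup T) ⊓ E₀).bot_or_exists_ne_one.resolve_left (hS.meet_ne_bot hS')
    have hz' : g * w * g⁻¹ ∈ (P : Subgroup T) := (hm w).1 hw.1
    have hz'1 : g * w * g⁻¹ ≠ 1 := fun e => hw1 (conj_eq_one_iff.1 e)
    let Fx : Subgroup T :=
      { carrier := {g | α g = g}
        one_mem' := map_one α
        mul_mem' := fun {a b} ha hb => show α (a * b) = a * b by rw [map_mul, ha, hb]
        inv_mem' := fun {a} ha => show α a⁻¹ = a⁻¹ by rw [map_inv, ha] }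
    have hle : ∀ v ∈ (P : Subgroup T), v ≠ 1 → centralizer ({v} : Set T) ≤ Fx := fun v hv hv1 x hx =>
      hBC v hv hv1 x hx
    have hFx : Fx = ⊤ := (hcoat z (orderOf_two_of_oneTwoClass h1 hz hz1)).2 Fx
      (lt_of_le_of_ne (hle z hz hz1) fun e => ?_)
    · exact MulEquiv.ext fun g => (hFx ▸ mem_top g : g ∈ Fx)
    -- otherwise `w` is central in `C(t)`
    have heq := ((hcoat _ (orderOf_two_of_oneTwoClass h1 hz' hz'1)).le_iff).1
      ((hle _ hz' hz'1).trans e.ge)
    have hCt : centralizer ({t} : Set T) ≤ centralizer ({w} : Set T) := fun x hx => by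
      have hxz : g * x * g⁻¹ ∈ centralizer ({g * w * g⁻¹} : Set T) := by
        rcases heq with e' | e'
        · exact absurd e' (hcoat z (orderOf_two_of_oneTwoClass h1 hz hz1)).1
        · rw [← e', ← hg, ← hmap]
          exact ⟨x, hx, rfl⟩
      have h2 := mem_centralizer_singleton_iff.1 hxz
      refine mem_centralizer_singleton_iff.2 ?_
      calc x * w = g⁻¹ * (g * x * g⁻¹ * (g * w * g⁻¹)) * g := by group
        _ = w * x := by rw [h2]; group
    have hwt : w ∈ zpowers t := hP.faithful.le ⟨hP.le hw.2, mem_centralizer_iff.2 fun y hy =>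
      mem_centralizer_singleton_iff.1 (hCt (hP.le hy))⟩
    obtain ⟨i, rfl⟩ := hwt
    have h2 : t ^ (2 : ℤ) = 1 := by simp [orderOf_dvd_iff_pow_eq_one.1 hP.ht.dvd]
    rcases Int.even_or_odd i with ⟨k, rfl⟩ | ⟨k, rfl⟩
    · exact hw1 (show t ^ (k + k) = 1 by rw [← two_mul, zpow_mul, h2, one_zpow])
    · refine hP.t_not ?_
      have : t ^ (2 * k + 1) ∈ E₀ := hw.2
      rwa [show t ^ (2 * k + 1) = t by rw [zpow_add, zpow_mul, h2, one_zpow, one_mul, zpow_one]] at this
  · have := h8 P
    omega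

/-- `PSL(2, q)` and the Janko-Ree shape are nice. -/
theorem nice_of_shape [IsSimpleGroup T] (hnc : ¬ IsMulCommutative T) (h : AbTwo T)
    (hsh : IsSmallPSL T ∨ JRShape T) (hf : FieldTriv T) : Nice T := by
  haveI : Fact (Nat.Prime 2) := ⟨Nat.prime_two⟩
  rcases hsh with ⟨F, i1, i2, hF, ⟨e⟩⟩ | hJ
  · have hab := abTwo_of_equiv e h
    rcases hF with ⟨n, hn, hF⟩ | ⟨hF, h3⟩
    · have h8F : 8 ≤ Fintype.card F := by
        rw [hF]
        calc 8 = 2 ^ 3 := rfl
          _ ≤ 2 ^ n := Nat.pow_le_pow_right two_pos hn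
      have h2 : 2 ∣ Fintype.card F := hF ▸ dvd_pow_self 2 (by omega)
      refine nice_of_even hnc h ((evenPSL h2 (by omega) hab).of_equiv e)
        (oneTwoClass_of_psl_even h (show 2 ≤ n by omega) hF e) fun P => ?_
      obtain ⟨Q⟩ := (inferInstance : Nonempty (Sylow 2 (Matrix.ProjectiveSpecialLinearGroup (Fin 2) F)))
      rw [P.card_eq_multiplicity, Nat.card_congr e.toEquiv, ← Q.card_eq_multiplicity, card_sylow_psl_even h2 Q]
      exact h8F
    · exact ((oddPSL hab hF h3).of_equiv e).nice hnc h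
  · exact nice_of_jr hnc h hJ hf

end Cfsg.Agent.Walter.Core
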