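import Cfsg.Agent.Lib.Walter.Core.SysBalance
import Cfsg.Agent.Lib.Walter.Irreducible

/-!
# The component system modulo the cores, from nice smaller groups

`exists_coreSys`: in a simple group with abelian Sylow 2-subgroup `S` whose smaller simple groups with abelian
Sylow 2-subgroups are nice, `covOf` and `bdOf` form a `CoreSys` on `A = Ω₁(S)`.
-/

set_option autoImplicit false
set_option linter.style.haveILetI false
set_option linter.unusedSectionVars false

namespace Cfsg.Agent.Walter.Core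

open Subgroup
open Cfsg.Agent.SEAbelian

universe u

variable {G : Type u} [Group G] [Finite G] {S : Sylow 2 G} {A : Subgroup G}

/-- The system of a context. -/
theorem Ctx.coreSys (c : Ctx S A) : CoreSys S A covOf (bdOf A) where
  comm := fun x hx y hy => (c.ab _ S.2 x hx y hy).eq
  omega := c.omega
  cov_le := fun _ _ _ _ hJ => c.cov_le hJ
  cov_conj := fun _ _ _ _ _ _ hJ => c.cov_conj hJ
  bd_iff := fun _ ha _ _ hJ => c.bd_iff ha hJ
  self := fun _ ha _ _ hJ => c.self ha hJ
  disj := fun _ ha _ _ hJ => c.disj ha hJ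
  span := fun _ ha ha1 _ hJ => c.span ha ha1 hJ
  four := fun _ ha ha1 _ hJ => c.four ha ha1 hJ
  orth := fun _ ha _ _ hJ _ hJ' hne => c.orth ha hJ hJ' hne
  commute := fun _ _ _ _ hJ _ hJ' hne => c.commute hJ hJ' hne
  torus := fun _ ha ha1 _ hJ => c.torus ha ha1 hJ
  lift := fun _ ha _ _ hJ => c.lift ha hJ
  frattini := fun _ ha _ => c.frattini ha
  grow := fun _ ha ha1 _ hJ _ hb hb1 => c.grow ha ha1 hJ hb hb1
  balance_two := fun _ hE h4 _ ha ha1 _ hx hxe => c.balance_two hE h4 ha ha1 hx hxe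
  bad := fun _ hK hK2 _ haK _ _ hbK hb1 _ hya hyK _ hv hinv hyb => c.bad hK hK2 haK hbK hb1 hya hyK hv hinv hyb
  layer_fix := fun _ hX hSX _ _ hH _ hc hcA hco => c.layer_fix_field hX hSX hH hc hcA hco
  fixed_core := fun _ hB h8 _ hg hgB _ ha ha1 => c.fixed_core_field hB h8 hg hgB ha ha1
  fix_all := fun _ ha _ _ hg hgJ => c.fix_all_field ha hg hgJ
  core_cent := fun _ hB _ hk hk1 _ hy hyk _ hv hinv hcase => c.core_cent_field hB hk hk1 hy hyk hv hinv hcase
  small := fun _ ha ha1 _ hJ h4 => c.small_field ha ha1 hJ h4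

/-- The smaller simple groups with abelian Sylow 2-subgroups are nice. -/
def NiceBelow (n : ℕ) : Prop :=
  ∀ (T : Type u) [Group T] [Finite T], IsSimpleGroup T → ¬ IsMulCommutative T → AbTwo T →
    Nat.card T < n → Nice T

theorem ctx_of_nice [IsSimpleGroup G] (hnc : ¬ IsMulCommutative G) (h : AbTwo G) (S : Sylow 2 G)
    (A : Subgroup G) (hA : ∀ x : G, x ∈ A ↔ x ∈ (S : Subgroup G) ∧ x * x = 1)
    (hind : NiceBelow.{u} (Nat.card G)) : Ctx S A := by
  refine ⟨h, hA, fun X hX K hK => ?_, fun a ha e => ha ?_⟩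
  · obtain ⟨hs, hn⟩ := component_simple (abTwo_quot (h.subgroup X)) core_quot hK
    refine hind ↥K hs hn ((abTwo_quot (h.subgroup X)).subgroup K) ?_
    exact lt_of_le_of_lt ((Subgroup.card_le_card_group K).trans
      (Nat.card_le_card_of_surjective _ (QuotientGroup.mk'_surjective _)))
      (lt_of_le_of_ne (Subgroup.card_le_card_group X) fun e => hX (Subgroup.eq_top_of_card_eq X e))
  · rw [Subgroup.centralizer_eq_top_iff_subset, Set.singleton_subset_iff, center_eq_bot_of_simple hnc,
      SetLike.mem_coe, mem_bot] at e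
    exact e

/-- `CoreSys` exists in a minimal counterexample. -/
theorem exists_coreSys [IsSimpleGroup G] (hnc : ¬ IsMulCommutative G) (h : AbTwo G) (S : Sylow 2 G)
    (hind : NiceBelow.{u} (Nat.card G)) :
    ∃ (A : Subgroup G) (cov : G → Set (Subgroup G)) (bd : G → Subgroup G → Subgroup G),
      A = CompSys.omega S (fun x hx y hy => (h _ S.2 x hx y hy).eq) ∧ CoreSys S A cov bd :=
  ⟨_, _, _, rfl, (ctx_of_nice hnc h S _ (fun _ => Iff.rfl) hind).coreSys⟩

/-- A non-solvable involution centraliser gives an atom. -/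
theorem exists_cov_of_not_solvable [IsSimpleGroup G] (hnc : ¬ IsMulCommutative G) (h : AbTwo G) (S : Sylow 2 G)
    {a : G} (haS : a ∈ (S : Subgroup G)) (ha : orderOf a = 2)
    (hns : ¬ Group.IsSolvable ↥(centralizer ({a} : Set G))) : ∃ J, J ∈ covOf a := by
  by_contra hcon
  push Not at hcon
  have hle : (S : Subgroup G) ≤ centralizer ({a} : Set G) :=
    fun s hs => mem_centralizer_singleton_iff.2 (h _ S.2 s hs a haS).eq
  have hlay : Cfsg.layer (↥(centralizer ({a} : Set G)) ⧸ Cfsg.oddCore ↥(centralizer ({a} : Set G))) = ⊥ :=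
    Components.Basic.layer_eq_bot_iff.2 fun K hK => hcon _ ⟨K, hK, rfl⟩
  have htop := layer_sup_normalizer (abTwo_quot (h.subgroup _)) core_quot (bar (S.subtype hle))
  rw [hlay, bot_sup_eq] at htop
  haveI := isSolvable_normalizer (bar (S.subtype hle)) fun x hx y hy =>
    ((abTwo_quot (h.subgroup _)) _ (bar (S.subtype hle)).2 x hx y hy).eq
  haveI hq : Group.IsSolvable
      (↥(centralizer ({a} : Set G)) ⧸ Cfsg.oddCore ↥(centralizer ({a} : Set G))) :=
    Group.isSolvable_of_surjective (f := (normalizer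
      ((bar (S.subtype hle) : Subgroup (Qt a)) : Set (Qt a))).subtype) fun x => ⟨⟨x, htop ▸ mem_top x⟩, rfl⟩
  haveI : Group.IsSolvable ↥(Cfsg.oddCore ↥(centralizer ({a} : Set G))) :=
    S0205.result Agent.Cores.oddCore_odd
  exact hns (Group.isSolvable_of_ker_le_range (Cfsg.oddCore ↥(centralizer ({a} : Set G))).subtype
    (QuotientGroup.mk' (Cfsg.oddCore ↥(centralizer ({a} : Set G))))
    (by rw [QuotientGroup.ker_mk', Subgroup.range_subtype]))

end Cfsg.Agent.Walter.Core
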