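import Cfsg.Agent.Lib.Walter.Core.ThreeBalanceTools
import Cfsg.Agent.Lib.SEAbelian.ZJ

/-!
# Balance in rank three

For involutions `u`, `k` of `S` the core of `C(u)` meets `C(k)` in the core of `C(k)`: an inverted part outside
it would give a subgroup covering `C(u)` whose `Z(J(P))` controls fusion and carries the core at `u` to the
core at `k`.
-/

set_option autoImplicit false
set_option linter.unusedSectionVars false
set_option linter.style.haveILetI false

open Subgroup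
open scoped Pointwise

namespace Cfsg.Agent.Walter.Core.Three

open Cfsg.Agent.SEAbelian

universe u

variable {G : Type u} [Group G] [Finite G] {S : Sylow 2 G} {L : G → Subgroup G} {u k : G} {r : ℕ}

/-- Conjugation maps one subgroup onto another. -/
theorem map_conj_eq {n : G} {A B : Subgroup G} (h1 : ∀ x ∈ A, n * x * n⁻¹ ∈ B)
    (h2 : ∀ x ∈ B, n⁻¹ * x * n ∈ A) : A.map (MulAut.conj n).toMonoidHom = B := by
  refine le_antisymm ?_ fun x hx => ⟨_, h2 x hx, ?_⟩
  · rintro _ ⟨x, hx, rfl⟩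
    exact h1 x hx
  · show n * (n⁻¹ * x * n) * n⁻¹ = x
    group

section Family

variable [IsSimpleGroup G] (h : ThreeSys S L)

include h

theorem normalizer_ne_top {R : Subgroup G} (hR : R ≠ ⊥) (hodd : Odd (Nat.card ↥R)) :
    normalizer (R : Set G) ≠ ⊤ := by
  intro e
  rcases IsSimpleGroup.eq_bot_or_eq_top_of_normal R (normalizer_eq_top_iff.1 e) with h1 | h1
  · exact hR h1
  · rw [h1, Subgroup.card_top] at hodd
    have h2 : 2 ∣ Nat.card G := dvd_trans ⟨4, h.card_S⟩ (Subgroup.card_subgroup_dvd_card _)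
    rw [Nat.odd_iff] at hodd
    omega

theorem coprime_S {D : Subgroup G} (hD : Odd (Nat.card ↥D)) :
    (Nat.card ↥(S : Subgroup G)).Coprime (Nat.card ↥D) := by
  rw [h.card_S, show (8 : ℕ) = 2 ^ 3 from rfl]
  exact (Nat.coprime_two_left.2 hD).pow_left 3

theorem solv_S : Group.IsSolvable ↥(S : Subgroup G) :=
  haveI : Fact (Nat.Prime 2) := ⟨Nat.prime_two⟩
  Coprime.isSolvable_of_isPGroup S.2

/-- Frattini: the normalizer of an invariant Sylow subgroup of a covered odd subgroup covers. -/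
theorem covers_normalizer [Fact r.Prime] (hu : u ∈ (S : Subgroup G)) (hu1 : u ≠ 1) {N X : Subgroup G}
    (hN : Odd (Nat.card ↥N)) (huN : u ∈ normalizer (N : Set G)) (P : Sylow r ↥N)
    (hP : (S : Subgroup G) ≤ normalizer (((P : Subgroup ↥N).map N.subtype : Subgroup G) : Set G))
    (hne : (P : Subgroup ↥N).map N.subtype ≠ ⊥) (hXN : X ≤ normalizer (N : Set G))
    (hcov : centralizer ({u} : Set G) ≤ oc u ⊔ (X ⊓ centralizer ({u} : Set G)))
    (hm : N ⊓ centralizer ({u} : Set G) ≤ oc u) :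
    Covers S u (normalizer (((P : Subgroup ↥N).map N.subtype : Subgroup G) : Set G)) := by
  refine ⟨hu, hu1, hP, normalizer_ne_top h hne ?_, hcov.trans (sup_le le_sup_left fun x hx => ?_)⟩
  · exact hN.of_dvd_nat (card_dvd_of_le (map_subtype_le _))
  obtain ⟨m, hm', hn⟩ := frattini_fixed (h.sq u hu) hN huN P (hP hu) (hXN hx.1)
    (mem_centralizer_singleton_iff.1 hx.2)
  have h1 : m⁻¹ * x ∈ centralizer ({u} : Set G) := mul_mem (inv_mem (mem_inf.1 hm').2) (mem_inf.1 hx).2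
  have := mul_mem (mem_sup_left (T := normalizer (((P : Subgroup ↥N).map N.subtype : Subgroup G) : Set G) ⊓
    centralizer ({u} : Set G)) (hm hm')) (mem_sup_right (mem_inf.2 ⟨hn, h1⟩))
  rwa [mul_inv_cancel_left] at this

end Family

namespace Covers

variable (h : ThreeSys S L) {X : Subgroup G} (hX : Covers S u X)

include h hX

/-- Every element of `C(u)` splits along `X`. -/
theorem exists_mul {g : G} (hg : g ∈ centralizer ({u} : Set G)) :
    ∃ o ∈ oc u, ∃ x ∈ X ⊓ centralizer ({u} : Set G), o * x = g :=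
  (Coprime.mem_sup_of_le_normalizer ((inf_le_right : X ⊓ _ ≤ centralizer ({u} : Set G)).trans
    (le_normalizer_coreOf _))).1 (hX.cover hg)

/-- The order of `X` when `u` is central modulo `O(X)`. -/
theorem card_eq (hc : CentralMod u X) :
    Nat.card ↥X = Nat.card ↥(coreOf X) * (oc u).relIndex (centralizer ({u} : Set G)) := by
  set M := X ⊓ centralizer ({u} : Set G) with hM
  have h1 : (coreOf X).relIndex M = (coreOf X).relIndex X := by
    refine relIndex_eq_of_cover inf_le_left fun c hcX => ?_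
    obtain ⟨o, ho, m, hm, rfl⟩ := (Coprime.mem_sup_of_le_normalizer
      ((inf_le_left : M ≤ X).trans (le_normalizer_coreOf X))).1 (hc hcX)
    refine ⟨m, hm, ?_⟩
    rw [← mul_assoc]
    have := conj_le_of_le_normalizer (le_normalizer_coreOf X) (inv_mem (mem_inf.1 hm).1) ho
    rwa [inv_inv] at this
  have h2 : (oc u).relIndex M = (oc u).relIndex (centralizer ({u} : Set G)) := by
    refine relIndex_eq_of_cover inf_le_right fun c hcX => ?_
    obtain ⟨o, ho, m, hm, rfl⟩ := hX.exists_mul h hcX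
    refine ⟨m, hm, ?_⟩
    rw [← mul_assoc]
    have := oc_conj_mem (inv_mem (mem_inf.1 hm).2) ho
    rwa [inv_inv] at this
  have h3 : coreOf X ⊓ M = oc u ⊓ M := le_antisymm
    (fun x hx => mem_inf.2 ⟨hX.core_inf_le (mem_inf.2 ⟨hx.1, hx.2.2⟩), hx.2⟩)
    (fun x hx => mem_inf.2 ⟨hX.central_oc_le hc (mem_inf.2 ⟨hx.1, hx.2.1⟩), hx.2⟩)
  rw [← h2, ← inf_relIndex_right (oc u) M, ← h3, inf_relIndex_right, h1, ← relIndex_bot_left (H := X),
    ← relIndex_bot_left (H := coreOf X), relIndex_mul_relIndex ⊥ _ _ bot_le (coreOf_le X)]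

/-- Elements of `C(u) ∩ C(k)` split inside it. -/
theorem lift_ck (hk : k ∈ (S : Subgroup G)) {g : G} (hg : g ∈ ck u k) :
    ∃ o ∈ oc u ⊓ centralizer ({k} : Set G), ∃ x ∈ X ⊓ ck u k, o * x = g := by
  obtain ⟨o, ho, x, hx, rfl⟩ := hX.exists_mul h hg.1
  have hkk : k⁻¹ = k := inv_S h hk
  have hgk : o * x * k = k * (o * x) := mem_centralizer_singleton_iff.1 hg.2
  have hxk : x⁻¹ * k * x * k ∈ oc u ⊓ X := by
    refine mem_inf.2 ⟨?_, mul_mem (mul_mem (mul_mem (inv_mem hx.1) (hX.le hk)) hx.1) (hX.le hk)⟩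
    have h1 : o * (k * o⁻¹ * k⁻¹) ∈ oc u :=
      mul_mem ho (conj_le_of_le_normalizer (le_normalizer_coreOf _) (S_le_cent h hX.mem hk) (inv_mem ho))
    have h2 := oc_conj_mem (inv_mem hg.1) h1
    convert h2 using 1
    calc x⁻¹ * k * x * k = (o * x)⁻¹ * (o * k * o⁻¹) * ((o * x) * k) := by group
      _ = (o * x)⁻¹ * (o * k * o⁻¹) * (k * (o * x)) := by rw [hgk]
      _ = (o * x)⁻¹ * (o * (k * o⁻¹ * k⁻¹)) * (o * x)⁻¹⁻¹ := by rw [hkk]; group
  obtain ⟨c, hc, hcomm⟩ := SECore.exists_fixed_coset (h.sq k hk) (W := oc u ⊓ X)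
    (inf_normalizer_le_normalizer_inf (mem_inf.2
      ⟨le_normalizer_coreOf _ (S_le_cent h hX.mem hk), le_normalizer (hX.le hk)⟩))
    ((odd_coreOf _).of_dvd_nat (card_dvd_of_le inf_le_left)) hxk
  have hxc : x * c ∈ X ⊓ centralizer ({u} : Set G) :=
    mem_inf.2 ⟨mul_mem (mem_inf.1 hx).1 (mem_inf.1 hc).2, mul_mem (mem_inf.1 hx).2 (oc_le u (mem_inf.1 hc).1)⟩
  have hxck : x * c ∈ X ⊓ ck u k :=
    mem_inf.2 ⟨hxc.1, mem_inf.2 ⟨hxc.2, mem_centralizer_singleton_iff.2 hcomm⟩⟩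
  have ho' : o * x * (x * c)⁻¹ ∈ oc u := by
    have := mul_mem ho (oc_conj_mem (mem_inf.1 hx).2 (inv_mem (mem_inf.1 hc).1))
    convert this using 1
    group
  refine ⟨o * x * (x * c)⁻¹, mem_inf.2 ⟨ho', mul_mem hg.2 (inv_mem hxck.2.2)⟩, x * c, hxck, ?_⟩
  rw [inv_mul_cancel_right]

end Covers

section Balance

variable (h : ThreeSys S L) (hu : u ∈ (S : Subgroup G)) (hu1 : u ≠ 1) (hk : k ∈ (S : Subgroup G)) (hk1 : k ≠ 1)
  (hne : u ≠ k)

include h hu hu1 hk hk1 hne

/-- An element of `N(S)` carrying `u` to `k` and fixing their four subgroup. -/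
theorem exists_tau : ∃ n ∈ normalizer ((S : Subgroup G) : Set G), n ∈ normalizer (ck u k : Set G) ∧
    n * u * n⁻¹ = k := by
  obtain ⟨n, hnS, hnK, e⟩ := h.tau (zpowers u ⊔ zpowers k) (sup_le (zpowers_le.2 hu) (zpowers_le.2 hk))
    (card_four h hu hu1 hk hk1 hne) u (mem_sup_left (mem_zpowers u)) hu1 k (mem_sup_right (mem_zpowers k)) hk1
  refine ⟨n, hnS, mem_normalizer_of_conj_le fun x hx => ?_, e⟩
  have hle : zpowers u ⊔ zpowers k ≤ centralizer ({x} : Set G) :=
    sup_le (zpowers_le.2 (mem_centralizer_singleton_iff.2 (mem_centralizer_singleton_iff.1 hx.1).symm))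
      (zpowers_le.2 (mem_centralizer_singleton_iff.2 (mem_centralizer_singleton_iff.1 hx.2).symm))
  have key : ∀ z ∈ zpowers u ⊔ zpowers k, n * x * n⁻¹ * z = z * (n * x * n⁻¹) := fun z hz => by
    have h1 := mem_centralizer_singleton_iff.1 (hle ((mem_normalizer_iff''.1 hnK z).1 hz))
    calc n * x * n⁻¹ * z = n * (x * (n⁻¹ * z * n)) * n⁻¹ := by group
      _ = n * (n⁻¹ * z * n * x) * n⁻¹ := by rw [h1]
      _ = z * (n * x * n⁻¹) := by group
  exact mem_inf.2 ⟨mem_centralizer_singleton_iff.2 (key u (mem_sup_left (mem_zpowers u))),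
    mem_centralizer_singleton_iff.2 (key k (mem_sup_right (mem_zpowers k)))⟩

/-- An inverted element outside the core at `k` makes the index of `C(⟨u, k⟩)` prime to `r`. -/
theorem not_dvd_index [Fact r.Prime] (hr2 : r ≠ 2) {i s : G} (hi : i ∈ oc u ⊓ centralizer ({k} : Set G))
    (hs : s ∈ (S : Subgroup G)) (hinv : s * i * s⁻¹ = i⁻¹) (hir : ∃ m : ℕ, i ^ r ^ m = 1) (hik : i ∉ oc k) :
    ¬ r ∣ (oc u ⊔ ck u k).relIndex (centralizer ({u} : Set G)) := by
  obtain ⟨w, hw, hw1, hck⟩ := exists_trace h hu hu1 hk hk1 hne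
  obtain ⟨n, -, hn, hnu⟩ := exists_tau h hu hu1 hk hk1 hne
  have hodd : Odd (orderOf i) := odd_orderOf_of_mem (odd_coreOf _) hi.1
  have hiC : i ∈ centralizer ({k} : Set G) := hi.2
  obtain ⟨v, hv, hvi⟩ : ∃ v ∈ L k, v * i * v⁻¹ = i⁻¹ := by
    by_cases hsW : s ∈ (S : Subgroup G) ⊓ L k
    · exact ⟨s, hsW.2, hinv⟩
    refine ⟨s * k, (mul_mem_of_index_two inf_le_left (by rw [h.four k hk hk1, h.card_S]) hs hk hsW
      fun hc => h.not_mem k hk hk1 hc.2).2, ?_⟩
    rw [show s * k * i * (s * k)⁻¹ = s * (k * i * k⁻¹) * s⁻¹ by group,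
      ← mem_centralizer_singleton_iff.1 hiC, mul_inv_cancel_right, hinv]
  have hiL : i ∈ L k := by
    refine mem_of_sq hodd ?_
    have h1 : i * v * i⁻¹ ∈ L k :=
      conj_le_of_le_normalizer (h.cov_norm k hk hk1) hiC hv
    have h2 := mul_mem h1 (inv_mem hv)
    rwa [show i * v * i⁻¹ * v⁻¹ = i * (v * i * v⁻¹)⁻¹ by group, hvi, inv_inv] at h2
  have hiw : i ∈ centralizer ({w} : Set G) := by
    have : i ∈ centralizer ({k} : Set G) ⊓ centralizer ({w} : Set G) :=
      hck ▸ mem_inf.2 ⟨oc_le u hi.1, hiC⟩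
    exact this.2
  have hmain := h.coprime k hk hk1 w hw hw1 r Fact.out hr2 i (mem_inf.2 ⟨hiL, hiw⟩) hik
    (hir.imp fun m e => by rw [e]; exact one_mem _)
  rw [hck] at hmain
  intro hd
  apply hmain
  have e1 : (oc u).map (MulAut.conj n).toMonoidHom = oc k := map_conj_eq
    (fun x hx => hnu ▸ conj_mem_oc hx) fun x hx => by
      have := conj_mem_oc (g := n⁻¹) hx
      rwa [inv_inv, show n⁻¹ * k * n = u by rw [← hnu]; group] at this
  have e2 : (ck u k).map (MulAut.conj n).toMonoidHom = ck u k := map_conj_eq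
    (fun x hx => (mem_normalizer_iff.1 hn x).1 hx) fun x hx => (mem_normalizer_iff''.1 hn x).1 hx
  have e3 : (centralizer ({u} : Set G)).map (MulAut.conj n).toMonoidHom = centralizer ({k} : Set G) :=
    map_conj_eq (fun x hx => mem_centralizer_singleton_iff.2 (by
      rw [← hnu]
      calc n * x * n⁻¹ * (n * u * n⁻¹) = n * (x * u) * n⁻¹ := by group
        _ = n * u * n⁻¹ * (n * x * n⁻¹) := by rw [mem_centralizer_singleton_iff.1 hx]; group))
      fun x hx => mem_centralizer_singleton_iff.2 (by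
        have hx' := mem_centralizer_singleton_iff.1 hx
        rw [← hnu] at hx'
        calc n⁻¹ * x * n * u = n⁻¹ * (x * (n * u * n⁻¹)) * n := by group
          _ = u * (n⁻¹ * x * n) := by rw [hx']; group)
  rw [← e3, ← e1]
  nth_rewrite 1 [← e2]
  rwa [← Subgroup.map_sup, relIndex_map_map_of_injective _ _ (MulAut.conj n).injective]

/-- Fixed points of an invariant Sylow subgroup of `O(C(u))` form a Sylow subgroup of the fixed points. -/
theorem not_dvd_fixed [Fact r.Prime] (R0 : Sylow r ↥(oc u))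
    (hR0 : (S : Subgroup G) ≤ normalizer (((R0 : Subgroup ↥(oc u)).map (oc u).subtype : Subgroup G) : Set G)) :
    ¬ r ∣ ((R0 : Subgroup ↥(oc u)).map (oc u).subtype ⊓ centralizer ({k} : Set G)).relIndex
      (oc u ⊓ centralizer ({k} : Set G)) := by
  set N := oc u ⊓ centralizer ({k} : Set G) with hN
  have hodd : Odd (Nat.card ↥N) := (odd_coreOf _).of_dvd_nat (card_dvd_of_le inf_le_left)
  have hSoc : (S : Subgroup G) ≤ normalizer (oc u : Set G) :=
    (S_le_cent h hu).trans (le_normalizer_coreOf _)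
  have hSN : (S : Subgroup G) ≤ normalizer (N : Set G) := fun s hs =>
    inf_normalizer_le_normalizer_inf (mem_inf.2 ⟨hSoc hs, le_normalizer (S_le_cent h hk hs)⟩)
  obtain ⟨T, hT⟩ := Coprime.exists_invariant_sylow r hSN
    ((h.card_S ▸ (show Nat.Coprime (2 ^ 3) _ from (Nat.coprime_two_left.2 hodd).pow_left 3)))
    (Or.inr (S0205.result hodd))
  set T' := (T : Subgroup ↥N).map N.subtype
  have hTN : T' ≤ N := map_subtype_le _
  have hoddU : Odd (Nat.card ↥(oc u)) := odd_coreOf _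
  obtain ⟨R1, hR1T, hR1⟩ := Coprime.exists_invariant_sylow_ge hSoc
    (h.card_S ▸ (show Nat.Coprime (2 ^ 3) _ from (Nat.coprime_two_left.2 hoddU).pow_left 3))
    (Or.inr (S0205.result hoddU)) (hTN.trans inf_le_left) (T.2.map _) hT
  obtain ⟨c, hc, hce⟩ := Coprime.exists_centralizer_conj_sylow hSoc
    (h.card_S ▸ (show Nat.Coprime (2 ^ 3) _ from (Nat.coprime_two_left.2 hoddU).pow_left 3))
    (Or.inr (S0205.result hoddU)) R1 R0 hR1 hR0
  refine not_dvd_relIndex_of_card (inf_le_inf_right _ (map_subtype_le _))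
    ((R0.2.map _).to_le inf_le_left) T ?_
  rw [← Subgroup.card_subtype N (T : Subgroup ↥N),
    ← Coprime.card_conj_smul (c : G) T']
  refine Subgroup.card_le_of_le ?_
  rw [← hce, Coprime.sylow_map_smul]
  refine le_inf (Subgroup.pointwise_smul_le_pointwise_smul_iff.2 hR1T) fun x hx => ?_
  rw [mem_conj] at hx
  have hck : (c : G) * k = k * c := (mem_centralizer_iff.1 hc k hk).symm
  have h1 := mem_centralizer_singleton_iff.1 (hTN hx).2
  refine mem_centralizer_singleton_iff.2 ?_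
  calc x * k = c * ((c : G)⁻¹ * x * c) * ((c : G)⁻¹ * k) := by group
    _ = c * ((c : G)⁻¹ * x * c) * (k * (c : G)⁻¹) := by
      rw [show (c : G)⁻¹ * k = k * (c : G)⁻¹ by
        rw [inv_mul_eq_iff_eq_mul, ← mul_assoc, hck, mul_inv_cancel_right]]
    _ = c * ((c : G)⁻¹ * x * c * k) * (c : G)⁻¹ := by group
    _ = c * k * ((c : G)⁻¹ * x) := by rw [h1]; group
    _ = k * x := by rw [hck]; group

/-- An invariant Sylow subgroup of `X` built on `C(⟨u, k⟩)`. -/
theorem exists_P [Fact r.Prime] (hr2 : r ≠ 2) {X R : Subgroup G} (hX : Covers S u X) (hc : CentralMod u X)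
    (hXR : X ≤ normalizer (R : Set G)) (hR : IsPGroup r ↥R) (hRO : R ≤ coreOf X)
    (hRs : ¬ r ∣ R.relIndex (coreOf X))
    (hidx : ¬ r ∣ (oc u ⊔ ck u k).relIndex (centralizer ({u} : Set G))) :
    ∃ P : Subgroup G, IsPGroup r ↥P ∧ R ≤ P ∧ P ≤ X ∧ (S : Subgroup G) ≤ normalizer (P : Set G) ∧
      ¬ r ∣ P.relIndex X ∧ ¬ r ∣ P.relIndex (X ⊓ coreOf (ck u k)) := by
  set D := coreOf (ck u k) with hD
  set M1 := R ⊔ (X ⊓ D) with hM1
  have hrp : r.Prime := Fact.out
  have hM1X : M1 ≤ X := sup_le (hRO.trans (coreOf_le X)) inf_le_left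
  have hodd : Odd (Nat.card ↥M1) := odd_sup ((odd_coreOf X).of_dvd_nat (card_dvd_of_le hRO))
    ((odd_coreOf _).of_dvd_nat (card_dvd_of_le inf_le_right)) (inf_le_left.trans hXR)
  have hSM : (S : Subgroup G) ≤ normalizer (M1 : Set G) := fun s hs => by
    have h1 : s ∈ normalizer ((X ⊓ D : Subgroup G) : Set G) := inf_normalizer_le_normalizer_inf
      (mem_inf.2 ⟨le_normalizer (hX.le hs), le_normalizer_coreOf _ (S_le_ck h hu hk hs)⟩)
    rw [← Coprime.conj_smul_eq_self_iff, hM1, Subgroup.smul_sup,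
      Coprime.conj_smul_eq_self_iff.2 (hXR (hX.le hs)), Coprime.conj_smul_eq_self_iff.2 h1]
  obtain ⟨T, hRT, hT⟩ := Coprime.exists_invariant_sylow_ge hSM
    (h.card_S ▸ (show Nat.Coprime (2 ^ 3) _ from (Nat.coprime_two_left.2 hodd).pow_left 3))
    (Or.inr (S0205.result hodd)) le_sup_left hR (hX.le.trans hXR)
  set P := (T : Subgroup ↥M1).map M1.subtype with hP
  have hPM : P ≤ M1 := map_subtype_le _
  have hPs : ¬ r ∣ P.relIndex M1 := by
    show ¬ r ∣ (P.subgroupOf M1).index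
    rw [show P.subgroupOf M1 = (T : Subgroup ↥M1) from
      comap_map_eq_self_of_injective M1.subtype_injective _]
    exact T.not_dvd_index
  have hA : M1 ≤ coreOf X ⊔ M1 := le_sup_right
  have hnorm : M1 ≤ normalizer (coreOf X : Set G) := hM1X.trans (le_normalizer_coreOf X)
  set A := coreOf X ⊔ M1 with hAdef
  set B := coreOf X ⊔ (X ⊓ ck u k) with hBdef
  have hAX : A ≤ X := sup_le (coreOf_le X) hM1X
  have hAB : A ≤ B := sup_le le_sup_left (sup_le (hRO.trans le_sup_left)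
    (inf_le_inf_left _ (coreOf_le _) |>.trans le_sup_right))
  have hBX : B ≤ X := sup_le (coreOf_le X) inf_le_left
  have h1 : ¬ r ∣ M1.relIndex A := by
    rw [← relIndex_eq_of_cover (H := M1) (le_sup_left : coreOf X ≤ A) fun c hc' => by
      obtain ⟨o, ho, m, hm, rfl⟩ := (Coprime.mem_sup_of_le_normalizer hnorm).1 hc'
      exact ⟨o, ho, by rwa [inv_mul_cancel_left]⟩]
    exact fun hd => hRs (hd.trans (relIndex_dvd_of_le_left _ le_sup_left))
  have h2 : ¬ r ∣ A.relIndex B := by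
    rw [← relIndex_eq_of_cover (H := A) (le_sup_right : X ⊓ ck u k ≤ B) fun c hc' => by
      obtain ⟨o, ho, x, hx, rfl⟩ := (Coprime.mem_sup_of_le_normalizer
        ((inf_le_left : X ⊓ ck u k ≤ X).trans (le_normalizer_coreOf X))).1 hc'
      refine ⟨x, hx, ?_⟩
      rw [← mul_assoc]
      have := conj_le_of_le_normalizer (le_normalizer_coreOf X) (inv_mem (mem_inf.1 hx).1) ho
      rw [inv_inv] at this
      exact mem_sup_left this]
    rw [← relIndex_eq_of_cover (H := A) (le_inf hX.le (S_le_ck h hu hk)) fun c hc' => by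
      obtain ⟨d, hd, s, hs, rfl⟩ := (Coprime.mem_sup_of_le_normalizer
        ((S_le_ck h hu hk).trans (le_normalizer_coreOf _))).1 (ck_le h hu hu1 hk hk1 hne (mem_inf.1 hc').2)
      refine ⟨s, hs, ?_⟩
      have h1' : s⁻¹ * (d * s) ∈ coreOf (ck u k) := by
        have := conj_le_of_le_normalizer (le_normalizer_coreOf _) (inv_mem (S_le_ck h hu hk hs)) hd
        rwa [inv_inv, mul_assoc] at this
      exact mem_sup_right (mem_sup_right (mem_inf.2
        ⟨mul_mem (inv_mem (hX.le hs)) (mem_inf.1 hc').1, h1'⟩))]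
    intro hd
    have h8 := hd.trans (relIndex_dvd_card _ _)
    rw [h.card_S, show (8 : ℕ) = 2 ^ 3 from rfl] at h8
    exact hr2 ((Nat.prime_dvd_prime_iff_eq hrp Nat.prime_two).1 (hrp.dvd_of_dvd_pow h8))
  have h3 : ¬ r ∣ B.relIndex X := by
    set M := X ⊓ centralizer ({u} : Set G) with hM
    rw [← relIndex_eq_of_cover (H := B) (inf_le_left : M ≤ X) fun c hc' => by
      obtain ⟨o, ho, m, hm, rfl⟩ := (Coprime.mem_sup_of_le_normalizer
        ((inf_le_left : M ≤ X).trans (le_normalizer_coreOf X))).1 (hc hc')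
      refine ⟨m, hm, ?_⟩
      rw [← mul_assoc]
      have := conj_le_of_le_normalizer (le_normalizer_coreOf X) (inv_mem (mem_inf.1 hm).1) ho
      rw [inv_inv] at this
      exact mem_sup_left this]
    refine fun hd => hidx ?_
    rw [← relIndex_eq_of_cover (H := oc u ⊔ ck u k) (inf_le_right : M ≤ centralizer ({u} : Set G)) fun c hc' => by
      obtain ⟨o, ho, m, hm, rfl⟩ := hX.exists_mul h hc'
      refine ⟨m, hm, ?_⟩
      rw [← mul_assoc]
      have := oc_conj_mem (inv_mem (mem_inf.1 hm).2) ho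
      rw [inv_inv] at this
      exact mem_sup_left this, ← inf_relIndex_right]
    refine hd.trans (relIndex_dvd_of_le_left _ fun x hx => ?_)
    obtain ⟨o, ho, g, hg, rfl⟩ := (Coprime.mem_sup_of_le_normalizer
      ((inf_le_left : ck u k ≤ centralizer ({u} : Set G)).trans (le_normalizer_coreOf _))).1 (mem_inf.1 hx).1
    obtain ⟨o', ho', x', hx', rfl⟩ := hX.lift_ck h hk hg
    have h4 : o * o' ∈ oc u ⊓ X := mem_inf.2 ⟨mul_mem ho (mem_inf.1 ho').1, by
      have := mul_mem (mem_inf.1 (mem_inf.1 hx).2).1 (inv_mem (mem_inf.1 hx').1)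
      rwa [← mul_assoc, mul_inv_cancel_right] at this⟩
    rw [← mul_assoc]
    exact mul_mem (mem_sup_left (hX.central_oc_le hc h4)) (mem_sup_right hx')
  refine ⟨P, T.2.map _, hRT, hPM.trans hM1X, hT, ?_, ?_⟩
  · rw [← relIndex_mul_relIndex P M1 X hPM hM1X, ← relIndex_mul_relIndex M1 A X le_sup_right hAX,
      ← relIndex_mul_relIndex A B X hAB hBX]
    exact hrp.not_dvd_mul hPs (hrp.not_dvd_mul h1 (hrp.not_dvd_mul h2 h3))
  · rw [relIndex_eq_of_cover (H := P) (le_sup_right : X ⊓ D ≤ M1) fun c hc' => by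
      obtain ⟨a, ha, d, hd, rfl⟩ := (Coprime.mem_sup_of_le_normalizer
        ((inf_le_left : X ⊓ D ≤ X).trans hXR)).1 hc'
      refine ⟨d, hd, ?_⟩
      rw [← mul_assoc]
      have := conj_le_of_le_normalizer hXR (inv_mem (mem_inf.1 hd).1) ha
      rw [inv_inv] at this
      exact hRT this]
    exact hPs

omit hk hk1 hne in
/-- `Z(J(P))` normalizer covers when the component does not centralise `R`. -/
theorem covers_zj [IsSimpleGroup G] [Fact r.Prime] (hr2 : r ≠ 2) {X R P : Subgroup G} (hX : Covers S u X)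
    (hXR : X ≤ normalizer (R : Set G)) (hR : IsPGroup r ↥R) (hRO : R ≤ coreOf X)
    (hRs : ¬ r ∣ R.relIndex (coreOf X)) (hP : IsPGroup r ↥P) (hPX : P ≤ X) (hPne : P ≠ ⊥)
    (hSP : (S : Subgroup G) ≤ normalizer (P : Set G)) (hPs : ¬ r ∣ P.relIndex X)
    {K : Subgroup (↥X ⧸ Cfsg.oddCore ↥X)} (hK : Cfsg.IsComponent K)
    (hcK : centralizer (K : Set (↥X ⧸ Cfsg.oddCore ↥X)) ≤
      zpowers (QuotientGroup.mk' (Cfsg.oddCore ↥X) ⟨u, hX.le hX.mem⟩))
    {y s : G} (hy : y ∈ R ⊓ centralizer ({u} : Set G)) (hs : s ∈ (S : Subgroup G)) (hys : y * s ≠ s * y) :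
    Covers S u (normalizer (Cfsg.centerThompsonOf r P : Set G)) := by
  classical
  haveI : Fact (Nat.Prime 2) := ⟨Nat.prime_two⟩
  have hrp : r.Prime := Fact.out
  set O := Cfsg.oddCore ↥X with hO
  set f := QuotientGroup.mk' O with hf
  set ux : ↥X := ⟨u, hX.le hX.mem⟩ with hux
  set Rx := R.subgroupOf X with hRx
  haveI : Rx.Normal := normal_subgroupOf_of_le_normalizer hXR
  set M := centralizer (Rx : Set ↥X) with hM
  haveI : M.Normal := inferInstance
  have hcore : ∀ x : ↥X, x ∈ O ↔ (x : G) ∈ coreOf X := fun x =>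
    ⟨fun hx => ⟨x, hx, rfl⟩, fun ⟨z, hz, e⟩ => Subtype.ext (p := fun g => g ∈ X) e ▸ hz⟩
  have hZu : ∀ q ∈ zpowers (f ux), q = 1 ∨ q = f ux := fun q hq => by
    obtain ⟨i, rfl⟩ := mem_zpowers_iff.1 hq
    have h2 : f ux * f ux = 1 := by
      rw [← map_mul, show ux * ux = 1 from Subtype.ext (h.sq u hX.mem), map_one]
    rcases Int.even_or_odd i with ⟨m, rfl⟩ | ⟨m, rfl⟩
    · left; rw [← two_mul, zpow_mul]; simp [pow_two, h2]
    · right; rw [zpow_add, zpow_mul]; simp [pow_two, h2]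
  have hMC : M.map f ≤ zpowers (f ux) := by
    haveI : (M.map f).Normal := Subgroup.Normal.map inferInstance f (QuotientGroup.mk'_surjective O)
    refine le_trans ?_ hcK
    rcases Components.Basic.component_le_or_commutator_eq_bot hK
      (show (M.map f).Normal from inferInstance).isSubnormal with hle | hcomm
    swap
    · exact le_centralizer_iff.1 (commutator_eq_bot_iff_le_centralizer.1 hcomm)
    exfalso
    apply hys
    set Sx := S.subtype hX.le
    have hab : AbTwo (↥X ⧸ O) := (h.abTwo.subgroup X).map (QuotientGroup.mk'_surjective O)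
    obtain ⟨w, hw, c, hc, e⟩ := exists_split hab (Agent.Cores.pPrimeCore_quotient_self 2)
      (Sx.mapSurjective (QuotientGroup.mk'_surjective O)) hK
      (s := f ⟨s, hX.le hs⟩) (by
        rw [Sylow.coe_mapSurjective, Sylow.coe_subtype]
        exact mem_map_of_mem f (mem_subgroupOf.2 hs))
    obtain ⟨s0, hs0, rfl⟩ : w ∈ ((S : Subgroup G).subgroupOf X).map f := by
      have := hw.1
      rwa [SetLike.mem_coe, Sylow.coe_mapSurjective, Sylow.coe_subtype] at this
    have hs0' : (s0 : G) ∈ (S : Subgroup G) := mem_subgroupOf.1 hs0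
    obtain ⟨z, hz, hze⟩ := hle hw.2
    set o : ↥X := z⁻¹ * s0 with ho
    have hoO : o ∈ O := (QuotientGroup.eq_one_iff o).1 (by
      show f o = 1
      rw [ho, map_mul, map_inv, hze, inv_mul_cancel])
    have hoM : o ∈ M := by
      refine mem_of_sq (odd_orderOf_of_mem Agent.Cores.oddCore_odd hoO) (mem_centralizer_iff.2 fun a ha => ?_)
      have hs0a : s0 * a * s0⁻¹ ∈ Rx := (inferInstance : Rx.Normal).conj_mem a ha s0
      have hact : ∀ b ∈ Rx, o * b * o⁻¹ = s0 * b * s0⁻¹ := fun b hb => by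
        have h1 : (s0 * b * s0⁻¹) * z = z * (s0 * b * s0⁻¹) :=
          mem_centralizer_iff.1 hz _ ((inferInstance : Rx.Normal).conj_mem b hb s0)
        calc o * b * o⁻¹ = z⁻¹ * ((s0 * b * s0⁻¹) * z) := by rw [ho]; group
          _ = s0 * b * s0⁻¹ := by rw [h1, inv_mul_cancel_left]
      have h2 : o * o * a * (o * o)⁻¹ = a := by
        rw [show o * o * a * (o * o)⁻¹ = o * (o * a * o⁻¹) * o⁻¹ by group, hact a ha, hact _ hs0a]
        have hss : s0 * s0 = 1 := Subtype.ext (h.sq _ hs0')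
        calc s0 * (s0 * a * s0⁻¹) * s0⁻¹ = s0 * s0 * a * (s0 * s0)⁻¹ := by group
          _ = a := by rw [hss]; group
      exact (mul_inv_eq_iff_eq_mul.1 h2).symm
    have hs0M : s0 ∈ M := by
      have := mul_mem hz hoM
      rwa [ho, mul_inv_cancel_left] at this
    set yx : ↥X := ⟨y, (hRO.trans (coreOf_le X)) hy.1⟩
    have hy0 : Commute y (s0 : G) :=
      congrArg Subtype.val (mem_centralizer_iff.1 hs0M yx (mem_subgroupOf.2 hy.1))
    have hinj : ∀ t : ↥X, (t : G) ∈ (S : Subgroup G) → f t = 1 → (t : G) = 1 := fun t ht e => by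
      have h1 : Odd (orderOf t) :=
        odd_orderOf_of_mem (X := O) Agent.Cores.oddCore_odd ((QuotientGroup.eq_one_iff _).1 e)
      rw [← Subgroup.orderOf_coe] at h1
      exact mem_bot.1 (mem_of_sq (K := (⊥ : Subgroup G)) h1 (by rw [h.sq _ ht]; exact one_mem _))
    rcases hZu c (hcK hc.2) with rfl | rfl
    · have h1 : ((s0⁻¹ * ⟨s, hX.le hs⟩ : ↥X) : G) = 1 :=
        hinj _ (mul_mem (inv_mem hs0') hs) (by rw [map_mul, map_inv, ← e, mul_one, inv_mul_cancel])
      have : (s0 : G) = s := inv_mul_eq_one.1 h1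
      exact this ▸ hy0.eq
    · have h1 : (((s0 * ux)⁻¹ * ⟨s, hX.le hs⟩ : ↥X) : G) = 1 :=
        hinj _ (mul_mem (inv_mem (mul_mem hs0' hX.mem)) hs) (by rw [map_mul, map_inv, map_mul, ← e, inv_mul_cancel])
      have : (s0 : G) * u = s := inv_mul_eq_one.1 h1
      exact this ▸ (hy0.mul_right (mem_centralizer_singleton_iff.1 hy.2)).eq
  have hfM : ∀ x ∈ M, x ∈ O ∨ x * ux ∈ O := fun x hx => by
    rcases hZu _ (hMC (mem_map_of_mem f hx)) with e | e
    · exact Or.inl ((QuotientGroup.eq_one_iff x).1 e)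
    · refine Or.inr ((QuotientGroup.eq_one_iff _).1 ?_)
      show f (x * ux) = 1
      rw [map_mul, e, ← map_mul, show ux * ux = 1 from Subtype.ext (h.sq u hX.mem), map_one]
  have hRxp : IsPGroup r ↥Rx := hR.comap_subtype
  have hRxO : Rx ≤ O := fun a ha => (hcore a).2 (hRO ha)
  have hRxs : ¬ r ∣ Rx.relIndex O := by
    have he : Rx.relIndex O = R.relIndex (coreOf X) := by
      rw [← relIndex_map_map_of_injective Rx O X.subtype_injective,
        map_subgroupOf_eq_of_le (hRO.trans (coreOf_le X))]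
      rfl
    rwa [he]
  have hall : ∀ T : Subgroup ↥X, T ≤ M → IsPGroup r ↥T → T ≤ Rx := by
    intro T hTM hTp
    have hTO : T ≤ O := fun t ht => by
      obtain ⟨n, hn⟩ := IsPGroup.iff_orderOf.1 hTp ⟨t, ht⟩
      rw [Subgroup.orderOf_mk] at hn
      have h2 : orderOf (f t) ∣ 2 := by
        rcases hZu _ (hMC (mem_map_of_mem f (hTM ht))) with e | e
        · rw [e, orderOf_one]; exact one_dvd _
        · rw [e]
          exact (orderOf_map_dvd f ux).trans (orderOf_dvd_of_pow_eq_one (by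
            rw [pow_two]; exact Subtype.ext (h.sq u hX.mem)))
      have h3 : orderOf (f t) ∣ r ^ n := hn ▸ orderOf_map_dvd f t
      exact (QuotientGroup.eq_one_iff t).1 (orderOf_eq_one_iff.1 (Nat.eq_one_of_dvd_coprimes
        (((Nat.coprime_primes hrp Nat.prime_two).2 hr2).pow_left n) h3 h2))
    have hsup : IsPGroup r ↥(T ⊔ Rx) := hTp.to_sup_of_normal_right' hRxp le_normalizer_of_normal
    have h1 : Rx.relIndex (T ⊔ Rx) = 1 := by
      obtain ⟨n, hn⟩ := hsup.exists_card_eq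
      have hd1 : Rx.relIndex (T ⊔ Rx) ∣ r ^ n := hn ▸ relIndex_dvd_card _ _
      have hd2 : Rx.relIndex (T ⊔ Rx) ∣ Rx.relIndex O := by
        rw [← relIndex_mul_relIndex Rx (T ⊔ Rx) O le_sup_right (sup_le hTO hRxO)]
        exact dvd_mul_right _ _
      exact Nat.eq_one_of_dvd_coprimes ((hrp.coprime_iff_not_dvd.2 hRxs).pow_left n) hd1 hd2
    exact le_sup_left.trans (relIndex_eq_one.1 h1)
  set N0 := Cfsg.pPrimeCore r ↥X with hN0
  have hMN : M ≤ Rx ⊔ N0 := le_sup_pPrimeCore M Rx le_rfl hall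
  have hdisj : ∀ x ∈ Rx, x ∈ N0 → x = 1 := fun x hx hx' => by
    obtain ⟨n, hn⟩ := IsPGroup.iff_orderOf.1 hRxp ⟨x, hx⟩
    rw [Subgroup.orderOf_mk] at hn
    refine orderOf_eq_one_iff.1 (Nat.eq_one_of_dvd_coprimes (k := orderOf x)
      ((Agent.Cores.pPrimeCore_card_coprime r).pow_right n) (Subgroup.orderOf_dvd_natCard _ hx') (hn ▸ dvd_rfl))
  have hN0M : N0 ≤ M := fun x hx => mem_centralizer_iff.2 fun a ha => by
    have h1 : a * x * a⁻¹ * x⁻¹ = 1 := hdisj _ (by
        rw [show a * x * a⁻¹ * x⁻¹ = a * (x * a⁻¹ * x⁻¹) by group]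
        exact mul_mem ha ((inferInstance : Rx.Normal).conj_mem _ (inv_mem ha) x))
      (mul_mem ((inferInstance : N0.Normal).conj_mem x hx a) (inv_mem hx))
    exact mul_inv_eq_iff_eq_mul.1 (mul_inv_eq_one.1 h1)
  set g := QuotientGroup.mk' N0 with hg
  have hc : centralizer (Cfsg.pCore r (↥X ⧸ N0) : Set (↥X ⧸ N0)) ≤ Cfsg.pCore r (↥X ⧸ N0) := by
    haveI : (Rx.map g).Normal := Subgroup.Normal.map inferInstance g (QuotientGroup.mk'_surjective N0)
    have hle : Rx.map g ≤ Cfsg.pCore r (↥X ⧸ N0) := Agent.Cores.le_pCore (hRxp.map g)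
    intro q hq
    obtain ⟨x, rfl⟩ := QuotientGroup.mk'_surjective N0 q
    have hxM : x ∈ M := mem_centralizer_iff.2 fun a ha => by
      have h1 : a * x * a⁻¹ * x⁻¹ = 1 := hdisj _ (by
          rw [show a * x * a⁻¹ * x⁻¹ = a * (x * a⁻¹ * x⁻¹) by group]
          exact mul_mem ha ((inferInstance : Rx.Normal).conj_mem _ (inv_mem ha) x)) (by
          refine (QuotientGroup.eq_one_iff _).1 ?_
          show g (a * x * a⁻¹ * x⁻¹) = 1
          rw [map_mul, map_mul, map_mul, map_inv, map_inv,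
            mem_centralizer_iff.1 hq (g a) (hle (mem_map_of_mem g ha)), mul_inv_cancel_right, mul_inv_cancel])
      exact mul_inv_eq_iff_eq_mul.1 (mul_inv_eq_one.1 h1)
    obtain ⟨a, ha, b, hb, rfl⟩ := mem_sup_of_normal_right.1 (hMN hxM)
    rw [map_mul, show g b = 1 from (QuotientGroup.eq_one_iff b).2 hb, mul_one]
    exact hle (mem_map_of_mem g ha)
  have hPidx : ¬ r ∣ (P.subgroupOf X).index := hPs
  set Ts : Sylow r ↥X := (hP.comap_subtype (K := X)).toSylow hPidx with hTs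
  have htop := zj_frattini_of_constrained hr2
    (fun T => Walter.isMulCommutative_sylow (h.abTwo.subgroup X) T) hc Ts
  have hTmap : (Ts : Subgroup ↥X).map X.subtype = P := map_subgroupOf_eq_of_le hPX
  set Z := Cfsg.centerThompsonOf r P with hZ
  have hmapZ : (Cfsg.centerThompsonOf r (Ts : Subgroup ↥X)).map X.subtype = Z := by
    rw [hZ, ← hTmap]
    show (PLocal.ThompsonComplement.Z _).map _ = PLocal.ThompsonComplement.Z _
    rw [PLocal.ThompsonComplement.map_Z X.subtype_injective.injOn,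
      PLocal.ThompsonComplement.map_J X.subtype_injective.injOn]
  have hSZ : (S : Subgroup G) ≤ normalizer (Z : Set G) := hSP.trans (normalizer_le_zj (p := r) P)
  have hZodd : Odd (Nat.card ↥Z) := by
    obtain ⟨n, hn⟩ := (hP.to_le (zj_le (p := r) P)).exists_card_eq
    rw [hn]
    exact (hrp.odd_of_ne_two hr2).pow
  refine ⟨hX.mem, hX.ne, hSZ, normalizer_ne_top h (zj_ne_bot hP hPne) hZodd,
    hX.cover.trans (sup_le le_sup_left fun x hx => ?_)⟩
  obtain ⟨a, ha, b, hb, hab⟩ := mem_sup_of_normal_left.1 (htop.ge (mem_top (⟨x, hx.1⟩ : ↥X)))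
  have hbZ : (b : G) ∈ normalizer (Z : Set G) := by
    refine mem_normalizer_of_conj_le fun z hz => ?_
    rw [← hmapZ] at hz ⊢
    obtain ⟨z', hz', rfl⟩ := hz
    exact ⟨_, (mem_normalizer_iff.1 hb z').1 hz', rfl⟩
  obtain ⟨o, ho, m, hm, hmX, hom⟩ : ∃ o ∈ coreOf X, ∃ m ∈ normalizer (Z : Set G), m ∈ X ∧ o * m = x := by
    rcases hfM a (hN0M ha) with h1 | h1
    · exact ⟨a, (hcore a).1 h1, b, hbZ, b.2, congrArg Subtype.val hab⟩
    · refine ⟨((a * ux : ↥X) : G), (hcore _).1 h1, u * b, mul_mem (hSZ hX.mem) hbZ,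
        mul_mem (hX.le hX.mem) b.2, ?_⟩
      show (a : G) * u * (u * b) = x
      have hab' : (a : G) * b = x := congrArg Subtype.val hab
      rw [← hab']
      rw [mul_assoc, ← mul_assoc u u, h.sq u hX.mem, one_mul]
  have hxu : x * u = u * x := mem_centralizer_singleton_iff.1 hx.2
  have huu : u⁻¹ = u := inv_S h hX.mem
  have hW : m⁻¹ * u * m * u ∈ coreOf X ⊓ normalizer (Z : Set G) := by
    refine mem_inf.2 ⟨?_, mul_mem (mul_mem (mul_mem (inv_mem hm) (hSZ hX.mem)) hm) (hSZ hX.mem)⟩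
    have h1 : o * (u * o⁻¹ * u⁻¹) ∈ coreOf X :=
      mul_mem ho (conj_le_of_le_normalizer (le_normalizer_coreOf X) (hX.le hX.mem) (inv_mem ho))
    have h2 := conj_le_of_le_normalizer (le_normalizer_coreOf X) (inv_mem hx.1) h1
    convert h2 using 1
    have hm' : m = o⁻¹ * x := by rw [← hom, inv_mul_cancel_left]
    rw [hm', huu]
    calc (o⁻¹ * x)⁻¹ * u * (o⁻¹ * x) * u = x⁻¹ * (o * u * o⁻¹) * (x * u) := by group
      _ = x⁻¹ * (o * u * o⁻¹) * (u * x) := by rw [hxu]
      _ = x⁻¹ * (o * (u * o⁻¹ * u)) * x⁻¹⁻¹ := by group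
  obtain ⟨c, hc', hcu⟩ := SECore.exists_fixed_coset (h.sq u hX.mem) (W := coreOf X ⊓ normalizer (Z : Set G))
    (inf_normalizer_le_normalizer_inf
      (mem_inf.2 ⟨le_normalizer_coreOf X (hX.le hX.mem), le_normalizer (hSZ hX.mem)⟩))
    ((odd_coreOf X).of_dvd_nat (card_dvd_of_le inf_le_left)) hW
  have hmc : m * c ∈ centralizer ({u} : Set G) := mem_centralizer_singleton_iff.2 hcu
  have h1 : x * (m * c)⁻¹ ∈ coreOf X := by
    rw [← hom, show o * m * (m * c)⁻¹ = o * (m * c⁻¹ * m⁻¹) by group]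
    exact mul_mem ho (conj_le_of_le_normalizer (le_normalizer_coreOf X) hmX (inv_mem (mem_inf.1 hc').1))
  have h2 : x * (m * c)⁻¹ ∈ oc u :=
    hX.core_inf_le (mem_inf.2 ⟨h1, mul_mem (mem_inf.1 hx).2 (inv_mem hmc)⟩)
  have := mul_mem (mem_sup_left (T := normalizer (Z : Set G) ⊓ centralizer ({u} : Set G)) h2)
    (mem_sup_right (mem_inf.2 ⟨mul_mem hm (mem_inf.1 hc').2, hmc⟩))
  rwa [inv_mul_cancel_right] at this

/-- The inverted part of one prime lies in the core at `k`. -/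
theorem comm_mem_oc [IsSimpleGroup G] [Fact r.Prime] (hr2 : r ≠ 2) (R0 : Sylow r ↥(oc u))
    (hR0 : (S : Subgroup G) ≤ normalizer (((R0 : Subgroup ↥(oc u)).map (oc u).subtype : Subgroup G) : Set G))
    {y s : G} (hy : y ∈ (R0 : Subgroup ↥(oc u)).map (oc u).subtype ⊓ centralizer ({k} : Set G))
    (hs : s ∈ (S : Subgroup G)) : y * s * y⁻¹ * s⁻¹ ∈ oc k := by
  classical
  have hrp : r.Prime := Fact.out
  set R00 := (R0 : Subgroup ↥(oc u)).map (oc u).subtype with hR00
  set T := R00 ⊓ centralizer ({k} : Set G) with hT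
  have hTN : T ≤ oc u ⊓ centralizer ({k} : Set G) := inf_le_inf_right _ (map_subtype_le _)
  have hTp : IsPGroup r ↥T := (R0.2.map _).to_le inf_le_left
  have hsT : s ∈ normalizer (T : Set G) :=
    inf_normalizer_le_normalizer_inf (mem_inf.2 ⟨hR0 hs, le_normalizer (S_le_cent h hk hs)⟩)
  obtain ⟨c, hcT, i, hiT, hsc, hsi, hci⟩ := exists_fixed_mul_inverted
    ((odd_coreOf _).of_dvd_nat (card_dvd_of_le (hTN.trans inf_le_left))) (h.sq s hs) hsT hy
  by_cases hik : i ∈ oc k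
  · rw [← hci, show c * i * s * (c * i)⁻¹ * s⁻¹ = c * i * (s * i * s⁻¹)⁻¹ * (s * c * s⁻¹)⁻¹ by group,
      hsi, hsc, inv_inv, mul_assoc c i i]
    exact oc_conj_mem (mem_inf.1 hcT).2 (mul_mem hik hik)
  by_cases hys : y * s = s * y
  · rw [hys, mul_inv_cancel_right, mul_inv_cancel]
    exact one_mem _
  have hR0ne : R00 ≠ ⊥ := fun e => hys (by
    rw [show y = 1 from mem_bot.1 (e ▸ (mem_inf.1 hy).1), one_mul, mul_one])
  obtain ⟨m, hm⟩ := IsPGroup.iff_orderOf.1 hTp ⟨i, hiT⟩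
  rw [Subgroup.orderOf_mk] at hm
  have hidx := not_dvd_index h hu hu1 hk hk1 hne hr2 (hTN hiT) hs hsi ⟨m, hm ▸ pow_orderOf_eq_one i⟩ hik
  set Fam : Set (Subgroup G) := {R | IsPGroup r ↥R ∧ R00 ≤ R ∧ Covers S u (normalizer (R : Set G))} with hFam
  have hmem : R00 ∈ Fam := by
    refine ⟨R0.2.map _, le_rfl, ?_⟩
    exact covers_normalizer h hu hu1 (odd_coreOf _) (le_normalizer_coreOf _ (S_le_cent h hu hu)) R0 hR0 hR0ne
      (le_normalizer_coreOf (centralizer ({u} : Set G))) (by rw [inf_idem]; exact le_sup_right) inf_le_left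
  obtain ⟨R, hR, hmax⟩ := Finset.exists_max_image (Set.toFinite Fam).toFinset (fun R => Nat.card ↥R)
    ⟨R00, (Set.toFinite Fam).mem_toFinset.2 hmem⟩
  obtain ⟨hRp, hR0R, hX⟩ := (Set.toFinite Fam).mem_toFinset.1 hR
  set X := normalizer (R : Set G) with hXdef
  have hyR : y ∈ R := hR0R (mem_inf.1 hy).1
  have hyu : y ∈ centralizer ({u} : Set G) := oc_le u (mem_inf.1 (hTN hy)).1
  have hyC : y * s * y⁻¹ * s⁻¹ ∈ centralizer ({k} : Set G) :=
    mul_mem (mul_mem (mul_mem (mem_inf.1 hy).2 (S_le_cent h hk hs)) (inv_mem (mem_inf.1 hy).2))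
      (inv_mem (S_le_cent h hk hs))
  have hjtype : ∀ Y : Subgroup G, Covers S u Y → STrans S Y → y ∈ Y → y * s * y⁻¹ * s⁻¹ ∈ oc k :=
    fun Y hY hT' hyY => (hY.of_trans hT' hk hk1).core_inf_le
      (mem_inf.2 ⟨hY.comm_mem h (mem_inf.2 ⟨(mem_inf.1 (hTN hy)).1, hyY⟩) hs, hyC⟩)
  obtain ⟨K, hK, -, -, ⟨-, htr⟩ | ⟨hcent, hcK⟩⟩ := hX.comp_quot h
  · exact hjtype X hX htr (le_normalizer hyR)
  have hRodd : Odd (Nat.card ↥R) := by
    obtain ⟨n, hn⟩ := hRp.exists_card_eq
    rw [hn]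
    exact (hrp.odd_of_ne_two hr2).pow
  have hRO : R ≤ coreOf X := le_coreOf le_normalizer le_rfl hRodd
  have hfam : ∀ Y : Subgroup G, Covers S u Y → R ≤ coreOf Y → ¬ r ∣ R.relIndex (coreOf Y) := by
    intro Y hY hRY
    have hodd := odd_coreOf Y
    obtain ⟨Q, hRQ, hQ⟩ := Coprime.exists_invariant_sylow_ge (hY.le.trans (le_normalizer_coreOf Y))
      (coprime_S h hodd) (Or.inr (S0205.result hodd)) hRY hRp hX.le
    set Q' := (Q : Subgroup ↥(coreOf Y)).map (coreOf Y).subtype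
    have hQne : Q' ≠ ⊥ := fun e => hR0ne (le_bot_iff.1 (e ▸ hR0R.trans hRQ))
    have hQfam : Q' ∈ Fam := ⟨Q.2.map _, hR0R.trans hRQ, covers_normalizer h hu hu1 hodd
      (le_normalizer_coreOf Y (hY.le hu)) Q hQ hQne (le_normalizer_coreOf Y) hY.cover hY.core_inf_le⟩
    have he : R = Q' := eq_of_le_of_card_ge hRQ (hmax Q' ((Set.toFinite Fam).mem_toFinset.2 hQfam))
    rw [he]
    show ¬ r ∣ (Q'.subgroupOf (coreOf Y)).index
    rw [show Q'.subgroupOf (coreOf Y) = (Q : Subgroup ↥(coreOf Y)) from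
      comap_map_eq_self_of_injective (coreOf Y).subtype_injective _]
    exact Q.not_dvd_index
  have hRs := hfam X hX hRO
  obtain ⟨P, hPp, hRP, hPX, hSP, hPs, hPD⟩ := exists_P h hu hu1 hk hk1 hne hr2 hX hcent le_rfl hRp hRO hRs hidx
  have hPne : P ≠ ⊥ := fun e => hR0ne (le_bot_iff.1 (e ▸ hR0R.trans hRP))
  have hYc := covers_zj h hu hu1 hr2 hX le_rfl hRp hRO hRs hPp hPX hPne hSP hPs hK hcK
    (mem_inf.2 ⟨hyR, hyu⟩) hs hys
  set Y := normalizer (Cfsg.centerThompsonOf r P : Set G) with hY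
  have hPY : P ≤ Y := le_normalizer.trans (normalizer_le_zj (p := r) P)
  rcases hYc.dicho h with hcY | htY
  swap
  · exact hjtype Y hYc htY (hPY (hRP hyR))
  -- `R` lies in the core of `Y`
  have hRY : R ≤ coreOf Y := by
    intro a ha
    obtain ⟨c', hc', i', hi', hcc, hii, rfl⟩ := exists_fixed_mul_inverted hRodd (h.sq u hu) (hX.le hu) ha
    have hc'u : c' ∈ centralizer ({u} : Set G) := mem_centralizer_singleton_iff.2
      (mul_inv_eq_iff_eq_mul.1 hcc).symm
    have h1 : c' ∈ coreOf Y := hYc.central_oc_le hcY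
      (mem_inf.2 ⟨hX.core_inf_le (mem_inf.2 ⟨hRO hc', hc'u⟩), hPY (hRP hc')⟩)
    refine mul_mem h1 (mem_of_sq (odd_orderOf_of_mem hRodd hi') ?_)
    have hiY := hPY (hRP hi')
    obtain ⟨o, ho, x, hx, rfl⟩ := (Coprime.mem_sup_of_le_normalizer
      ((inf_le_left : Y ⊓ centralizer ({u} : Set G) ≤ Y).trans (le_normalizer_coreOf Y))).1 (hcY hiY)
    have h2 : o * (u * o⁻¹ * u⁻¹) ∈ coreOf Y :=
      mul_mem ho (conj_le_of_le_normalizer (le_normalizer_coreOf Y) (hYc.le hu) (inv_mem ho))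
    rw [show o * x * (o * x) = o * x * (u * (o * x) * u⁻¹)⁻¹ by rw [hii, inv_inv]]
    have hxu := mem_centralizer_singleton_iff.1 hx.2
    rw [show o * x * (u * (o * x) * u⁻¹)⁻¹ = o * (x * u * x⁻¹) * o⁻¹ * u⁻¹ by group, hxu,
      mul_inv_cancel_right, show o * u * o⁻¹ * u⁻¹ = o * (u * o⁻¹ * u⁻¹) by group]
    exact h2
  have hRYs := hfam Y hYc hRY
  -- `P` is a Sylow subgroup of `G`
  have hPYs : ¬ r ∣ P.relIndex Y := by
    intro hd
    have eX := hX.card_eq h hcent
    have eY := hYc.card_eq h hcY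
    have hcard : ∀ {A B : Subgroup G}, A ≤ B → Nat.card ↥B = Nat.card ↥A * A.relIndex B := fun {A B} hAB => by
      rw [← relIndex_bot_left (H := B), ← relIndex_bot_left (H := A), relIndex_mul_relIndex ⊥ A B bot_le hAB]
    rw [hcard hPX, hcard hRO] at eX
    rw [hcard hPY, hcard hRY] at eY
    have he : P.relIndex Y * R.relIndex (coreOf X) = P.relIndex X * R.relIndex (coreOf Y) :=
      Nat.eq_of_mul_eq_mul_left (Nat.card_pos (α := ↥P)) (by rw [← mul_assoc, eY, ← mul_assoc, eX]; ring)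
    exact hrp.not_dvd_mul hPs hRYs (he ▸ dvd_mul_of_dvd_left hd _)
  have hPG : ¬ r ∣ P.index := by
    intro hd
    obtain ⟨n, hn⟩ := hPp.exists_card_eq
    have hdvd : r ^ (n + 1) ∣ Nat.card G := by
      rw [← P.card_mul_index, hn, pow_succ]
      exact Nat.mul_dvd_mul_left _ hd
    have h2 := Sylow.prime_dvd_card_quotient_normalizer hdvd hn
    rw [← Subgroup.index_eq_card] at h2
    refine hPYs (h2.trans ?_)
    rw [← relIndex_mul_relIndex P (normalizer (P : Set G)) Y le_normalizer (normalizer_le_zj (p := r) P)]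
    exact dvd_mul_right _ _
  set Ps : Sylow r G := hPp.toSylow hPG
  have hPsc : (Ps : Subgroup G) = P := rfl
  -- a Sylow subgroup of the core of `C(⟨u, k⟩)`
  set D := coreOf (ck u k) with hD
  set RK := P ⊓ D with hRK
  have hRKs : ¬ r ∣ RK.relIndex D := by
    rw [← relIndex_mul_relIndex RK (X ⊓ D) D (inf_le_inf_right _ hPX) inf_le_right]
    refine hrp.not_dvd_mul ?_ ?_
    · rwa [show RK = P ⊓ (X ⊓ D) by rw [hRK, ← inf_assoc, inf_eq_left.2 hPX], inf_relIndex_right]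
    · have hND : oc u ⊓ centralizer ({k} : Set G) ≤ D := oc_inf_le_core h u k
      rw [← relIndex_eq_of_cover (H := X ⊓ D) hND fun c' hc' => by
        obtain ⟨o, ho, x, hx, rfl⟩ := hX.lift_ck h hk (coreOf_le _ hc')
        have : x ∈ D := by
          have := mul_mem (inv_mem (hND ho)) hc'
          rwa [inv_mul_cancel_left] at this
        exact ⟨o, ho, by rw [inv_mul_cancel_left]; exact mem_inf.2 ⟨(mem_inf.1 hx).1, this⟩⟩]
      refine fun hd => not_dvd_fixed h hu hu1 hk hk1 hne R0 hR0 (hd.trans (relIndex_dvd_of_le_left _ ?_))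
      exact le_inf ((inf_le_left.trans hR0R).trans le_normalizer) (hTN.trans hND)
  have hyA : y ∈ RK ⊓ oc u :=
    mem_inf.2 ⟨mem_inf.2 ⟨hRP hyR, oc_inf_le_core h u k (hTN hy)⟩, (mem_inf.1 (hTN hy)).1⟩
  obtain ⟨n, hnS, hnck, hnu⟩ := exists_tau h hu hu1 hk hk1 hne
  have hSck : (S : Subgroup G) ≤ normalizer (D : Set G) := (S_le_ck h hu hk).trans (le_normalizer_coreOf _)
  have hSRK : (S : Subgroup G) ≤ normalizer (RK : Set G) := fun t ht =>
    inf_normalizer_le_normalizer_inf (mem_inf.2 ⟨hSP ht, hSck ht⟩)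
  have hnD : n ∈ normalizer (D : Set G) := by
    have h1 : MulAut.conj n • D ≤ D := by
      refine le_coreOf (fun z hz => ?_) (fun g hg => mem_normalizer_of_conj_le fun z hz => ?_) ?_
      · rw [← Coprime.conj_smul_eq_self_iff.2 hnck]
        exact Subgroup.pointwise_smul_le_pointwise_smul_iff.2 (coreOf_le _) hz
      · rw [mem_conj] at hz ⊢
        have := conj_le_of_le_normalizer (le_normalizer_coreOf _)
          ((mem_normalizer_iff''.1 hnck g).1 hg) hz
        convert this using 1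
        group
      · rw [Coprime.card_conj_smul]
        exact odd_coreOf _
    exact Coprime.conj_smul_eq_self_iff.1
      (eq_of_le_of_card_ge h1 (Coprime.card_conj_smul n D).ge)
  have hRKidx : ¬ r ∣ (RK.subgroupOf D).index := hRKs
  set PD : Sylow r ↥D := ((hPp.to_le inf_le_left).comap_subtype (K := D)).toSylow hRKidx
  have hPDm : (PD : Subgroup ↥D).map D.subtype = RK := map_subgroupOf_eq_of_le inf_le_right
  have hcardn : Nat.card ↥(MulAut.conj n • RK) = Nat.card ↥(PD : Subgroup ↥D) := by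
    rw [Coprime.card_conj_smul, ← hPDm, Subgroup.card_subtype]
  obtain ⟨d, hd, hde⟩ := Coprime.exists_conj_sylow_map (H := MulAut.conj n • RK) (K := D)
    (le_trans (Subgroup.pointwise_smul_le_pointwise_smul_iff.2 inf_le_right)
      (Coprime.conj_smul_eq_self_iff.2 hnD).le) PD hcardn
  rw [hPDm] at hde
  have hSn : (S : Subgroup G) ≤ normalizer ((MulAut.conj n • RK : Subgroup G) : Set G) := fun t ht =>
    mem_normalizer_of_conj_le fun z hz => by
      rw [mem_conj] at hz ⊢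
      have := conj_le_of_le_normalizer hSRK ((mem_normalizer_iff''.1 hnS t).1 ht) hz
      convert this using 1
      group
  obtain ⟨e, he, hee⟩ := Coprime.exists_centralizer_conj_eq hSck (coprime_S h (odd_coreOf _))
    (Or.inl (solv_S h)) hSRK hSn hd hde.symm
  set τ := e⁻¹ * n with hτdef
  have hτ : τ ∈ normalizer (RK : Set G) := by
    rw [← Coprime.conj_smul_eq_self_iff, hτdef, map_mul, mul_smul, ← hee, map_inv, inv_smul_smul]
  have hτu : τ * u * τ⁻¹ = k := by
    rw [hτdef, show e⁻¹ * n * u * (e⁻¹ * n)⁻¹ = e⁻¹ * (n * u * n⁻¹) * e by group, hnu, mul_assoc,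
      mem_centralizer_iff.1 (mem_inf.1 he).2 k hk, inv_mul_cancel_left]
  have hab : PLocal.Quadratic.AbelianTwo G := fun T => Walter.isMulCommutative_sylow h.abTwo T
  have hτA : τ ∈ normalizer ((RK ⊓ oc u : Subgroup G) : Set G) := by
    refine mem_normalizer_of_conj_le fun a ha => ?_
    have ha' : τ * a * τ⁻¹ ∈ RK := (mem_normalizer_iff.1 hτ a).1 ha.1
    obtain ⟨x, hx, hxe⟩ := Hall.Numbers.Seven.fusion hr2 hab Ps (a := a) (g := τ) ha.1.1 ha'.1
    rw [hPsc] at hx
    have h1 : a ∈ coreOf Y := hYc.central_oc_le hcY (mem_inf.2 ⟨ha.2, hPY ha.1.1⟩)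
    have h2 : τ * a * τ⁻¹ ∈ coreOf Y := hxe ▸ conj_le_of_le_normalizer (le_normalizer_coreOf Y) hx h1
    exact mem_inf.2 ⟨ha', hYc.core_inf_le (mem_inf.2 ⟨h2, (coreOf_le _ ha'.2).1⟩)⟩
  have hyk : y ∈ oc k := by
    have h1 := conj_mem_oc (g := τ) ((mem_normalizer_iff''.1 hτA y).1 hyA).2
    rwa [hτu, show τ * (τ⁻¹ * y * τ) * τ⁻¹ = y by group] at h1
  rw [show y * s * y⁻¹ * s⁻¹ = y * (s * y⁻¹ * s⁻¹) by group]
  exact mul_mem hyk (oc_conj_mem (S_le_cent h hk hs) (inv_mem hyk))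

/-- Commutators with `S` land in the core at `k`. -/
theorem comm_mem_all [IsSimpleGroup G] {y s : G} (hy : y ∈ oc u ⊓ centralizer ({k} : Set G))
    (hs : s ∈ (S : Subgroup G)) : y * s * y⁻¹ * s⁻¹ ∈ oc k := by
  let Z : Subgroup G :=
    { carrier := {y | y ∈ centralizer ({k} : Set G) ∧ ∀ s ∈ (S : Subgroup G), y * s * y⁻¹ * s⁻¹ ∈ oc k}
      one_mem' := ⟨one_mem _, fun s _ => by simp⟩
      mul_mem' := fun {a b} ha hb => ⟨mul_mem ha.1 hb.1, fun s hs => by
        have := mul_mem (oc_conj_mem ha.1 (hb.2 s hs)) (ha.2 s hs)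
        convert this using 1
        group⟩
      inv_mem' := fun {a} ha => ⟨inv_mem ha.1, fun s hs => by
        have := oc_conj_mem (inv_mem ha.1) (inv_mem (ha.2 s hs))
        convert this using 1
        group⟩ }
  set N := oc u ⊓ centralizer ({k} : Set G) with hN
  suffices hle : N ≤ Z from (hle hy).2 s hs
  by_contra hcon
  have h1 : Z.relIndex N ≠ 1 := fun e => hcon (relIndex_eq_one.1 e)
  obtain ⟨r, hr, hrd⟩ := Nat.exists_prime_and_dvd h1
  haveI := Fact.mk hr
  have hodd : Odd (Nat.card ↥N) := (odd_coreOf _).of_dvd_nat (card_dvd_of_le inf_le_left)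
  have hr2 : r ≠ 2 := fun e => by
    have := (e ▸ hrd).trans (relIndex_dvd_card _ _)
    rw [Nat.odd_iff] at hodd
    omega
  have hSoc : (S : Subgroup G) ≤ normalizer (oc u : Set G) :=
    (S_le_cent h hu).trans (le_normalizer_coreOf _)
  have hSN : (S : Subgroup G) ≤ normalizer (N : Set G) := fun t ht =>
    inf_normalizer_le_normalizer_inf (mem_inf.2 ⟨hSoc ht, le_normalizer (S_le_cent h hk ht)⟩)
  obtain ⟨T, hT⟩ := Coprime.exists_invariant_sylow r hSN
    (h.card_S ▸ (show Nat.Coprime (2 ^ 3) _ from (Nat.coprime_two_left.2 hodd).pow_left 3))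
    (Or.inr (S0205.result hodd))
  have hoddU : Odd (Nat.card ↥(oc u)) := odd_coreOf _
  obtain ⟨R1, hTR, hR1⟩ := Coprime.exists_invariant_sylow_ge hSoc
    (h.card_S ▸ (show Nat.Coprime (2 ^ 3) _ from (Nat.coprime_two_left.2 hoddU).pow_left 3))
    (Or.inr (S0205.result hoddU)) ((map_subtype_le (T : Subgroup ↥N)).trans inf_le_left) (T.2.map _) hT
  have hTZ : (T : Subgroup ↥N) ≤ Z.subgroupOf N := fun t ht => by
    refine ⟨(mem_inf.1 t.2).2, fun s hs => ?_⟩
    exact comm_mem_oc h hu hu1 hk hk1 hne hr2 R1 hR1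
      (mem_inf.2 ⟨hTR (mem_map_of_mem N.subtype ht), (mem_inf.1 t.2).2⟩) hs
  exact T.not_dvd_index (hrd.trans (index_dvd_of_le hTZ))

/-- Balance at a pair. -/
theorem oc_inf_le [IsSimpleGroup G] : oc u ⊓ centralizer ({k} : Set G) ≤ oc k := by
  intro y hy
  obtain ⟨w, hw, hw1, hck⟩ := exists_trace h hu hu1 hk hk1 hne
  set N := oc k ⊓ centralizer ({u} : Set G) with hN
  have hSN : (S : Subgroup G) ≤ normalizer (N : Set G) := fun t ht => inf_normalizer_le_normalizer_inf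
    (mem_inf.2 ⟨le_normalizer_coreOf _ (S_le_cent h hk ht), le_normalizer (S_le_cent h hu ht)⟩)
  have hyu : y ∈ centralizer ({u} : Set G) := oc_le u (mem_inf.1 hy).1
  have hodd : Odd (Nat.card ↥N) := (odd_coreOf _).of_dvd_nat (card_dvd_of_le inf_le_left)
  have hcop : (Nat.card ↥(S : Subgroup G)).Coprime (Nat.card ↥N) :=
    h.card_S ▸ (show Nat.Coprime (2 ^ 3) _ from (Nat.coprime_two_left.2 hodd).pow_left 3)
  have hfix : ∀ {z : G}, z ∈ oc u ⊓ centralizer ({k} : Set G) →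
      ∃ n ∈ N, z * n ∈ centralizer ((S : Subgroup G) : Set G) := fun {z} hz => by
    refine Coprime.exists_fixed_in_coset hSN hcop (Or.inr (S0205.result hodd)) fun a ha => mem_inf.2 ⟨?_, ?_⟩
    · have := comm_mem_all h hu hu1 hk hk1 hne (inv_mem hz) ha
      rw [inv_inv] at this
      convert this using 1
      rw [inv_S h ha]
      group
    · have hau := S_le_cent h hu ha
      have hzu := oc_le u (mem_inf.1 hz).1
      exact mul_mem (inv_mem hzu) (mul_mem (mul_mem hau hzu) (inv_mem hau))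
  have hNle : ∀ {z : G}, z ∈ oc u ⊓ centralizer ({k} : Set G) → ∀ n ∈ N, Odd (orderOf (z * n)) :=
    fun {z} hz n hn => by
      have h1 : N ≤ coreOf (ck u k) := by
        refine le_coreOf (fun a ha => mem_inf.2 ⟨(mem_inf.1 ha).2, oc_le k (mem_inf.1 ha).1⟩) ?_ hodd
        exact fun g hg => mem_normalizer_of_conj_le fun a ha => mem_inf.2 ⟨oc_conj_mem (mem_inf.1 hg).2
          (mem_inf.1 ha).1, mul_mem (mul_mem (mem_inf.1 hg).1 (mem_inf.1 ha).2) (inv_mem (mem_inf.1 hg).1)⟩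
      exact odd_orderOf_of_mem (odd_coreOf _) (mul_mem (oc_inf_le_core h u k hz) (h1 hn))
  have hL : ∀ d ∈ oc u ⊓ centralizer ({k} : Set G), d ∈ L k → d ∈ oc k := fun d hd hdL => by
    obtain ⟨n, hn, hdn⟩ := hfix hd
    have h1 := h.self k hk hk1 (d * n)
      (mem_inf.2 ⟨mul_mem hdL ((h.cov_le k hk hk1).1 (mem_inf.1 hn).1), hdn⟩) (hNle hd n hn)
    have := mul_mem h1 (inv_mem (mem_inf.1 hn).1)
    rwa [mul_inv_cancel_right] at this
  obtain ⟨n, hn, hyn⟩ := hfix hy
  have hmain : y * n ∈ oc k := by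
    refine h.field k hk hk1 _ hyn (hNle hy n hn) w hw hw1 fun j hj => ?_
    have hjk : j ∈ centralizer ({k} : Set G) := (h.cov_le k hk hk1).2 (mem_inf.1 hj).1
    have hjc : j ∈ ck u k := hck ▸ mem_inf.2 ⟨hjk, (mem_inf.1 hj).2⟩
    have hjy : y * j * y⁻¹ * j⁻¹ ∈ oc k := by
      refine hL _ (mem_inf.2 ⟨?_, ?_⟩) ?_
      · rw [show y * j * y⁻¹ * j⁻¹ = y * (j * y⁻¹ * j⁻¹) by group]
        exact mul_mem (mem_inf.1 hy).1 (oc_conj_mem (mem_inf.1 hjc).1 (inv_mem (mem_inf.1 hy).1))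
      · exact mul_mem (mul_mem (mul_mem (mem_inf.1 hy).2 hjk) (inv_mem (mem_inf.1 hy).2)) (inv_mem hjk)
      · exact mul_mem (conj_le_of_le_normalizer (h.cov_norm k hk hk1) (mem_inf.1 hy).2 (mem_inf.1 hj).1)
          (inv_mem (mem_inf.1 hj).1)
    have hnj : n * j * n⁻¹ * j⁻¹ ∈ oc k := by
      rw [show n * j * n⁻¹ * j⁻¹ = n * (j * n⁻¹ * j⁻¹) by group]
      exact mul_mem (mem_inf.1 hn).1 (oc_conj_mem hjk (inv_mem (mem_inf.1 hn).1))
    rw [show y * n * j * (y * n)⁻¹ * j⁻¹ = y * (n * j * n⁻¹ * j⁻¹) * y⁻¹ * (y * j * y⁻¹ * j⁻¹) by group]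
    exact mul_mem (oc_conj_mem (mem_inf.1 hy).2 hnj) hjy
  have := mul_mem hmain (inv_mem (mem_inf.1 hn).1)
  rwa [mul_inv_cancel_right] at this

end Balance

end Cfsg.Agent.Walter.Core.Three

namespace Cfsg.Agent.Walter.Core

universe u

variable {G : Type u} [Group G] [Finite G] {S : Sylow 2 G} {L : G → Subgroup G}

/-- Balance in rank three. -/
theorem ThreeSys.balanced [IsSimpleGroup G] (h : ThreeSys S L) : ThreeBalanced S := by
  intro a ha ha1 b hb hb1
  by_cases hab : a = b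
  · subst hab
    exact inf_le_left
  · exact Three.oc_inf_le h ha ha1 hb hb1 hab

end Cfsg.Agent.Walter.Core
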