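import Cfsg.Agent.Lib.Walter.Core.Tools
import Cfsg.Agent.Lib.Walter.SEEnd
import Cfsg.Agent.Lib.SolvableSignalizer.Main
import Cfsg.Agent.Lib.Coprime.Sylow

/-!
# Balanced odd cores generate a signalizer normalized by the involution centralisers

For `|A| ≥ 8` and balanced cores `oc a`, `W = ⟨oc a⟩` is odd and normalized by `N(S)` and by `C(K)` for every
four-group `K ≤ A`.  It is normalized by `C(t)` when these generate `C(t)` modulo the core, and also when every
proper subgroup `X ≥ A` covering `C(t)` meets the cores inside its own core and conversely.  Then `seEnd` makes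
all cores trivial.
-/

set_option autoImplicit false
set_option linter.unusedSectionVars false
set_option linter.style.haveILetI false

open Subgroup
open scoped Pointwise
open Cfsg.Agent.SEAbelian

namespace Cfsg.Agent.Walter.Core

universe u

variable {G : Type u} [Group G] [Finite G]

/-- Balance of the cores over `A`. -/
def Balanced (A : Subgroup G) : Prop :=
  ∀ a ∈ A, a ≠ 1 → ∀ k ∈ A, k ≠ 1 → oc a ⊓ centralizer ({k} : Set G) ≤ oc k

variable (h : AbTwo G) (S : Sylow 2 G)

/-- The group generated by the cores. -/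
def ocSup : Subgroup G := ⨆ a : {a : G // a ∈ omegaOf h S ∧ a ≠ 1}, oc (a : G)

theorem oc_le_ocSup {a : G} (ha : a ∈ omegaOf h S) (ha1 : a ≠ 1) : oc a ≤ ocSup h S :=
  le_iSup (fun b : {b : G // b ∈ omegaOf h S ∧ b ≠ 1} => oc (b : G)) ⟨a, ha, ha1⟩

theorem omega_elementary : Cfsg.IsElementaryAbelian 2 (omegaOf h S) :=
  ⟨⟨⟨fun x y => Subtype.ext (h _ S.2 x x.2.1 y y.2.1).eq⟩⟩, fun a ha => by rw [pow_two]; exact ha.2⟩

theorem omega_le_cent {a : G} (ha : a ∈ omegaOf h S) :
    omegaOf h S ≤ centralizer ({a} : Set G) := fun b hb =>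
  mem_centralizer_one.2 (h _ S.2 b hb.1 a ha.1).eq

theorem omega_normalizes_oc {a : G} (ha : a ∈ omegaOf h S) :
    omegaOf h S ≤ normalizer (oc a : Set G) := (omega_le_cent h S ha).trans (le_normalizer_coreOf _)

theorem conj_mem_omega {n a : G} (hn : n ∈ normalizer ((S : Subgroup G) : Set G)) (ha : a ∈ omegaOf h S) :
    n * a * n⁻¹ ∈ omegaOf h S :=
  ⟨(mem_normalizer_iff.1 hn a).1 ha.1, by
    rw [show n * a * n⁻¹ * (n * a * n⁻¹) = n * (a * a) * n⁻¹ by group, ha.2, mul_one, mul_inv_cancel]⟩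

variable (h8 : 8 ≤ Nat.card ↥(omegaOf h S)) (hbal : Balanced (omegaOf h S))

include h8 hbal

theorem ocSup_spec : Odd (Nat.card ↥(ocSup h S)) ∧ omegaOf h S ≤ normalizer (ocSup h S : Set G) ∧
    ∀ a ∈ omegaOf h S, a ≠ 1 → ocSup h S ⊓ centralizer ({a} : Set G) ≤ oc a := by
  have hθ : Cfsg.IsSolvableSignalizerFunctor 2 (omegaOf h S) (fun a => oc a) :=
    ⟨⟨fun a _ _ => oc_le a, fun a _ _ => Nat.two_dvd_ne_zero.2 (Nat.odd_iff.1 (odd_coreOf _)),
      fun a ha _ b hb x hx => oc_conj_mem (omega_le_cent h S ha hb) hx,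
      fun a ha ha1 b hb hb1 => hbal a ha ha1 b hb hb1⟩, fun a _ _ => S0205.result (odd_coreOf _)⟩
  obtain ⟨-, h2, h3, h4⟩ := SolvableSignalizer.iSup_mem Nat.prime_two (omega_elementary h S) (by omega) hθ
  exact ⟨Nat.odd_iff.2 (Nat.two_dvd_ne_zero.1 h2),
    fun v hv => mem_normalizer_of_conj_le fun x hx => h3 v hv x hx, h4⟩

theorem normalizer_le_ocSup :
    normalizer ((S : Subgroup G) : Set G) ≤ normalizer (ocSup h S : Set G) := fun n hn =>
  mem_normalizer_of_conj_le fun x hx => by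
    have hle : ocSup h S ≤ (ocSup h S).comap (MulAut.conj n).toMonoidHom := iSup_le fun a y hy =>
      oc_le_ocSup h S (conj_mem_omega h S hn a.2.1) (fun e => a.2.2 (conj_eq_one_iff.1 e)) (conj_mem_oc hy)
    exact hle hx

/-- An invariant odd subgroup whose fixed parts lie in the cores of a four-group lies in their join. -/
theorem le_of_fixed {K X M : Subgroup G} (hK : K ≤ omegaOf h S) (h4 : 4 ≤ Nat.card ↥K)
    (hX : Odd (Nat.card ↥X)) (hKX : K ≤ normalizer (X : Set G))
    (hM : ∀ b ∈ K, b ≠ 1 → X ⊓ centralizer ({b} : Set G) ≤ M) : X ≤ M :=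
  SolvableSignalizer.member_le Nat.prime_two (Components.Hyperplane.isElementaryAbelian_of_le (omega_elementary h S) hK)
    (by omega) (Nat.two_dvd_ne_zero.2 (Nat.odd_iff.1 hX)) hKX hM

theorem cent_four_le {K : Subgroup G} (hK : K ≤ omegaOf h S) (h4 : 4 ≤ Nat.card ↥K) :
    centralizer (K : Set G) ≤ normalizer (ocSup h S : Set G) := fun g hg =>
  mem_normalizer_of_conj_le fun x hx => by
    have hWK : ocSup h S ≤ ⨆ b : {b : G // b ∈ K ∧ b ≠ 1}, oc (b : G) :=
      le_of_fixed h S h8 hbal hK h4 (ocSup_spec h S h8 hbal).1 (hK.trans (ocSup_spec h S h8 hbal).2.1)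
        fun b hb hb1 => ((ocSup_spec h S h8 hbal).2.2 b (hK hb) hb1).trans
          (le_iSup (fun b : {b : G // b ∈ K ∧ b ≠ 1} => oc (b : G)) ⟨b, hb, hb1⟩)
    have hle : (⨆ b : {b : G // b ∈ K ∧ b ≠ 1}, oc (b : G)) ≤
        (ocSup h S).comap (MulAut.conj g).toMonoidHom := iSup_le fun b y hy =>
      oc_le_ocSup h S (hK b.2.1) b.2.2
        (oc_conj_mem (centralizer_le (Set.singleton_subset_iff.2 b.2.1) hg) hy)
    exact hle (hWK hx)

/-- Generation by `N(S)` and the centralisers of four-groups. -/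
theorem cent_le_of_gen {a : G} (ha : a ∈ omegaOf h S) (ha1 : a ≠ 1)
    (hgen : centralizer ({a} : Set G) ≤ oc a ⊔ (centralizer ({a} : Set G) ⊓ normalizer ((S : Subgroup G) : Set G)) ⊔
      ⨆ K : {K : Subgroup G // K ≤ omegaOf h S ∧ 4 ≤ Nat.card ↥K}, centralizer ((K : Subgroup G) : Set G)) :
    centralizer ({a} : Set G) ≤ normalizer (ocSup h S : Set G) :=
  hgen.trans (sup_le (sup_le ((oc_le_ocSup h S ha ha1).trans le_normalizer)
    (inf_le_right.trans (normalizer_le_ocSup h S h8 hbal)))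
    (iSup_le fun K => cent_four_le h S h8 hbal K.2.1 K.2.2))

omit h8 hbal in
/-- What is needed of a proper subgroup covering `C(t)` modulo the core. -/
def LocalCores (t : G) : Prop :=
  ∀ X : Subgroup G, X ≠ ⊤ → omegaOf h S ≤ X →
    centralizer ({t} : Set G) ≤ oc t ⊔ (X ⊓ centralizer ({t} : Set G)) →
      ∀ e ∈ omegaOf h S, e ≠ 1 → oc e ⊓ X ≤ coreOf X ∧ coreOf X ⊓ centralizer ({e} : Set G) ≤ oc e

variable (htr : ∀ a ∈ omegaOf h S, a ≠ 1 → ∀ b ∈ omegaOf h S, b ≠ 1 →
  ∃ n ∈ normalizer ((S : Subgroup G) : Set G), n * a * n⁻¹ = b)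

include htr

/-- A Sylow subgroup of the closure whose normalizer covers `C(t)`. -/
theorem exists_covering_sylow [IsSimpleGroup G] (hnc : ¬ IsMulCommutative G) {t : G} (ht : t ∈ omegaOf h S)
    (ht1 : t ≠ 1) (hloc : LocalCores h S t) (p : ℕ) [Fact p.Prime] :
    ∃ T : Sylow p ↥(ocSup h S), centralizer ({t} : Set G) ≤
      oc t ⊔ (normalizer (((T : Subgroup ↥(ocSup h S)).map (ocSup h S).subtype : Subgroup G) : Set G) ⊓
        centralizer ({t} : Set G)) := by
  set W := ocSup h S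
  set A := omegaOf h S
  set C := centralizer ({t} : Set G)
  obtain ⟨hWodd, hAW, hWC⟩ := ocSup_spec h S h8 hbal
  haveI : IsMulCommutative ↥A := (omega_elementary h S).1
  have hsolv : ∀ K : Subgroup G, Group.IsSolvable ↥A ∨ Group.IsSolvable ↥K := fun K =>
    Or.inl (Coprime.isSolvable_of_isMulCommutative A)
  have hcop : ∀ {K : Subgroup G}, Odd (Nat.card ↥K) → (Nat.card ↥A).Coprime (Nat.card ↥K) := fun {K} hK => by
    haveI : Fact (Nat.Prime 2) := ⟨Nat.prime_two⟩
    obtain ⟨n, hn⟩ := IsPGroup.iff_card.1 (Components.Hyperplane.isPGroup (omega_elementary h S))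
    rw [hn]
    exact (Nat.coprime_two_left.2 hK).pow_left n
  obtain ⟨P₀, hP₀⟩ := Coprime.exists_invariant_sylow p (omega_normalizes_oc h S ht) (hcop (odd_coreOf _))
    (hsolv (oc t))
  set R₀ := (P₀ : Subgroup ↥(oc t)).map (oc t).subtype
  -- the family of covering subgroups
  let Fam : Set (Subgroup G) := {R | R ≤ W ∧ IsPGroup p ↥R ∧ A ≤ normalizer (R : Set G) ∧
    C ≤ oc t ⊔ (normalizer (R : Set G) ⊓ C)}
  have hR₀ : R₀ ∈ Fam := by
    refine ⟨(map_subtype_le _).trans (oc_le_ocSup h S ht ht1), P₀.2.map _, hP₀, fun g hg => ?_⟩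
    have hgR : MulAut.conj g • R₀ ≤ oc t := fun x hx => by
      have := oc_conj_mem hg (map_subtype_le _ (mem_conj.1 hx))
      simpa [mul_assoc] using this
    obtain ⟨k, hk, e⟩ := Coprime.exists_conj_sylow_map hgR P₀ (by
      rw [Coprime.card_conj_smul, Subgroup.card_subtype])
    have h1 : k⁻¹ * g ∈ normalizer (R₀ : Set G) := Coprime.conj_smul_eq_self_iff.1 (by
      rw [Coprime.conj_smul_mul, e, Coprime.conj_inv_smul_smul])
    have h2 : k⁻¹ * g ∈ C := mul_mem (inv_mem (oc_le t hk)) hg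
    rw [show g = k * (k⁻¹ * g) by group]
    exact mul_mem_sup hk ⟨h1, h2⟩
  obtain ⟨R, hle, ⟨hRW, hRp, hAR, hcov⟩, hmax⟩ := Set.Finite.exists_le_maximal (Set.toFinite Fam) hR₀
  obtain ⟨T, hRT, hAT⟩ := Coprime.exists_invariant_sylow_ge hAW (hcop hWodd) (hsolv W) hRW hRp hAR
  set T' := (T : Subgroup ↥W).map W.subtype
  refine ⟨T, ?_⟩
  suffices hTR : T' ≤ R by
    show C ≤ oc t ⊔ (normalizer (T' : Set G) ⊓ C)
    rw [le_antisymm hTR hRT]
    exact hcov
  by_cases hR : R = ⊥
  · -- then `p` divides no core, so it does not divide `|W|`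
    refine le_of_fixed h S h8 hbal le_rfl (le_trans (by norm_num) h8)
      (hWodd.of_dvd_nat (card_dvd_of_le (map_subtype_le _))) hAT fun e he he1 => ?_
    intro x hx
    obtain ⟨n, hn, hne⟩ := htr e he he1 t ht ht1
    have hxe : x ∈ oc e := hWC e he he1 ⟨map_subtype_le _ hx.1, hx.2⟩
    have hy : n * x * n⁻¹ ∈ oc t := hne ▸ conj_mem_oc hxe
    obtain ⟨k, hk⟩ := (T.2.map W.subtype) ⟨x, hx.1⟩
    have hk' : x ^ p ^ k = 1 := congrArg Subtype.val hk
    have hP₀bot : (P₀ : Subgroup ↥(oc t)) = ⊥ :=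
      map_injective (subtype_injective _) (by rw [Subgroup.map_bot]; exact le_bot_iff.1 (hR ▸ hle))
    have hndvd : ¬ p ∣ Nat.card ↥(oc t) := fun hd => Sylow.ne_bot_of_dvd_card P₀ hd hP₀bot
    have h1 : orderOf (n * x * n⁻¹) ∣ p ^ k := orderOf_dvd_of_pow_eq_one (by
      rw [conj_pow, hk', mul_one, mul_inv_cancel])
    have h2 : orderOf (n * x * n⁻¹) ∣ Nat.card ↥(oc t) := Subgroup.orderOf_dvd_natCard _ hy
    have h3 : n * x * n⁻¹ = 1 := orderOf_eq_one_iff.1 (Nat.eq_one_of_dvd_coprimes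
      (((Fact.out : p.Prime).coprime_iff_not_dvd.2 hndvd).pow_left k) h1 h2)
    rw [conj_eq_one_iff] at h3
    rw [h3]
    exact one_mem R
  · set X := normalizer (R : Set G)
    have hXtop : X ≠ ⊤ := by
      intro e
      rcases IsSimpleGroup.eq_bot_or_eq_top_of_normal R (normalizer_eq_top_iff.1 e) with h1 | h1
      · exact hR h1
      · haveI := hRp.isNilpotent
        have h2 : Group.IsSolvable ↥(⊤ : Subgroup G) := h1 ▸ inferInstance
        exact hnc ⟨⟨IsSimpleGroup.comm_iff_isSolvable.2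
          (Group.isSolvable_of_surjective (f := (⊤ : Subgroup G).subtype) fun x => ⟨⟨x, mem_top x⟩, rfl⟩)⟩⟩
    have hX := hloc X hXtop hAR (by rwa [inf_comm] at hcov ⊢)
    set P := normalizer (R : Set G) ⊓ T'
    have hPodd : Odd (Nat.card ↥P) := hWodd.of_dvd_nat (card_dvd_of_le (inf_le_right.trans (map_subtype_le _)))
    have hAP : A ≤ normalizer (P : Set G) := fun a ha => mem_normalizer_of_conj_le fun x hx =>
      ⟨conj_le_of_le_normalizer le_normalizer (hAR ha) hx.1 |> fun h => h, conj_le_of_le_normalizer hAT ha hx.2⟩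
    have hPX : P ≤ coreOf X := le_of_fixed h S h8 hbal le_rfl (le_trans (by norm_num) h8) hPodd hAP
      fun e he he1 x hx => (hX e he he1).1 ⟨hWC e he he1 ⟨map_subtype_le _ hx.1.2, hx.2⟩, hx.1.1⟩
    have hAO : A ≤ normalizer (coreOf X : Set G) := hAR.trans (le_normalizer_coreOf X)
    obtain ⟨R', hPR', hAR'⟩ := Coprime.exists_invariant_sylow_ge hAO (hcop (odd_coreOf X)) (hsolv (coreOf X)) hPX
      ((T.2.map W.subtype).to_le inf_le_right) hAP
    set R'' := (R' : Subgroup ↥(coreOf X)).map (coreOf X).subtype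
    have hOW : coreOf X ≤ W := le_of_fixed h S h8 hbal le_rfl (le_trans (by norm_num) h8)
      (odd_coreOf X) hAO fun e he he1 => (hX e he he1).2.trans (oc_le_ocSup h S he he1)
    have hRP : R ≤ P := le_inf le_normalizer hRT
    have hR' : R'' ∈ Fam := by
      refine ⟨(map_subtype_le _).trans hOW, R'.2.map _, hAR', ?_⟩
      refine hcov.trans (sup_le le_sup_left fun g hg => ?_)
      have hgR : MulAut.conj g • R'' ≤ coreOf X := fun x hx => by
        have := conj_le_of_le_normalizer (le_normalizer_coreOf X) hg.1 (map_subtype_le _ (mem_conj.1 hx))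
        simpa [mul_assoc] using this
      obtain ⟨k, hk, e⟩ := Coprime.exists_conj_sylow_map hgR R' (by
        rw [Coprime.card_conj_smul, Subgroup.card_subtype])
      have hzA : zpowers t ≤ A := zpowers_le.2 ht
      have hz : zpowers t ≤ normalizer ((MulAut.conj g • R'' : Subgroup G) : Set G) := by
        rw [← Coprime.conj_smul_normalizer, zpowers_le, mem_conj,
          show g⁻¹ * t * g = t by rw [mul_assoc, ← mem_centralizer_one.1 hg.2, inv_mul_cancel_left]]
        exact hAR' ht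
      obtain ⟨c, hc, hce⟩ := Coprime.exists_centralizer_conj_eq (A := zpowers t) (K := coreOf X)
        (hzA.trans hAO) ((hcop (odd_coreOf X)).coprime_dvd_left (card_dvd_of_le hzA))
        (Or.inl (Coprime.isSolvable_of_le hzA (Coprime.isSolvable_of_isMulCommutative A)))
        (hzA.trans hAR') hz hk e.symm
      have hct : c ∈ C := mem_centralizer_one.2 (mem_centralizer_comm.1 hc.2 t (mem_zpowers t))
      have hc' : c ∈ oc t := (hX t ht ht1).2 ⟨hc.1, hct⟩
      have h1 : c⁻¹ * g ∈ normalizer (R'' : Set G) := Coprime.conj_smul_eq_self_iff.1 (by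
        rw [Coprime.conj_smul_mul, ← hce, Coprime.conj_inv_smul_smul])
      rw [show g = c * (c⁻¹ * g) by group]
      exact mul_mem_sup hc' (mem_inf.2 ⟨h1, Subgroup.mul_mem _ (Subgroup.inv_mem _ hct) hg.2⟩)
    have hPR : P ≤ R := hPR'.trans (hmax hR' (hRP.trans hPR'))
    -- a `p`-subgroup that contains its normalizer in `T'` is `T'`
    by_contra hne
    haveI := (T.2.map W.subtype).isNilpotent
    have hlt : R.subgroupOf T' < ⊤ := lt_top_iff_ne_top.2 fun e => hne (subgroupOf_eq_top.1 e)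
    obtain ⟨x, hx, hxR⟩ := SetLike.exists_of_lt (Group.normalizerCondition_of_isNilpotent (R.subgroupOf T') hlt)
    rw [← subgroupOf_normalizer_eq hRT] at hx
    exact hxR (hPR ⟨hx, x.2⟩)

/-- `C(t)` normalizes the closure. -/
theorem cent_le_of_local [IsSimpleGroup G] (hnc : ¬ IsMulCommutative G) {t : G} (ht : t ∈ omegaOf h S) (ht1 : t ≠ 1)
    (hloc : LocalCores h S t) : centralizer ({t} : Set G) ≤ normalizer (ocSup h S : Set G) := by
  intro g hg
  refine mem_normalizer_of_conj_le fun x hx => ?_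
  set W := ocSup h S
  set U := W ⊓ W.comap (MulAut.conj g).toMonoidHom
  suffices hU : W ≤ U by exact (hU hx).2
  refine le_of_eq (eq_of_le_of_card_ge inf_le_left (Nat.le_of_dvd Nat.card_pos ?_)).symm
  rw [Nat.dvd_iff_prime_pow_dvd_dvd]
  intro p n hp hdvd
  haveI := Fact.mk hp
  obtain ⟨T, hT⟩ := exists_covering_sylow h S h8 hbal htr hnc ht ht1 hloc p
  set T' := (T : Subgroup ↥W).map W.subtype
  have hTU : T' ≤ U := by
    refine le_inf (map_subtype_le _) fun y hy => ?_
    have hg' := hT hg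
    rw [← SetLike.mem_coe, coe_mul_of_right_le_normalizer_left _ _
      (show normalizer (T' : Set G) ⊓ centralizer ({t} : Set G) ≤ normalizer (oc t : Set G) from
        inf_le_right.trans (le_normalizer_coreOf _))] at hg'
    obtain ⟨o, ho, m, hm, rfl⟩ := hg'
    have h1 : m * y * m⁻¹ ∈ W := map_subtype_le _ ((mem_normalizer_iff.1 hm.1 y).1 hy)
    have hoW := oc_le_ocSup h S ht ht1 ho
    show o * m * y * (o * m)⁻¹ ∈ W
    rw [show o * m * y * (o * m)⁻¹ = o * (m * y * m⁻¹) * o⁻¹ by group]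
    exact mul_mem (mul_mem hoW h1) (inv_mem hoW)
  refine dvd_trans ?_ (card_dvd_of_le hTU)
  rw [Subgroup.card_subtype, T.card_eq_multiplicity]
  exact pow_dvd_pow p ((hp.pow_dvd_iff_le_factorization Nat.card_pos.ne').mp hdvd)

omit htr in
/-- If every involution centraliser normalizes the closure, all cores are trivial. -/
theorem oc_eq_bot [IsSimpleGroup G]
    (hC : ∀ a ∈ omegaOf h S, a ≠ 1 → centralizer ({a} : Set G) ≤ normalizer (ocSup h S : Set G))
    (hX : ∀ M : Subgroup G, M ≠ ⊤ → NoTransSocle (↥M ⧸ Cfsg.oddCore ↥M)) :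
    ∀ a ∈ omegaOf h S, a ≠ 1 → oc a = ⊥ := fun a ha ha1 => le_bot_iff.1 <|
  (oc_le_ocSup h S ha ha1).trans (le_of_eq (by
    by_contra hW
    exact seEnd h S h8 hW (ocSup_spec h S h8 hbal).1 hC hX))

end Cfsg.Agent.Walter.Core
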