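import Cfsg.Agent.Lib.Walter.Core.Quot
import Cfsg.Agent.Lib.Walter.Core.Atom
import Cfsg.Agent.Lib.Walter.Core.ThreeEnd

/-!
# Balanced cores inside a proper subgroup

If the cores over the elementary subgroup `S` of order at least eight are balanced, their parts in a subgroup
`X ≥ S` whose components modulo `O(X)` are nice lie in `O(X)`: inverted parts die by two-balance in `X/O(X)`,
fixed parts by `fixed_core`.
-/

set_option autoImplicit false
set_option linter.unusedSectionVars false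
set_option linter.style.haveILetI false

open Subgroup
open Cfsg.Agent.SEAbelian

namespace Cfsg.Agent.Walter.Core

universe u

variable {G : Type u} [Group G] [Finite G]

/-- An odd subgroup with an elementary 2-group acting is generated by fixed and inverted elements. -/
theorem le_of_hyperplanes {A X M : Subgroup G} (hA : Cfsg.IsElementaryAbelian 2 A) (h4 : 4 ≤ Nat.card ↥A)
    (hX : Odd (Nat.card ↥X)) (hAX : A ≤ normalizer (X : Set G)) (hfix : X ⊓ centralizer (A : Set G) ≤ M)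
    (hpiece : ∀ K ≤ A, 2 * Nat.card ↥K = Nat.card ↥A → ∀ y ∈ X, y ∈ centralizer (K : Set G) →
      ∀ v ∈ A, v ∉ K → v * y * v⁻¹ = y⁻¹ → y ∈ M) : X ≤ M := by
  haveI : Fact (Nat.Prime 2) := ⟨Nat.prime_two⟩
  have hsq : ∀ {a : G}, a ∈ A → a * a = 1 := fun ha => by rw [← pow_two]; exact hA.2 _ ha
  rw [Components.Hyperplane.eq_iSup_hyperplane hA h4 (Nat.two_dvd_ne_zero.2 (Nat.odd_iff.1 hX)) hAX]
  refine iSup_le ?_
  rintro ⟨D, hDA, hD⟩ x ⟨hxX, hxD⟩
  have hc : 2 * Nat.card ↥D = Nat.card ↥A := by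
    rw [← relIndex_bot_left, ← relIndex_bot_left, mul_comm, ← hD]
    exact relIndex_mul_relIndex _ _ _ bot_le hDA
  obtain ⟨v, hv, hvD⟩ := exists_notMem hc
  have hvD' : v ∈ centralizer (D : Set G) :=
    mem_centralizer_comm.2 fun d hd => Components.Hyperplane.mem_comm hA hv (hDA hd)
  have hvN : v ∈ normalizer ((X ⊓ centralizer (D : Set G) : Subgroup G) : Set G) :=
    inf_normalizer_le_normalizer_inf ⟨hAX hv, le_normalizer hvD'⟩
  obtain ⟨c, hc', y, hy, hcv, hyv, rfl⟩ := exists_fixed_mul_inverted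
    (hX.of_dvd_nat (card_dvd_of_le inf_le_left)) (hsq hv) hvN ⟨hxX, hxD⟩
  refine mul_mem (hfix ⟨hc'.1, mem_centralizer_comm.2 fun w hw => ?_⟩) (hpiece D hDA hc y hy.1 hy.2 v hv hvD hyv)
  by_cases hwD : w ∈ D
  · exact mem_centralizer_comm.1 hc'.2 w hwD
  · have h1 : Commute c (w * v) :=
      mem_centralizer_comm.1 hc'.2 _ (mul_mem_of_index_two hDA hc hw hv hwD hvD)
    have h2 : Commute c v := (mul_inv_eq_iff_eq_mul.1 hcv).symm
    have h3 := h1.mul_right h2.inv_right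
    rwa [mul_inv_cancel_right] at h3

/-- An odd subgroup of `C(b)` normalized by `C_X(b)` gives an odd subgroup of `X/O(X)` normalized by the
centraliser of the image of `b`. -/
theorem exists_odd_image {X M : Subgroup G} {b : ↥X} (hb : b * b = 1) (hM : Odd (Nat.card ↥M))
    (hnorm : centralizer ({(b : G)} : Set G) ≤ normalizer (M : Set G)) :
    ∃ N : Subgroup (↥X ⧸ Cfsg.oddCore ↥X), Odd (Nat.card ↥N) ∧
      centralizer ({QuotientGroup.mk' (Cfsg.oddCore ↥X) b} : Set (↥X ⧸ Cfsg.oddCore ↥X)) ≤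
        normalizer (N : Set (↥X ⧸ Cfsg.oddCore ↥X)) ∧
      ∀ y : ↥X, (y : G) ∈ M → QuotientGroup.mk' (Cfsg.oddCore ↥X) y ∈ N := by
  set O := Cfsg.oddCore ↥X
  set π := QuotientGroup.mk' O
  refine ⟨((M ⊓ X).subgroupOf X).map π, ?_, fun q hq => ?_, fun y hy => mem_map_of_mem _ ⟨hy, y.2⟩⟩
  · refine Odd.of_dvd_nat ?_ (card_map_dvd _ _)
    rw [Nat.card_congr (subgroupOfEquivOfLe inf_le_right).toEquiv]
    exact hM.of_dvd_nat (card_dvd_of_le inf_le_left)
  obtain ⟨g, rfl⟩ := QuotientGroup.mk'_surjective O q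
  have hpow : ∀ a ∈ zpowers b, a = 1 ∨ a = b := by
    rintro _ ⟨i, rfl⟩
    rcases Int.even_or_odd i with ⟨k, rfl⟩ | ⟨k, rfl⟩
    · left; show b ^ (k + k) = 1; rw [← two_mul, zpow_mul, zpow_two, hb, one_zpow]
    · right; show b ^ (2 * k + 1) = b
      rw [zpow_add, zpow_mul, zpow_two, hb, one_zpow, one_mul, zpow_one]
  have hfix : ∀ a ∈ zpowers b, g⁻¹ * (a * g * a⁻¹) ∈ O := by
    intro a ha
    rcases hpow a ha with rfl | rfl
    · rw [one_mul, inv_one, mul_one, inv_mul_cancel]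
      exact one_mem _
    · refine (QuotientGroup.eq_one_iff _).1 ?_
      have hq' : π g * π a = π a * π g := mem_centralizer_singleton_iff.1 hq
      show π (g⁻¹ * (a * g * a⁻¹)) = 1
      rw [map_mul, map_mul, map_mul, map_inv, map_inv, ← hq', mul_inv_cancel_right, inv_mul_cancel]
  have hcop : (Nat.card ↥(zpowers b)).Coprime (Nat.card ↥O) := by
    rw [Nat.card_zpowers]
    exact (Agent.Cores.pPrimeCore_card_coprime (G := ↥X) 2).symm.coprime_dvd_left
      (orderOf_dvd_of_pow_eq_one (by rw [pow_two, hb]))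
  obtain ⟨o, ho, hgo⟩ := Coprime.exists_fixed_in_coset (N := O) Subgroup.le_normalizer_of_normal hcop
    (Or.inr (S0205.result Agent.Cores.oddCore_odd)) hfix
  have hgo' : ((g * o : ↥X) : G) ∈ centralizer ({(b : G)} : Set G) := mem_centralizer_singleton_iff.2
    (congrArg Subtype.val (mem_centralizer_iff.1 hgo b (mem_zpowers b))).symm
  have hgoN : g * o ∈ normalizer (((M ⊓ X).subgroupOf X : Subgroup ↥X) : Set ↥X) :=
    mem_normalizer_iff.2 fun z => by
      simp only [mem_subgroupOf, mem_inf, Subgroup.coe_mul, Subgroup.coe_inv, SetLike.coe_mem, and_true]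
      refine Iff.trans ?_ (and_iff_left (X.mul_mem (X.mul_mem (g * o).2 z.2) (X.inv_mem (g * o).2))).symm
      exact mem_normalizer_iff.1 (hnorm hgo') z
  have e : π g = π (g * o) := by rw [map_mul, show π o = 1 from (QuotientGroup.eq_one_iff o).2 ho, mul_one]
  rw [e]
  exact le_normalizer_map π (mem_map_of_mem π hgoN)

/-- Balanced cores meet `X ≥ S` inside `O(X)`. -/
theorem oc_inf_le_core (h : AbTwo G) (S : Sylow 2 G) (hel : ∀ x ∈ (S : Subgroup G), x * x = 1)
    (h8 : 8 ≤ Nat.card ↥(S : Subgroup G)) (hbal : Balanced (S : Subgroup G)) {X : Subgroup G}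
    (hSX : (S : Subgroup G) ≤ X)
    (hN : ∀ J : Subgroup (↥X ⧸ Cfsg.oddCore ↥X), Cfsg.IsComponent J → CompNice (bar (S.subtype hSX)) J)
    {e : G} (he : e ∈ (S : Subgroup G)) (he1 : e ≠ 1) : oc e ⊓ X ≤ coreOf X := by
  haveI : Fact (Nat.Prime 2) := ⟨Nat.prime_two⟩
  set O := Cfsg.oddCore ↥X
  set π := QuotientGroup.mk' O with hπ
  set T := S.subtype hSX
  have hT : ∀ x : ↥X, x ∈ (T : Subgroup ↥X) ↔ (x : G) ∈ (S : Subgroup G) := fun x => by
    rw [Sylow.coe_subtype, mem_subgroupOf]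
  have hQ : AbTwo (↥X ⧸ O) := abTwo_quot (h.subgroup X)
  have hQ0 : Cfsg.oddCore (↥X ⧸ O) = ⊥ := core_quot
  have hA : Cfsg.IsElementaryAbelian 2 (S : Subgroup G) :=
    ⟨⟨⟨fun x y => Subtype.ext (h _ S.2 x x.2 y y.2).eq⟩⟩, fun a ha => by rw [pow_two]; exact hel a ha⟩
  have hSC : ∀ {a : G}, a ∈ (S : Subgroup G) → (S : Subgroup G) ≤ centralizer ({a} : Set G) :=
    fun ha b hb => mem_centralizer_singleton_iff.2 (h _ S.2 b hb _ ha).eq
  have hmem : ∀ {y : G} (hy : y ∈ X), π ⟨y, hy⟩ = 1 → y ∈ coreOf X := fun {y} hy hy1 =>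
    ⟨⟨y, hy⟩, (QuotientGroup.eq_one_iff _).1 hy1, rfl⟩
  have hM : ∀ {b : G} (hb : b ∈ (S : Subgroup G)) {y : ↥X}, (y : G) ∈ oc b →
      ∃ N : Subgroup (↥X ⧸ O), Odd (Nat.card ↥N) ∧
        centralizer ({π ⟨b, hSX hb⟩} : Set (↥X ⧸ O)) ≤ normalizer (N : Set (↥X ⧸ O)) ∧ π y ∈ N := by
    intro b hb y hy
    obtain ⟨N, hN1, hN2, hN3⟩ := exists_odd_image (b := (⟨b, hSX hb⟩ : ↥X)) (Subtype.ext (hel b hb))
      (odd_coreOf (centralizer ({b} : Set G))) (le_normalizer_coreOf _)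
    exact ⟨N, hN1, hN2, hN3 y hy⟩
  refine le_of_hyperplanes hA (le_trans (by norm_num) h8)
    ((odd_coreOf _).of_dvd_nat (card_dvd_of_le inf_le_left))
    ((le_inf ((hSC he).trans (le_normalizer_coreOf _)) (hSX.trans le_normalizer)).trans
      inf_normalizer_le_normalizer_inf) ?_ ?_
  · -- fixed part
    rintro c ⟨⟨hce, hcX⟩, hcS⟩
    refine hmem hcX (fixed_core hQ hQ0 hN (S := bar T)
      ((odd_orderOf_of_mem (odd_coreOf _) hce).of_dvd_nat ?_) (fun q hq _ => ?_)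
      (B := (bar T : Subgroup (↥X ⧸ O))) le_rfl ?_ ?_)
    · refine (orderOf_map_dvd π ⟨c, hcX⟩).trans (dvd_of_eq ?_)
      rw [← Subgroup.orderOf_coe]
    · obtain ⟨s, hs, rfl⟩ := mem_bar.1 hq
      have := mem_centralizer_comm.1 hcS s ((hT s).1 hs)
      show π ⟨c, hcX⟩ * π s = π s * π ⟨c, hcX⟩
      rw [← map_mul, ← map_mul]
      exact congrArg π (Subtype.ext this)
    · refine h8.trans (Nat.card_le_card_of_injective
        (fun s : ↥(S : Subgroup G) => (⟨π ⟨s, hSX s.2⟩, mem_bar.2 ⟨_, (hT _).2 s.2, rfl⟩⟩ : ↥(bar T : Subgroup (↥X ⧸ O)))) ?_)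
      intro s s' hss
      have h3 : (⟨s, hSX s.2⟩ : ↥X) = ⟨s', hSX s'.2⟩ :=
        eq_of_mk (S := T) ((hT _).2 s.2) ((hT _).2 s'.2) (congrArg Subtype.val hss)
      exact Subtype.ext (congrArg (fun z : ↥X => (z : G)) h3)
    · intro q hq hq1
      obtain ⟨s, hs, rfl⟩ := mem_bar.1 hq
      have hs1 : (s : G) ≠ 1 := fun e' => hq1 (by rw [show s = 1 from Subtype.ext e', map_one])
      have hcs : c ∈ oc (s : G) := hbal e he he1 s ((hT s).1 hs) hs1
        ⟨hce, mem_centralizer_singleton_iff.2 (mem_centralizer_comm.1 hcS s ((hT s).1 hs))⟩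
      exact hM ((hT s).1 hs) (y := ⟨c, hcX⟩) hcs
  · -- inverted parts
    intro K hKS h2 y hy hyK v hv _ hinv
    obtain ⟨hye, hyX⟩ := mem_inf.1 hy
    refine hmem hyX ?_
    set E : Subgroup (↥X ⧸ O) := (K.subgroupOf X).map π
    have hES : E ≤ (bar T : Subgroup (↥X ⧸ O)) := fun q hq => by
      obtain ⟨k, hk, rfl⟩ := hq
      exact mem_bar.2 ⟨k, (hT k).2 (hKS hk), rfl⟩
    have hyk : ∀ q ∈ E, q * π ⟨y, hyX⟩ = π ⟨y, hyX⟩ * q := fun q hq => by
      obtain ⟨k, hk, rfl⟩ := hq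
      rw [← map_mul, ← map_mul]
      exact congrArg π (Subtype.ext (mem_centralizer_comm.1 hyK k hk).symm)
    refine balance hQ hQ0 hN (S := bar T) (v := π ⟨v, hSX hv⟩) (mem_bar.2 ⟨_, (hT _).2 hv, rfl⟩)
      ((odd_orderOf_of_mem (odd_coreOf _) hye).of_dvd_nat ((orderOf_map_dvd π ⟨y, hyX⟩).trans
        (dvd_of_eq (Subgroup.orderOf_coe _).symm))) ?_ ?_ hES ?_ ?_
    · rw [← map_inv, ← map_mul, ← map_inv, ← map_mul]
      exact congrArg π (Subtype.ext hinv)
    · intro J hJ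
      -- some element of the trace lies in the image of `K`
      obtain ⟨w, hw, hw1, hwE⟩ : ∃ w ∈ (bar T : Subgroup (↥X ⧸ O)) ⊓ J, w ≠ 1 ∧ w ∈ E := by
        have h4 := (hN J hJ).four_le
        obtain ⟨w1, hw1, hw11, -⟩ := exists_two h4 1
        obtain ⟨w2, hw2, hw21, hw12⟩ := exists_two h4 w1
        by_cases h1 : w1 ∈ E
        · exact ⟨w1, hw1, hw11, h1⟩
        by_cases h2' : w2 ∈ E
        · exact ⟨w2, hw2, hw21, h2'⟩
        obtain ⟨s1, hs1, rfl⟩ := mem_bar.1 hw1.1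
        obtain ⟨s2, hs2, rfl⟩ := mem_bar.1 hw2.1
        have hm : ((s1 * s2 : ↥X) : G) ∈ K := mul_mem_of_index_two hKS h2 ((hT s1).1 hs1) ((hT s2).1 hs2)
          (fun hk => h1 (mem_map_of_mem π (mem_subgroupOf.2 hk))) (fun hk => h2' (mem_map_of_mem π (mem_subgroupOf.2 hk)))
        refine ⟨π s1 * π s2, mul_mem hw1 hw2, fun e' => hw12 ?_, ?_⟩
        · have hsq : π s1 * π s1 = 1 := by
            rw [← map_mul, show s1 * s1 = 1 from Subtype.ext (hel _ ((hT s1).1 hs1)), map_one]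
          exact mul_left_cancel (e'.trans hsq.symm)
        · rw [← map_mul]
          exact mem_map_of_mem π (mem_subgroupOf.2 hm)
      exact normalizes_of_fix hQ hQ0 hJ hw.2 hw1 (by rw [← hyk w hwE, mul_inv_cancel_right])
    · have hcard : Nat.card ↥E = Nat.card ↥K := by
        rw [← Nat.card_congr (subgroupOfEquivOfLe (hKS.trans hSX)).toEquiv]
        refine (Nat.card_le_card_of_surjective (π.subgroupMap (K.subgroupOf X))
          (π.subgroupMap_surjective _)).antisymm (Nat.card_le_card_of_injective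
            (π.subgroupMap (K.subgroupOf X)) fun k k' hkk => ?_)
        exact Subtype.ext (eq_of_mk (S := T) ((hT _).2 (hKS (mem_subgroupOf.1 k.2)))
          ((hT _).2 (hKS (mem_subgroupOf.1 k'.2))) (congrArg Subtype.val hkk))
      refine le_trans ?_ hcard.ge
      omega
    · intro q hq hq1
      refine ⟨hyk q hq, ?_⟩
      obtain ⟨k, hk, rfl⟩ := hq
      have hk1 : (k : G) ≠ 1 := fun e' => hq1 (by rw [show k = 1 from Subtype.ext e', map_one])
      have hyk' : y ∈ oc (k : G) := hbal e he he1 k (hKS hk) hk1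
        ⟨hye, mem_centralizer_singleton_iff.2 (mem_centralizer_comm.1 hyK k hk)⟩
      exact hM (hKS hk) (y := ⟨y, hyX⟩) hyk'

end Cfsg.Agent.Walter.Core
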