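import Cfsg.Agent.Lib.Walter.Core.ThreeDefs
import Cfsg.Agent.Lib.Walter.Core.ThreeCore

/-!
# Rank three: balanced cores are trivial

In the configuration `ThreeSys` balance makes the cores generate an odd group normalized by every involution
centraliser: by generation, or, without tori, because every odd `S`-invariant subgroup of `C(e)` lies in the core.
-/

set_option autoImplicit false
set_option linter.unusedSectionVars false
set_option linter.style.haveILetI false

open Subgroup
open Cfsg.Agent.SEAbelian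

namespace Cfsg.Agent.Walter.Core

universe u

variable {G : Type u} [Group G] [Finite G] {S : Sylow 2 G} {L : G → Subgroup G}

namespace ThreeSys

variable (hs : ThreeSys S L)

include hs

theorem omega_eq : omegaOf hs.abTwo S = (S : Subgroup G) :=
  Subgroup.ext fun x => ⟨fun hx => hx.1, fun hx => ⟨hx, hs.sq x hx⟩⟩

theorem le_cent {a : G} (ha : a ∈ (S : Subgroup G)) : (S : Subgroup G) ≤ centralizer ({a} : Set G) := fun b hb =>
  mem_centralizer_singleton_iff.2 (hs.abTwo _ S.2 b hb a ha).eq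

theorem transitive : ∀ a ∈ (S : Subgroup G), a ≠ 1 → ∀ b ∈ (S : Subgroup G), b ≠ 1 →
    ∃ n ∈ normalizer ((S : Subgroup G) : Set G), n * a * n⁻¹ = b := by
  intro a ha ha1 b hb hb1
  by_cases hab : a = b
  · exact ⟨1, one_mem _, by rw [hab]; group⟩
  have hsq := hs.sq
  have hpow : ∀ d ∈ (S : Subgroup G), ∀ z ∈ zpowers d, z = 1 ∨ z = d := by
    rintro d hd _ ⟨i, rfl⟩
    rcases Int.even_or_odd i with ⟨k, rfl⟩ | ⟨k, rfl⟩
    · left; show d ^ (k + k) = 1; rw [← two_mul, zpow_mul, zpow_two, hsq d hd, one_zpow]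
    · right; show d ^ (2 * k + 1) = d
      rw [zpow_add, zpow_mul, zpow_two, hsq d hd, one_zpow, one_mul, zpow_one]
  have hnorm : zpowers b ≤ normalizer (zpowers a : Set G) := by
    refine le_trans (zpowers_le.2 ?_) (centralizer_le_normalizer _)
    exact mem_centralizer_comm.2 fun y hy => (hs.abTwo _ S.2 b hb y ((zpowers_le.2 ha) hy)).eq
  have hd : Disjoint (zpowers a) (zpowers b) := by
    rw [disjoint_def]
    intro x hx hx'
    rcases hpow a ha x hx with rfl | rfl
    · rfl
    · exact (hpow b hb x hx').resolve_right hab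
  have hord : ∀ d ∈ (S : Subgroup G), d ≠ 1 → orderOf d = 2 := fun d hd hd1 =>
    orderOf_eq_prime (by rw [pow_two]; exact hsq d hd) hd1
  have hcard : Nat.card ↥(zpowers a ⊔ zpowers b) = 4 := by
    rw [Coprime.card_sup_of_disjoint hnorm hd, Nat.card_zpowers, Nat.card_zpowers, hord a ha ha1, hord b hb hb1]
  obtain ⟨n, hn, -, e⟩ := hs.tau _ (sup_le (zpowers_le.2 ha) (zpowers_le.2 hb)) hcard a
    (mem_sup_left (mem_zpowers a)) ha1 b (mem_sup_right (mem_zpowers b)) hb1
  exact ⟨n, hn, e⟩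

/-- Without tori, an odd `S`-invariant subgroup of `C(e)` lies in the core. -/
theorem le_oc_of_flat {e : G} (he : e ∈ (S : Subgroup G)) (he1 : e ≠ 1) (hflat : ThreeFlat S L e) {R : Subgroup G}
    (hR : Odd (Nat.card ↥R)) (hRC : R ≤ centralizer ({e} : Set G))
    (hSR : (S : Subgroup G) ≤ normalizer (R : Set G)) : R ≤ oc e := by
  haveI : Fact (Nat.Prime 2) := ⟨Nat.prime_two⟩
  set C := centralizer ({e} : Set G)
  have hA : Cfsg.IsElementaryAbelian 2 (S : Subgroup G) :=
    ⟨⟨⟨fun x y => Subtype.ext (hs.abTwo _ S.2 x x.2 y y.2).eq⟩⟩, fun a ha => by rw [pow_two]; exact hs.sq a ha⟩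
  have hT4 : Nat.card ↥((S : Subgroup G) ⊓ L e) = 4 := hs.four e he he1
  have heL := hs.not_mem e he he1
  have hLC : C ≤ normalizer (L e : Set G) := hs.cov_norm e he he1
  refine le_of_hyperplanes hA (by rw [hs.card_S]; norm_num) hR hSR ?_ ?_
  · -- fixed part
    rintro c ⟨hcR, hcS⟩
    obtain ⟨w, hw, hw1, -⟩ := exists_two hT4.ge (1 : G)
    refine hs.field e he he1 c hcS (odd_orderOf_of_mem hR hcR) w hw hw1 fun j hj => ?_
    set H := L e ⊓ centralizer ({w} : Set G)
    set D := C ⊓ centralizer ({w} : Set G)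
    have hHC : H ≤ C := inf_le_left.trans (hs.cov_le e he he1).2
    have hSD : (S : Subgroup G) ≤ D := le_inf (hs.le_cent he) (hs.le_cent hw.1)
    have hHn : D ≤ normalizer (H : Set G) :=
      (le_inf (inf_le_left.trans hLC) (inf_le_right.trans le_normalizer)).trans inf_normalizer_le_normalizer_inf
    set N := (oc e).subgroupOf H
    haveI : N.Normal := normal_subgroupOf_of_le_normalizer (hHC.trans (le_normalizer_coreOf _))
    have hp : IsPGroup 2 (↥H ⧸ N) := fun q => by
      obtain ⟨x, rfl⟩ := QuotientGroup.mk_surjective q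
      obtain ⟨k, m, hm, hk⟩ := exists_parts (x : G)
      refine ⟨k, ?_⟩
      rw [← QuotientGroup.mk_pow, QuotientGroup.eq_one_iff, mem_subgroupOf, Subgroup.coe_pow]
      exact hflat w hw hw1 _ (pow_mem x.2 _) (odd_orderOf_of_pow hm (by rw [← pow_mul, hk]))
    obtain ⟨k, hk⟩ := IsPGroup.iff_card.1 hp
    have hSodd : Odd (((S : Subgroup G)).relIndex H) := by
      have h1 : ((S : Subgroup G)).relIndex H ∣ ((S : Subgroup G)).relIndex D := by
        haveI : (H.subgroupOf D).Normal := normal_subgroupOf_of_le_normalizer hHn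
        have h2 := Agent.Cores.relIndex_dvd_index_right_normal ((S : Subgroup G).subgroupOf D) (H.subgroupOf D)
        rwa [relIndex_subgroupOf (show H ≤ D from le_inf hHC inf_le_right)] at h2
      refine Odd.of_dvd_nat ?_ h1
      rw [Nat.odd_iff, ← Nat.two_dvd_ne_zero]
      exact fun h2 => S.not_dvd_index (h2.trans (Dvd.intro _ (relIndex_mul_index hSD)))
    have htop : N ⊔ (S : Subgroup G).subgroupOf H = ⊤ := by
      rw [← index_eq_one]
      have h1 : (N ⊔ (S : Subgroup G).subgroupOf H).index ∣ 2 ^ k := by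
        rw [← hk, ← index_eq_card]
        exact index_dvd_of_le le_sup_left
      have h2 : (N ⊔ (S : Subgroup G).subgroupOf H).index ∣ ((S : Subgroup G)).relIndex H :=
        index_dvd_of_le le_sup_right
      exact Nat.eq_one_of_dvd_coprimes ((Nat.coprime_two_left.2 hSodd).pow_left k) h1 h2
    have hj' : (⟨j, hj⟩ : ↥H) ∈ N ⊔ (S : Subgroup G).subgroupOf H := htop ▸ mem_top _
    rw [← SetLike.mem_coe, normal_mul] at hj'
    obtain ⟨o, ho, s, hs', hos⟩ := hj'
    have hj2 : (o : G) * s = j := congrArg Subtype.val hos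
    rw [← hj2, show c * ((o : G) * s) * c⁻¹ * ((o : G) * s)⁻¹ =
      c * o * c⁻¹ * (c * s * c⁻¹) * (s : G)⁻¹ * (o : G)⁻¹ by group,
      show c * (s : G) * c⁻¹ = s by
        rw [mem_centralizer_comm.1 hcS s hs', mul_inv_cancel_right], mul_inv_cancel_right]
    exact mul_mem (oc_conj_mem (hRC hcR) ho) (inv_mem ho)
  · -- inverted part
    intro K hKS h2 y hy hyK v hv hvK hinv
    have hye : y * e = e * y := mem_centralizer_singleton_iff.1 (hRC hy)
    have hyo := odd_orderOf_of_mem hR hy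
    by_cases hy1 : y = 1
    · rw [hy1]; exact one_mem _
    have heK : e ∈ K := by
      by_contra heK
      refine hy1 (StronglyClosedFour.eq_one_of_sq hyo ?_)
      have h1 : Commute y (e * v) := mem_centralizer_comm.1 hyK _ (mul_mem_of_index_two hKS h2 he hv heK hvK)
      have h2' := (Commute.inv_right hye).mul_right h1
      rw [inv_mul_cancel_left] at h2'
      rw [← h2'.eq, mul_inv_cancel_right] at hinv
      calc y * y = y⁻¹ * y := by rw [← hinv]
        _ = 1 := inv_mul_cancel y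
    obtain ⟨w, hw, hw1, hwK⟩ : ∃ w ∈ (S : Subgroup G) ⊓ L e, w ≠ 1 ∧ w ∈ K := by
      obtain ⟨w1, hw1, hw11, -⟩ := exists_two hT4.ge (1 : G)
      obtain ⟨w2, hw2, hw21, hw12⟩ := exists_two hT4.ge w1
      by_cases h1 : w1 ∈ K
      · exact ⟨w1, hw1, hw11, h1⟩
      by_cases h2' : w2 ∈ K
      · exact ⟨w2, hw2, hw21, h2'⟩
      exact ⟨w1 * w2, mul_mem hw1 hw2, fun e' => hw12 (mul_left_cancel (e'.trans (hs.sq w1 hw1.1).symm)),
        mul_mem_of_index_two hKS h2 hw1.1 hw2.1 h1 h2'⟩
    refine hflat w hw hw1 y (mem_inf.2 ⟨?_, mem_centralizer_singleton_iff.2 (mem_centralizer_comm.1 hyK w hwK)⟩) hyo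
    -- `y` is inverted by an element of `L e`
    obtain ⟨l, hl, hly⟩ : ∃ l ∈ L e, l * y * l⁻¹ = y⁻¹ := by
      by_cases hvL : v ∈ L e
      · exact ⟨v, hvL, hinv⟩
      have h3 : e * v ∈ (S : Subgroup G) ⊓ L e := mul_mem_of_index_two inf_le_left
        (by rw [hT4, hs.card_S]) he hv (fun h' => heL h'.2) fun h' => hvL h'.2
      refine ⟨e * v, h3.2, ?_⟩
      calc e * v * y * (e * v)⁻¹ = e * (v * y * v⁻¹) * e⁻¹ := by group
        _ = e * y⁻¹ * e⁻¹ := by rw [hinv]
        _ = y⁻¹ := by rw [← (Commute.inv_left hye).eq, mul_inv_cancel_right]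
    have hyL : y ∈ normalizer (L e : Set G) := hLC (hRC hy)
    have h4 : l * (y * l⁻¹ * y⁻¹) ∈ L e := mul_mem hl ((mem_normalizer_iff.1 hyL _).1 (inv_mem hl))
    rw [show l * (y * l⁻¹ * y⁻¹) = l * y * l⁻¹ * y⁻¹ by group, hly, ← mul_inv_rev] at h4
    exact mem_of_sq hyo ((L e).inv_mem_iff.1 h4)

/-- Balanced cores are trivial in rank three. -/
theorem oc_eq_bot_of_balanced [IsSimpleGroup G] (hnc : ¬ IsMulCommutative G) (hbal : ThreeBalanced S)
    (hN : ∀ X : Subgroup G, X ≠ ⊤ → ∀ hSX : (S : Subgroup G) ≤ X,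
      ∀ J : Subgroup (↥X ⧸ Cfsg.oddCore ↥X), Cfsg.IsComponent J → CompNice (bar (S.subtype hSX)) J)
    (hX : ∀ M : Subgroup G, M ≠ ⊤ → NoTransSocle (↥M ⧸ Cfsg.oddCore ↥M)) :
    ∀ e ∈ (S : Subgroup G), e ≠ 1 → oc e = ⊥ := by
  have hom := hs.omega_eq
  have h8 : 8 ≤ Nat.card ↥(omegaOf hs.abTwo S) := by rw [hom, hs.card_S]
  have hbal' : Balanced (omegaOf hs.abTwo S) := by rw [hom]; exact hbal
  have htr : ∀ a ∈ omegaOf hs.abTwo S, a ≠ 1 → ∀ b ∈ omegaOf hs.abTwo S, b ≠ 1 →
      ∃ n ∈ normalizer ((S : Subgroup G) : Set G), n * a * n⁻¹ = b := by rw [hom]; exact hs.transitive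
  have hC : ∀ a ∈ omegaOf hs.abTwo S, a ≠ 1 →
      centralizer ({a} : Set G) ≤ normalizer (ocSup hs.abTwo S : Set G) := by
    by_cases hgen : ∃ e ∈ (S : Subgroup G), e ≠ 1 ∧ L e ≤ oc e ⊔
        ⨆ w : {w : G // w ∈ (S : Subgroup G) ⊓ L e ∧ w ≠ 1}, L e ⊓ centralizer ({(w : G)} : Set G)
    · obtain ⟨e, he, he1, hg⟩ := hgen
      have he' : e ∈ omegaOf hs.abTwo S := hom.symm ▸ he
      have h1 : centralizer ({e} : Set G) ≤ normalizer (ocSup hs.abTwo S : Set G) := by
        refine cent_le_of_gen hs.abTwo S h8 hbal' he' he1 ((hs.frattini e he he1).trans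
          (sup_le (hg.trans (sup_le (le_sup_left.trans le_sup_left) (iSup_le fun w => ?_)))
            (le_sup_right.trans le_sup_left)))
        refine le_trans ?_ le_sup_right
        have hew : e ∉ zpowers (w : G) := fun h' =>
          hs.not_mem e he he1 ((zpowers_le.2 w.2.1.2) h')
        have hK4 : 4 ≤ Nat.card ↥(zpowers e ⊔ zpowers (w : G)) := by
          have h2 := card_dvd_of_le (le_sup_right : zpowers (w : G) ≤ zpowers e ⊔ zpowers (w : G))
          rw [Nat.card_zpowers, orderOf_eq_prime (by rw [pow_two]; exact hs.sq _ w.2.1.1) w.2.2] at h2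
          obtain ⟨m, hm⟩ := h2
          have hne : zpowers (w : G) ≠ zpowers e ⊔ zpowers (w : G) := fun e' =>
            hew (e' ▸ mem_sup_left (mem_zpowers e))
          have hlt : Nat.card ↥(zpowers (w : G)) < Nat.card ↥(zpowers e ⊔ zpowers (w : G)) :=
            lt_of_not_ge fun hge => hne (eq_of_le_of_card_ge le_sup_right hge)
          rw [Nat.card_zpowers, orderOf_eq_prime (by rw [pow_two]; exact hs.sq _ w.2.1.1) w.2.2] at hlt
          omega
        refine le_iSup_of_le ⟨zpowers e ⊔ zpowers (w : G), ?_, hK4⟩ fun x hx => ?_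
        · rw [hom]
          exact sup_le (zpowers_le.2 he) (zpowers_le.2 w.2.1.1)
        · have hle : zpowers e ⊔ zpowers (w : G) ≤ centralizer ({x} : Set G) := sup_le
            (zpowers_le.2 (mem_centralizer_singleton_iff.2
              (mem_centralizer_singleton_iff.1 ((hs.cov_le e he he1).2 hx.1)).symm))
            (zpowers_le.2 (mem_centralizer_singleton_iff.2 (mem_centralizer_singleton_iff.1 hx.2).symm))
          exact mem_centralizer_comm.2 fun z hz => (mem_centralizer_singleton_iff.1 (hle hz)).symm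
      intro a ha ha1 g hg
      obtain ⟨n, hn, hne⟩ := htr a ha ha1 e he' he1
      have hnW := normalizer_le_ocSup hs.abTwo S h8 hbal' hn
      have h2 : n * g * n⁻¹ ∈ centralizer ({e} : Set G) := mem_centralizer_singleton_iff.2 (by
        rw [← hne, show n * g * n⁻¹ * (n * a * n⁻¹) = n * (g * a) * n⁻¹ by group,
          mem_centralizer_singleton_iff.1 hg]
        group)
      have := mul_mem (mul_mem (inv_mem hnW) (h1 h2)) hnW
      rwa [show n⁻¹ * (n * g * n⁻¹) * n = g by group] at this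
    · push Not at hgen
      have hflat : ∀ e ∈ (S : Subgroup G), e ≠ 1 → ThreeFlat S L e := fun e he he1 =>
        (hs.gen e he he1).resolve_left (hgen e he he1)
      intro a ha ha1
      refine cent_le_of_local hs.abTwo S h8 hbal' htr hnc ha ha1 fun X hXtop hAX _ e he he1 => ?_
      rw [hom] at hAX he
      refine ⟨oc_inf_le_core hs.abTwo S hs.sq hs.card_S.ge hbal hAX (hN X hXtop hAX) he he1, ?_⟩
      refine hs.le_oc_of_flat he he1 (hflat e he he1) ((odd_coreOf _).of_dvd_nat (card_dvd_of_le inf_le_left))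
        inf_le_right ?_
      exact (le_inf (hAX.trans (le_normalizer_coreOf X)) ((hs.le_cent he).trans le_normalizer)).trans
        inf_normalizer_le_normalizer_inf
  intro e he he1
  exact oc_eq_bot hs.abTwo S h8 hbal' hC hX e (hom.symm ▸ he) he1

end ThreeSys

end Cfsg.Agent.Walter.Core
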