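import Cfsg.Agent.Lib.Walter.Core.AtomSys
import Cfsg.Agent.Lib.Walter.Linear
import Cfsg.Agent.Lib.Walter.Irreducible
import Cfsg.Agent.Lib.Walter.Shape

/-!
# Rank three without any hypothesis on the cores

A simple group with abelian Sylow 2-subgroup `S`, `|Ω₁S| = 8` and an atom has elementary `S` of order eight,
`N(S)` transitive on `S#`, and exactly one atom, a four group, at each involution with an atom.
-/

set_option autoImplicit false
set_option linter.style.haveILetI false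
set_option linter.unusedSectionVars false

namespace Cfsg.Agent.Walter.Core

open Subgroup
open Cfsg.Agent.SEAbelian
open scoped Pointwise

universe u

variable {G : Type u} [Group G] [Finite G] {S : Sylow 2 G} {atoms : G → Set (Subgroup G × Subgroup G)}

/-- An automizer of the abelian Sylow subgroup has odd order. -/
theorem odd_actHom (hcomm : ∀ x ∈ (S : Subgroup G), ∀ y ∈ (S : Subgroup G), x * y = y * x) (U : Subgroup G)
    (hU : normalizer ((S : Subgroup G) : Set G) ≤ normalizer (U : Set G)) (hUS : U ≤ (S : Subgroup G)) :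
    Odd (Nat.card ↥(actHom S U hU).range) := by
  rw [Nat.odd_iff, ← Nat.two_dvd_ne_zero]
  intro h2
  haveI : Fact (Nat.Prime 2) := ⟨Nat.prime_two⟩
  obtain ⟨⟨q, n, rfl⟩, hq⟩ := exists_prime_orderOf_dvd_card' 2 h2
  obtain ⟨m, hm, hnm⟩ := odd_part_mem S n.2
  have h1 : (actHom S U hU n) ^ m = 1 := by
    rw [← map_pow]
    ext u
    rw [actHom_apply, MulAut.one_apply, coe_pow, hcomm _ hnm _ (hUS u.2), mul_inv_cancel_right]
  have hq' : orderOf (actHom S U hU n) = 2 := (Subgroup.orderOf_mk _ _).symm.trans hq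
  have := hq'.symm.dvd.trans (orderOf_dvd_of_pow_eq_one h1)
  obtain ⟨k, rfl⟩ := hm
  omega

namespace AtomSys

variable (h : AtomSys S atoms)

include h

/-- `W` is elementary. -/
theorem left_sq {a : G} (haS : a ∈ (S : Subgroup G)) (ha : orderOf a = 2) {A : Subgroup G × Subgroup G}
    (hA : A ∈ atoms a) {u : G} (hu : u ∈ A.1) : u * u = 1 := by
  by_cases hu1 : u = 1
  · rw [hu1, one_mul]
  obtain ⟨k, hk⟩ := exists_two_pow (S := S) (h.left_le a haS ha A hA hu)
  obtain ⟨j, hj⟩ := exists_involution_pow hk hu1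
  obtain ⟨D, -, -, -, n, -, -, e⟩ := h.trans a haS ha A hA _ (pow_mem hu j) (ne_one_of_orderOf_two hj) u hu hu1
  have h2 : u ^ j * u ^ j = 1 := by
    rw [← pow_two]
    exact orderOf_dvd_iff_pow_eq_one.1 hj.dvd
  rw [← e, show n * u ^ j * n⁻¹ * (n * u ^ j * n⁻¹) = n * (u ^ j * u ^ j) * n⁻¹ by group, h2, mul_one,
    mul_inv_cancel]

/-- Rank three. -/
theorem three [IsSimpleGroup G] (hnc : ¬ IsMulCommutative G) (hΩ : Nat.card ↥(CompSys.omega S h.comm) = 8) {a : G}
    (haS : a ∈ (S : Subgroup G)) (ha : orderOf a = 2) {A : Subgroup G × Subgroup G} (hA : A ∈ atoms a) :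
    Nat.card ↥(S : Subgroup G) = 8 ∧ (∀ x ∈ (S : Subgroup G), x * x = 1) ∧
      (∀ u ∈ (S : Subgroup G), u ≠ 1 → ∀ v ∈ (S : Subgroup G), v ≠ 1 →
        ∃ n ∈ normalizer ((S : Subgroup G) : Set G), n * u * n⁻¹ = v) ∧
      Nat.card ↥A.1 = 4 ∧ A.2 = zpowers a ∧ ∀ A' ∈ atoms a, A' = A := by
  classical
  haveI : Fact (Nat.Prime 2) := ⟨Nat.prime_two⟩
  have hab : AbTwo G := abTwo_of_sylow S ⟨⟨fun x y => Subtype.ext (h.comm _ x.2 _ y.2)⟩⟩
  have ha1 : a ≠ 1 := ne_one_of_orderOf_two ha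
  have haa : a * a = 1 := by rw [← pow_two]; exact orderOf_dvd_iff_pow_eq_one.1 ha.dvd
  set U := CompSys.omega S h.comm with hUdef
  have hUS : U ≤ (S : Subgroup G) := fun x hx => hx.1
  have hUN : normalizer ((S : Subgroup G) : Set G) ≤ normalizer (U : Set G) := fun n hn =>
    mem_normalizer_iff.2 fun x => by
      show x ∈ (S : Subgroup G) ∧ x * x = 1 ↔ n * x * n⁻¹ ∈ (S : Subgroup G) ∧ _ = 1
      rw [← mem_normalizer_iff.1 hn x, show n * x * n⁻¹ * (n * x * n⁻¹) = n * (x * x) * n⁻¹ by group,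
        conj_eq_one_iff]
  set W := A.1
  set B := A.2
  set X := B ⊓ U with hX
  have hWU : W ≤ U := fun x hx => ⟨h.left_le a haS ha A hA hx, h.left_sq haS ha hA hx⟩
  have haX : a ∈ X := ⟨h.self a haS ha A hA, haS, haa⟩
  have hW4 := h.four a haS ha A hA
  have hWX : Nat.card ↥W * Nat.card ↥X ≤ 8 := hΩ ▸
    card_mul_le (U := U) hWU inf_le_right fun x hx hx' => h.disj a haS ha A hA x hx hx'.1
  have hX2 : 2 ≤ Nat.card ↥X := by
    have h1 := Subgroup.card_le_of_le (show zpowers a ≤ X from zpowers_le.2 haX)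
    rwa [Nat.card_zpowers, ha] at h1
  have hW : Nat.card ↥W = 4 := by nlinarith
  have hXc : Nat.card ↥X = 2 := by rw [hW] at hWX; omega
  have hXa : X = zpowers a :=
    (eq_of_le_of_card_ge (zpowers_le.2 haX) (by rw [hXc, Nat.card_zpowers, ha])).symm
  have hXmem : ∀ x ∈ X, x = 1 ∨ x = a := fun x hx => by
    rw [hXa, mem_zpowers_iff_mem_range_orderOf, ha] at hx
    simp only [Finset.mem_image, Finset.mem_range] at hx
    obtain ⟨i, hi, rfl⟩ := hx
    interval_cases i <;> simp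
  have huniq : ∀ A' ∈ atoms a, A' = A := fun A' hA' => by
    by_contra hne
    have h1 : A'.1 ≤ X := le_inf (h.other a haS ha A hA A' hA' hne)
      fun x hx => ⟨h.left_le a haS ha A' hA' hx, h.left_sq haS ha hA' hx⟩
    have := h.four a haS ha A' hA'
    have := Subgroup.card_le_of_le h1
    omega
  have hstab : ∀ n ∈ normalizer ((S : Subgroup G) : Set G), n * a * n⁻¹ = a → MulAut.conj n • W = W :=
    fun n hn e => by
      have h1 := h.conj a haS ha n hn A hA
      rw [e] at h1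
      exact congrArg Prod.fst (huniq _ h1)
  -- the action on `Ω₁S`
  letI : CommGroup ↥U :=
    { (inferInstance : Group ↥U) with mul_comm := fun a b => Subtype.ext (h.comm _ (hUS a.2) _ (hUS b.2)) }
  haveI : Finite ↥(actHom S U hUN).range := inferInstance
  letI : MulDistribMulAction ↥(actHom S U hUN).range ↥U :=
    { smul := fun q u => (q : MulAut ↥U) u
      one_smul := fun u => rfl
      mul_smul := fun q r u => rfl
      smul_mul := fun q u v => map_mul (q : MulAut ↥U) u v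
      smul_one := fun q => map_one (q : MulAut ↥U) }
  have hrr : ∀ (n : ↥(normalizer ((S : Subgroup G) : Set G))) (u : ↥U),
      (((actHom S U hUN).rangeRestrict n • u : ↥U) : G) = (n : G) * u * (n : G)⁻¹ := fun n u => rfl
  have hodd := odd_actHom h.comm U hUN hUS
  have hWu : ∀ u : ↥U, u ∈ W.subgroupOf U ↔ (u : G) ∈ W := fun u => mem_subgroupOf
  have hXu : ∀ u : ↥U, u ∈ X.subgroupOf U ↔ (u : G) ∈ X := fun u => mem_subgroupOf
  have hspan : ∀ v : ↥U, ∃ w ∈ W.subgroupOf U, ∃ x ∈ X.subgroupOf U, w * x = v := fun v => by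
    obtain ⟨w, hw, c, hc, e⟩ := h.split a haS ha A hA v (hUS v.2)
    have hcU : c ∈ U := by
      have := mul_mem (inv_mem (hWU hw)) v.2
      rwa [← e, inv_mul_cancel_left] at this
    exact ⟨⟨w, hWU hw⟩, hw, ⟨c, hcU⟩, ⟨hc, hcU⟩, Subtype.ext e⟩
  have hmove : ∃ q : ↥(actHom S U hUN).range, q • W.subgroupOf U ≠ W.subgroupOf U := by
    by_contra hcon
    push Not at hcon
    obtain ⟨B', hB', hdisj, hsp⟩ := exists_invariant_compl (V := ↥U) (Q := ↥(actHom S U hUN).range) hodd
      (fun v => Subtype.ext v.2.2) (W.subgroupOf U) fun q x hx => by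
        have := smul_mem_pointwise_smul x q (W.subgroupOf U) hx
        exact (hcon q).le this
    obtain ⟨w, hw, b, hb, e⟩ := hsp ⟨a, hUS haX.2, haX.2.2⟩
    have hbW : ∀ y ∈ B', y ∉ W.subgroupOf U → ∀ z ∈ B', z ∉ W.subgroupOf U → y = z := by
      intro y hy hy' z hz hz'
      obtain ⟨w1, hw1, x1, hx1, e1⟩ := hspan y
      obtain ⟨w2, hw2, x2, hx2, e2⟩ := hspan z
      have hx : ∀ x : ↥U, x ∈ X.subgroupOf U → ∀ w ∈ W.subgroupOf U, w * x ∉ W.subgroupOf U →
          (x : G) = a := fun x hx w hw hwx => (hXmem _ hx).resolve_left fun e => hwx (by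
        rw [show x = 1 from Subtype.ext e, mul_one]; exact hw)
      have he : x1 = x2 := Subtype.ext ((hx x1 hx1 w1 hw1 (e1 ▸ hy')).trans
        (hx x2 hx2 w2 hw2 (e2 ▸ hz')).symm)
      have h1 : y * z⁻¹ ∈ W.subgroupOf U := by
        rw [← e1, ← e2, he, mul_inv_rev, show w1 * x2 * (x2⁻¹ * w2⁻¹) = w1 * w2⁻¹ by group]
        exact mul_mem hw1 (inv_mem hw2)
      exact mul_inv_eq_one.1 (hdisj _ h1 (mul_mem hy (inv_mem hz)))
    have hbn : b ∉ W.subgroupOf U := fun hbW' => ha1 (h.disj a haS ha A hA a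
      (by
        have h1 : (⟨a, hUS haX.2, haX.2.2⟩ : ↥U) ∈ W.subgroupOf U := e ▸ mul_mem hw hbW'
        exact h1) haX.1)
    have hbfix : ∀ n ∈ normalizer ((S : Subgroup G) : Set G), n * (b : G) * n⁻¹ = b := by
      intro n hn
      set q := (actHom S U hUN).rangeRestrict ⟨n, hn⟩
      refine congrArg Subtype.val (hbW (q • b) (hB' q b hb) (fun hq => hbn ?_) b hb hbn : q • b = b)
      have := smul_mem_pointwise_smul (q • b) q⁻¹ (W.subgroupOf U) hq
      have h2 : q⁻¹ • q • b ∈ W.subgroupOf U := (hcon q⁻¹).le this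
      rwa [inv_smul_smul] at h2
    exact hbn ((hWu b).2 (by rw [fixed_eq_one_of_simple hnc hab S (hUS b.2) hbfix]; exact one_mem W))
  have hsp : SpreadHyp (V := ↥U) ↥(actHom S U hUN).range (W.subgroupOf U) (X.subgroupOf U) := by
    refine ⟨hodd, fun v => Subtype.ext v.2.2, fun v hw hx => Subtype.ext (h.disj a haS ha A hA _ hw hx.1),
      hspan, ?_, ⟨⟨a, haX.2⟩, haX, fun e => ha1 (congrArg Subtype.val e)⟩, fun u hu hu1 v hv hv1 => ?_,
      fun q hq => ?_, fun q hq v hv hv' => ?_, hmove⟩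
    · rw [Nat.card_congr (subgroupOfEquivOfLe hWU).toEquiv]
      exact hW4
    · obtain ⟨D, -, -, hDB, n, hnD, hn, e⟩ := h.trans a haS ha A hA u hu (fun e => hu1 (Subtype.ext e)) v hv
        (fun e => hv1 (Subtype.ext e))
      refine ⟨(actHom S U hUN).rangeRestrict ⟨n, hn⟩, Subtype.ext e, fun x hx => Subtype.ext ?_⟩
      rw [hrr]
      show n * (x : G) * n⁻¹ = x
      rw [← mem_centralizer_iff.1 (hDB hnD) (x : G) hx.1, mul_inv_cancel_right]
    · obtain ⟨n, rfl⟩ := (actHom S U hUN).rangeRestrict_surjective q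
      have hna : (n : G) * a * (n : G)⁻¹ = a := by
        have h1 := smul_mem_pointwise_smul (⟨a, haX.2⟩ : ↥U) ((actHom S U hUN).rangeRestrict n)
          (X.subgroupOf U) haX
        rw [hq, hXu, hrr] at h1
        exact (hXmem _ h1).resolve_left fun e => ha1 (conj_eq_one_iff.1 e)
      ext u
      rw [mem_pointwise_smul_iff_inv_smul_mem, hWu, hWu, ← map_inv, hrr, coe_inv, inv_inv, ← mem_conj,
        hstab n n.2 hna]
    · by_contra hv1
      apply hq
      have e1 : (v : G) = a := (hXmem _ hv).resolve_left fun e => hv1 (Subtype.ext e)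
      refine (eq_of_le_of_card_ge ?_ ?_).symm
      · intro x hx
        rcases hXmem _ hx with e | e
        · rw [show x = 1 from Subtype.ext e]
          exact one_mem _
        · rwa [show x = v from Subtype.ext (e.trans e1.symm)]
      · exact (Nat.card_congr (equivSMul q (X.subgroupOf U)).toEquiv).symm.le
  obtain ⟨-, -, -, htr⟩ := hsp.main
  have htrU : ∀ u ∈ U, u ≠ 1 → ∀ v ∈ U, v ≠ 1 →
      ∃ n ∈ normalizer ((S : Subgroup G) : Set G), n * u * n⁻¹ = v := fun u hu hu1 v hv hv1 => by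
    obtain ⟨q, e⟩ := htr ⟨u, hu⟩ ⟨v, hv⟩ (fun e => hu1 (congrArg Subtype.val e))
      (fun e => hv1 (congrArg Subtype.val e))
    obtain ⟨n, rfl⟩ := (actHom S U hUN).rangeRestrict_surjective q
    exact ⟨n, n.2, congrArg Subtype.val e⟩
  have hel : ∀ x ∈ (S : Subgroup G), x * x = 1 := by
    by_contra hcon
    push Not at hcon
    obtain ⟨x, hx, hx2⟩ := hcon
    obtain ⟨k, hk⟩ := exists_two_pow (S := S) hx
    obtain ⟨j, hj⟩ := exists_involution_pow (x := x * x) (k := k) (by
      rw [← pow_two, ← pow_mul, mul_comm, pow_mul, hk, one_pow]) hx2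
    have hyU : (x * x) ^ j ∈ U := ⟨pow_mem (mul_mem hx hx) j, by
      rw [← pow_two]
      exact orderOf_dvd_iff_pow_eq_one.1 hj.dvd⟩
    obtain ⟨u, hu, hu1⟩ : ∃ u ∈ W, u ≠ 1 := by
      by_contra hc'
      push Not at hc'
      rw [(eq_bot_iff_forall W).2 hc', card_bot] at hW
      omega
    obtain ⟨n, hn, e⟩ := htrU _ hyU (ne_one_of_orderOf_two hj) u (hWU hu) hu1
    obtain ⟨w, hw, c, hc, e'⟩ := h.split a haS ha A hA (n * x ^ j * n⁻¹)
      ((mem_normalizer_iff.1 hn _).1 (pow_mem hx j))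
    refine hu1 (h.disj a haS ha A hA u hu ?_)
    have hwS := h.left_le a haS ha A hA hw
    have hcS := h.right_le a haS ha A hA hc
    have heq : u = c * c := by
      rw [← e, (show Commute x x from Commute.refl x).mul_pow,
        show n * (x ^ j * x ^ j) * n⁻¹ = n * x ^ j * n⁻¹ * (n * x ^ j * n⁻¹) by group, ← e',
        show w * c * (w * c) = w * (c * w) * c by group, h.comm c hcS w hwS,
        show w * (w * c) * c = w * w * (c * c) by group, h.left_sq haS ha hA hw, one_mul]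
    exact heq ▸ mul_mem hc hc
  have hUeq : U = (S : Subgroup G) := le_antisymm hUS fun x hx => ⟨hx, hel x hx⟩
  refine ⟨hUeq ▸ hΩ, hel, fun u hu hu1 v hv hv1 => htrU u (hUeq ▸ hu) hu1 v (hUeq ▸ hv) hv1, hW, ?_, huniq⟩
  rw [← hXa, hX, eq_comm, inf_eq_left, hUeq]
  exact h.right_le a haS ha A hA

end AtomSys

end Cfsg.Agent.Walter.Core
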