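import Cfsg.Agent.Lib.Walter.Core.ThreeDefs
import Cfsg.Agent.Lib.Walter.Core.ThreeShape
import Cfsg.Agent.Lib.Walter.Core.Sys
import Cfsg.Agent.Lib.Walter.Core.NiceKnown

/-!
# The rank three configuration exists

`exists_threeSys`: in rank three with a non-solvable involution centraliser, `S` is elementary of order eight and
`L e`, the preimage of the component of `C(e)/O(C(e))`, satisfies `ThreeSys`.
-/

set_option autoImplicit false
set_option linter.style.haveILetI false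
set_option linter.unusedSectionVars false

namespace Cfsg.Agent.Walter.Core

open Subgroup
open Cfsg.Agent.SEAbelian
open scoped Pointwise

universe u

variable {G : Type u} [Group G] [Finite G]

/-- Either the tori generate, or they are trivial. -/
theorem OddPSL.gen_or_flat {T : Type u} [Group T] [Finite T] [IsSimpleGroup T] (ho : OddPSL T)
    (hnc : ¬ IsMulCommutative T) (h : AbTwo T) (P : Sylow 2 T) :
    (⨆ w : {w : T // w ∈ (P : Subgroup T) ∧ w ≠ 1}, centralizer ({(w : T)} : Set T)) = ⊤ ∨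
      ∀ w ∈ (P : Subgroup T), w ≠ 1 → centralizer ({w} : Set T) ≤ (P : Subgroup T) := by
  classical
  rcases ho.cases with ⟨hc4, -⟩ | hco
  · exact Or.inr (ho.small_cent hnc h hc4 P)
  refine Or.inl ?_
  have h1 := ho.one hnc h
  obtain ⟨i, hi, hi1⟩ := (P : Subgroup T).bot_or_exists_ne_one.resolve_left fun e => by
    have := ho.sylow P
    rw [e, card_bot] at this
    omega
  obtain ⟨j, hj, hj1, hji⟩ : ∃ j ∈ (P : Subgroup T), j ≠ 1 ∧ j ≠ i := by
    by_contra hcon
    push Not at hcon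
    have hle : (P : Subgroup T) ≤ zpowers i := fun j hj => by
      by_cases hj1 : j = 1
      · exact hj1 ▸ one_mem _
      · exact (hcon j hj hj1) ▸ mem_zpowers i
    have := card_le_of_le hle
    rw [Nat.card_zpowers, orderOf_two_of_oneTwoClass h1 hi hi1, ho.sylow P] at this
    omega
  have hio := orderOf_two_of_oneTwoClass h1 hi hi1
  have hjo := orderOf_two_of_oneTwoClass h1 hj hj1
  obtain ⟨hmax, h5⟩ := hco i hio
  refine hmax.2 _ (lt_of_le_of_ne (le_iSup_of_le ⟨i, hi, hi1⟩ le_rfl) fun e => ?_)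
  have hji' : centralizer ({j} : Set T) ≤ centralizer ({i} : Set T) :=
    (le_iSup (fun w : {w : T // w ∈ (P : Subgroup T) ∧ w ≠ 1} => centralizer ({(w : T)} : Set T))
      ⟨j, hj, hj1⟩).trans e.ge
  have hle : (centralizer ({j} : Set T) : Set T) ⊆ {1, i, j, i * j} := fun x hx =>
    ho.four i j x hio hjo (h _ P.2 i hi j hj) hji.symm (mem_centralizer_singleton_iff.1 (hji' hx))
      (mem_centralizer_singleton_iff.1 hx)
  have h2 := Set.ncard_le_ncard hle (Set.toFinite _)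
  rw [← Nat.card_coe_set_eq] at h2
  have h3 : ({1, i, j, i * j} : Set T).ncard ≤ 4 :=
    (Set.ncard_insert_le _ _).trans (Nat.add_le_add_right ((Set.ncard_insert_le _ _).trans
      (Nat.add_le_add_right ((Set.ncard_insert_le _ _).trans (by rw [Set.ncard_singleton])) 1)) 1)
  have h4 := (hco j hjo).2
  replace h2 : Nat.card ↥(centralizer ({j} : Set T)) ≤ ({1, i, j, i * j} : Set T).ncard := h2
  omega

variable {S : Sylow 2 G}

/-- The join of the covering subgroups at `a`. -/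
def covL (a : G) : Subgroup G := ⨆ J ∈ covOf a, J

namespace Ctx

variable (c : Ctx S (S : Subgroup G)) (h8 : Nat.card ↥(S : Subgroup G) = 8)

include c h8

theorem bd_three {a : G} (ha : a ∈ (S : Subgroup G)) (ha1 : a ≠ 1) {J : Subgroup G} (hJ : J ∈ covOf a) :
    Nat.card ↥((S : Subgroup G) ⊓ J) = 4 ∧ ∀ x ∈ bdOf (S : Subgroup G) a J, x = 1 ∨ x = a := by
  have hW := c.four ha ha1 hJ
  have hB : bdOf (S : Subgroup G) a J ≤ (S : Subgroup G) := fun x hx => ((c.bd_iff ha hJ x).1 hx).1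
  have hinj : Function.Injective
      (fun p : ↥((S : Subgroup G) ⊓ J) × ↥(bdOf (S : Subgroup G) a J) =>
        (⟨(p.1 : G) * p.2, mul_mem p.1.2.1 (hB p.2.2)⟩ : ↥(S : Subgroup G))) := by
    rintro ⟨w, d⟩ ⟨w', d'⟩ e
    have e' : (w : G) * d = w' * d' := congrArg Subtype.val e
    have h1 : (w' : G)⁻¹ * w = (d' : G) * (d : G)⁻¹ := by
      rw [inv_mul_eq_iff_eq_mul, ← mul_assoc, ← e', mul_inv_cancel_right]
    have h2 := c.disj ha hJ _ (mul_mem (inv_mem w'.2) w.2) (h1 ▸ mul_mem d'.2 (inv_mem d.2))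
    obtain rfl : w' = w := Subtype.ext (inv_mul_eq_one.1 h2)
    exact Prod.ext rfl (Subtype.ext (mul_left_cancel e'))
  have hle := Nat.card_le_card_of_injective _ hinj
  rw [Nat.card_prod, h8] at hle
  have hB2 : zpowers a ≤ bdOf (S : Subgroup G) a J := zpowers_le.2 (c.self ha hJ)
  have h2 : 2 ≤ Nat.card ↥(bdOf (S : Subgroup G) a J) := by
    have := card_le_of_le hB2
    rwa [Nat.card_zpowers, c.order_two ha ha1] at this
  refine ⟨by nlinarith, fun x hx => ?_⟩
  have heq := eq_of_le_of_card_ge hB2 (by rw [Nat.card_zpowers, c.order_two ha ha1]; nlinarith)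
  have hx' : x ∈ zpowers a := heq ▸ hx
  obtain ⟨i, rfl⟩ := hx'
  have h22 : a ^ (2 : ℤ) = 1 := by simp [pow_two, c.sq ha]
  rcases Int.even_or_odd i with ⟨k, rfl⟩ | ⟨k, rfl⟩
  · left; show a ^ (k + k) = 1; rw [← two_mul, zpow_mul, h22, one_zpow]
  · right; show a ^ (2 * k + 1) = a; rw [zpow_add, zpow_mul, h22, one_zpow, one_mul, zpow_one]

theorem cov_unique {a : G} (ha : a ∈ (S : Subgroup G)) (ha1 : a ≠ 1) {J J' : Subgroup G} (hJ : J ∈ covOf a)
    (hJ' : J' ∈ covOf a) : J' = J := by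
  by_contra hne
  have hle : (S : Subgroup G) ⊓ J' ≤ zpowers a := fun x hx => by
    rcases (c.bd_three h8 ha ha1 hJ).2 x (c.orth ha hJ' hJ hne hx) with e | e <;> rw [e]
    exacts [one_mem _, mem_zpowers a]
  have := card_le_of_le hle
  rw [(c.bd_three h8 ha ha1 hJ').1, Nat.card_zpowers, c.order_two ha ha1] at this
  omega

theorem covL_eq {a : G} (ha : a ∈ (S : Subgroup G)) (ha1 : a ≠ 1) {J : Subgroup G} (hJ : J ∈ covOf a) :
    covL a = J := by
  refine le_antisymm (iSup₂_le fun J' hJ' => (c.cov_unique h8 ha ha1 hJ hJ').le) ?_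
  exact le_iSup₂ (f := fun (J : Subgroup G) (_ : J ∈ covOf a) => J) J hJ

/-- `S` is the trace times `⟨a⟩`. -/
theorem exists_split_three {a : G} (ha : a ∈ (S : Subgroup G)) (ha1 : a ≠ 1) {J : Subgroup G} (hJ : J ∈ covOf a)
    {x : G} (hx : x ∈ (S : Subgroup G)) : ∃ w ∈ (S : Subgroup G) ⊓ J, x = w ∨ x = w * a := by
  have h1 := c.span ha ha1 hJ hx
  have hn : bdOf (S : Subgroup G) a J ≤ normalizer (((S : Subgroup G) ⊓ J : Subgroup G) : Set G) := fun d hd =>
    centralizer_le_normalizer _ (mem_centralizer_iff.2 fun w hw => c.comm hw.1 ((c.bd_iff ha hJ d).1 hd).1)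
  rw [← SetLike.mem_coe, coe_mul_of_right_le_normalizer_left _ _ hn] at h1
  obtain ⟨w, hw, d, hd, rfl⟩ := h1
  refine ⟨w, hw, ?_⟩
  rcases (c.bd_three h8 ha ha1 hJ).2 d hd with e | e
  · left; show w * d = w; rw [e, mul_one]
  · right; show w * d = w * a; rw [e]

/-- `N(S)` cycles each four group, all of them being traces. -/
theorem tau (hall : ∀ a ∈ (S : Subgroup G), a ≠ 1 → ∃ J, J ∈ covOf a) :
    ∀ K ≤ (S : Subgroup G), Nat.card ↥K = 4 → ∀ u ∈ K, u ≠ 1 → ∀ k ∈ K, k ≠ 1 →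
      ∃ n ∈ normalizer ((S : Subgroup G) : Set G), n ∈ normalizer (K : Set G) ∧ n * u * n⁻¹ = k := by
  classical
  choose J hJ using hall
  haveI : Fact (Nat.Prime 2) := ⟨Nat.prime_two⟩
  -- the torus at `a` fixes only `⟨a⟩`
  have htor : ∀ a (ha : a ∈ (S : Subgroup G)) (ha1 : a ≠ 1), ∀ u ∈ (S : Subgroup G) ⊓ J a ha ha1, u ≠ 1 →
      ∀ v ∈ (S : Subgroup G) ⊓ J a ha ha1, v ≠ 1 → ∃ n : G, n ∈ normalizer ((S : Subgroup G) : Set G) ∧
        n ∈ normalizer (((S : Subgroup G) ⊓ J a ha ha1 : Subgroup G) : Set G) ∧ n * u * n⁻¹ = v ∧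
          n * a * n⁻¹ = a := by
    intro a ha ha1 u hu hu1 v hv hv1
    obtain ⟨n, ⟨hnJ, hnB⟩, hnS, e⟩ := c.torus ha ha1 (hJ a ha ha1) u hu hu1 v hv hv1
    refine ⟨n, hnS, inf_normalizer_le_normalizer_inf ⟨hnS, le_normalizer hnJ⟩, e, ?_⟩
    rw [(mem_centralizer_iff.1 hnB a (c.self ha (hJ a ha ha1))).symm, mul_inv_cancel_right]
  -- `N(S)` acts through an odd group
  have hodd : ∀ n ∈ normalizer ((S : Subgroup G) : Set G), ∀ x ∈ (S : Subgroup G), ∀ y ∈ (S : Subgroup G),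
      n * x * n⁻¹ = x * y → n * y * n⁻¹ = y → y = 1 := by
    intro n hn x hx y hy e1 e2
    obtain ⟨m, hm, hnm⟩ := odd_part_mem S hn
    have hpow : ∀ k : ℕ, n ^ k * x * (n ^ k)⁻¹ = x * y ^ k := by
      intro k
      induction k with
      | zero => simp
      | succ k ih =>
        have hyk : n * y ^ k * n⁻¹ = y ^ k := by rw [← conj_pow, e2]
        rw [pow_succ', show n * n ^ k * x * (n * n ^ k)⁻¹ = n * (n ^ k * x * (n ^ k)⁻¹) * n⁻¹ by group, ih,
          show n * (x * y ^ k) * n⁻¹ = (n * x * n⁻¹) * (n * y ^ k * n⁻¹) by group, e1, hyk, mul_assoc, pow_succ']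
    have h1 := hpow m
    rw [(c.ab _ S.2 _ hnm x hx).eq, mul_inv_cancel_right, left_eq_mul] at h1
    obtain ⟨k, rfl⟩ := hm
    rwa [pow_succ, pow_mul, pow_two, c.sq hy, one_pow, one_mul] at h1
  have hinj : ∀ a (ha : a ∈ (S : Subgroup G)) (ha1 : a ≠ 1) b (hb : b ∈ (S : Subgroup G)) (hb1 : b ≠ 1),
      (S : Subgroup G) ⊓ J a ha ha1 = (S : Subgroup G) ⊓ J b hb hb1 → a = b := by
    intro a ha ha1 b hb hb1 hab
    set W := (S : Subgroup G) ⊓ J a ha ha1 with hW
    have h4 : Nat.card ↥W = 4 := (c.bd_three h8 ha ha1 (hJ a ha ha1)).1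
    obtain ⟨u, hu, hu1⟩ := W.bot_or_exists_ne_one.resolve_left fun e => by rw [e, card_bot] at h4; omega
    obtain ⟨v, hv, hv1, hvu⟩ : ∃ v ∈ W, v ≠ 1 ∧ v ≠ u := by
      by_contra hcon
      push Not at hcon
      have hle : W ≤ zpowers u := fun x hx => by
        by_cases hx1 : x = 1
        · exact hx1 ▸ one_mem _
        · exact (hcon x hx hx1) ▸ mem_zpowers u
      have := card_le_of_le hle
      rw [Nat.card_zpowers, c.order_two hu.1 hu1, h4] at this
      omega
    obtain ⟨n, hnS, hnW, hnu, hna⟩ := htor a ha ha1 u hu hu1 v hv hv1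
    obtain ⟨n', hn'S, hn'W, hn'u, hn'b⟩ := htor b hb hb1 u (hab ▸ hu) hu1 v (hab ▸ hv) hv1
    rw [← hab] at hn'W
    -- the four elements of `W`
    have hWmem : ∀ x ∈ W, x = 1 ∨ x = u ∨ x = v ∨ x = u * v := by
      have hsub : ({1, u, v, u * v} : Set G) ⊆ (W : Set G) := by
        rintro x (rfl | rfl | rfl | rfl)
        exacts [one_mem W, hu, hv, mul_mem hu hv]
      have hn4 : ({1, u, v, u * v} : Set G).ncard = 4 := by
        have huv : u * v ≠ 1 := fun e => hvu (by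
          rw [eq_inv_of_mul_eq_one_right e, inv_eq_of_mul_eq_one_right (c.sq hu.1)])
        rw [Set.ncard_insert_of_notMem (by simp [hu1.symm, hv1.symm, huv.symm]),
          Set.ncard_insert_of_notMem (by simp [hvu.symm, hv1]), Set.ncard_pair (by simp [hu1])]
      have heq := Set.eq_of_subset_of_ncard_le hsub (by rw [← Nat.card_coe_set_eq, hn4]; exact h4.le)
        (Set.toFinite _)
      intro x hx
      have : x ∈ ({1, u, v, u * v} : Set G) := heq ▸ hx
      simpa using this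
    have huv : n * v * n⁻¹ = u * v ∧ n' * v * n'⁻¹ = u * v := by
      have key : ∀ m : G, m ∈ normalizer ((S : Subgroup G) : Set G) → m ∈ normalizer (W : Set G) →
          m * u * m⁻¹ = v → m * v * m⁻¹ = u * v := by
        intro m hmS hmW e
        rcases hWmem _ ((mem_normalizer_iff.1 hmW v).1 hv) with e' | e' | e' | e'
        · exact absurd (conj_eq_one_iff.1 e') hv1
        · refine absurd ?_ hvu
          have h1 := hodd m hmS u hu.1 (u * v) (mul_mem hu.1 hv.1) (by rw [e, ← mul_assoc, c.sq hu.1, one_mul])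
            (by rw [show m * (u * v) * m⁻¹ = (m * u * m⁻¹) * (m * v * m⁻¹) by group, e, e', c.comm hv.1 hu.1])
          rw [eq_inv_of_mul_eq_one_right h1, inv_eq_of_mul_eq_one_right (c.sq hu.1)]
        · exact absurd (mul_left_cancel (mul_right_cancel (e'.trans e.symm))) hvu
        · exact e'
      exact ⟨key n hnS hnW hnu, key n' hn'S hn'W hn'u⟩
    -- both tori act equally
    set m := n'⁻¹ * n with hm
    have hmS : m ∈ normalizer ((S : Subgroup G) : Set G) := mul_mem (inv_mem hn'S) hnS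
    have hmW : ∀ x ∈ W, m * x * m⁻¹ = x := by
      intro x hx
      have hu' : m * u * m⁻¹ = u := by
        rw [hm, show n'⁻¹ * n * u * (n'⁻¹ * n)⁻¹ = n'⁻¹ * (n * u * n⁻¹) * n' by group, hnu, ← hn'u]
        group
      have hv' : m * v * m⁻¹ = v := by
        rw [hm, show n'⁻¹ * n * v * (n'⁻¹ * n)⁻¹ = n'⁻¹ * (n * v * n⁻¹) * n' by group, huv.1, ← huv.2]
        group
      rcases hWmem x hx with e | e | e | e <;> rw [e]
      · group
      · exact hu'
      · exact hv'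
      · rw [show m * (u * v) * m⁻¹ = (m * u * m⁻¹) * (m * v * m⁻¹) by group, hu', hv']
    have hbW : b ∉ W := fun hbW => hb1 (c.disj hb (hJ b hb hb1) b (hab ▸ hbW) (c.self hb (hJ b hb hb1)))
    obtain ⟨w', hw', hd'⟩ := c.exists_split_three h8 ha ha1 (hJ a ha ha1) hb
    replace hd' : b = w' * a := hd'.resolve_left fun e => hbW (e ▸ hw')
    have hmbS : m * b * m⁻¹ ∈ (S : Subgroup G) := (mem_normalizer_iff.1 hmS b).1 hb
    obtain ⟨w'', hw'', hd''⟩ := c.exists_split_three h8 ha ha1 (hJ a ha ha1) hmbS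
    replace hd'' : m * b * m⁻¹ = w'' * a := hd''.resolve_left fun e => hbW (by
      have h1 := hmW w'' hw''
      rw [← e] at hw'' h1
      have : b = m * b * m⁻¹ := by
        calc b = m⁻¹ * (m * b * m⁻¹) * m := by group
          _ = m⁻¹ * (m * (m * b * m⁻¹) * m⁻¹) * m := by rw [h1]
          _ = m * b * m⁻¹ := by group
      exact this ▸ hw'')
    have hb' : m * b * m⁻¹ = b := by
      have e : m * b * m⁻¹ = b * (w' * w'') := by
        rw [hd'', hd', mul_assoc w' a, ← mul_assoc a w', c.comm ha hw'.1, mul_assoc w' a w'', c.comm ha hw''.1,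
          ← mul_assoc w' w' (w'' * a), c.sq hw'.1, one_mul]
      have hww := mul_mem hw' hw''
      rw [e, hodd m hmS b hb _ hww.1 e (hmW _ hww), mul_one]
    have hnb : n * b * n⁻¹ = b := by
      calc n * b * n⁻¹ = n' * (m * b * m⁻¹) * n'⁻¹ := by rw [hm]; group
        _ = b := by rw [hb', hn'b]
    -- so `b` is fixed by the torus at `a`
    have h1 : n * w' * n⁻¹ = w' := by
      rw [hd', show n * (w' * a) * n⁻¹ = (n * w' * n⁻¹) * (n * a * n⁻¹) by group, hna] at hnb
      exact mul_right_cancel hnb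
    rcases hWmem w' hw' with e'' | e'' | e'' | e'' <;> rw [e''] at h1 hd'
    · rw [hd', one_mul]
    · exact absurd (hnu.symm.trans h1) hvu
    · exact absurd (mul_eq_right.1 (huv.1.symm.trans h1)) hu1
    · rw [show n * (u * v) * n⁻¹ = (n * u * n⁻¹) * (n * v * n⁻¹) by group, hnu, huv.1, ← mul_assoc,
        c.comm hv.1 hu.1, mul_assoc, c.sq hv.1, mul_one] at h1
      exact absurd (left_eq_mul.1 h1) hv1
  -- counting: every four group is a trace
  intro K hKS hK4 u hu hu1 k hk hk1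
  by_cases huk : u = k
  · exact ⟨1, one_mem _, one_mem _, by rw [huk, one_mul, inv_one, mul_one]⟩
  haveI := Fintype.ofFinite G
  let E : Subgroup G → Finset G := fun W => Finset.univ.filter fun x => x ∈ W ∧ x ≠ 1
  have hE : ∀ W : Subgroup G, (E W).card + 1 = Nat.card ↥W := by
    intro W
    have h1 : insert (1 : G) (E W) = Finset.univ.filter fun x => x ∈ W := by
      ext x
      by_cases hx : x = 1
      · simp [hx, E]
      · simp [hx, E]
    rw [← Finset.card_insert_of_notMem (show (1 : G) ∉ E W by simp [E]), h1, Nat.card_eq_fintype_card,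
      Fintype.card_subtype]
  have hEmem : ∀ (W : Subgroup G) (x : G), x ∈ E W ↔ x ∈ W ∧ x ≠ 1 := fun W x => by simp [E]
  let Wf : {a // a ∈ E (S : Subgroup G)} → Subgroup G := fun a =>
    (S : Subgroup G) ⊓ J a.1 ((hEmem _ _).1 a.2).1 ((hEmem _ _).1 a.2).2
  have hW4 : ∀ a, Nat.card ↥(Wf a) = 4 := fun a =>
    (c.bd_three h8 ((hEmem _ _).1 a.2).1 ((hEmem _ _).1 a.2).2 (hJ _ _ _)).1
  -- two distinct involutions determine the four group
  have hdet : ∀ (W W' : Subgroup G), Nat.card ↥W = 4 → Nat.card ↥W' = 4 → ∀ x ∈ W ⊓ W', x ≠ 1 →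
      ∀ y ∈ W ⊓ W', y ≠ 1 → x ≠ y → W ≤ W' := by
    intro W W' h4 _ x hx hx1 y hy hy1 hxy
    have h3 : 2 < (E (W ⊓ W')).card + 1 := Nat.succ_lt_succ (Finset.one_lt_card.2
      ⟨x, (hEmem _ _).2 ⟨hx, hx1⟩, y, (hEmem _ _).2 ⟨hy, hy1⟩, hxy⟩)
    rw [hE] at h3
    have hd := card_dvd_of_le (inf_le_left : W ⊓ W' ≤ W)
    rw [h4] at hd
    have h4' : Nat.card ↥(W ⊓ W') = 4 := by
      have := Nat.le_of_dvd (by norm_num) hd
      rcases Nat.lt_or_ge (Nat.card ↥(W ⊓ W')) 4 with hlt | hge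
      · rw [show Nat.card ↥(W ⊓ W') = 3 by omega] at hd
        norm_num at hd
      · omega
    exact (eq_of_le_of_card_ge inf_le_left (h4.trans h4'.symm).le).ge.trans inf_le_right
  have hdisj : ∀ a ∈ (E (S : Subgroup G)).attach, ∀ b ∈ (E (S : Subgroup G)).attach, a ≠ b →
      Disjoint (E (Wf a)).offDiag (E (Wf b)).offDiag := by
    intro a _ b _ hab
    refine Finset.disjoint_left.2 fun p hp hq => hab (Subtype.ext (hinj a.1 ((hEmem _ _).1 a.2).1 ((hEmem _ _).1 a.2).2 b.1 ((hEmem _ _).1 b.2).1 ((hEmem _ _).1 b.2).2 ?_))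
    obtain ⟨h1, h2, h3⟩ := Finset.mem_offDiag.1 hp
    obtain ⟨h1', h2', -⟩ := Finset.mem_offDiag.1 hq
    rw [hEmem] at h1 h2 h1' h2'
    exact le_antisymm (hdet _ _ (hW4 a) (hW4 b) _ ⟨h1.1, h1'.1⟩ h1.2 _ ⟨h2.1, h2'.1⟩ h2.2 h3)
      (hdet _ _ (hW4 b) (hW4 a) _ ⟨h1'.1, h1.1⟩ h1.2 _ ⟨h2'.1, h2.1⟩ h2.2 h3)
  have hsub : (E (S : Subgroup G)).attach.biUnion (fun a => (E (Wf a)).offDiag) ⊆
      (E (S : Subgroup G)).offDiag := by
    intro p hp
    obtain ⟨a, -, hp⟩ := Finset.mem_biUnion.1 hp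
    obtain ⟨h1, h2, h3⟩ := Finset.mem_offDiag.1 hp
    rw [hEmem] at h1 h2
    exact Finset.mem_offDiag.2 ⟨(hEmem _ _).2 ⟨h1.1.1, h1.2⟩, (hEmem _ _).2 ⟨h2.1.1, h2.2⟩, h3⟩
  have hS7 : (E (S : Subgroup G)).card = 7 := by have := hE (S : Subgroup G); omega
  have heq := Finset.eq_of_subset_of_card_le hsub (by
    rw [Finset.card_biUnion hdisj, Finset.sum_congr rfl (fun a _ => show (E (Wf a)).offDiag.card = 6 by
      rw [Finset.offDiag_card, show (E (Wf a)).card = 3 by have := hE (Wf a); have := hW4 a; omega]),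
      Finset.sum_const, Finset.card_attach, Finset.offDiag_card, hS7, smul_eq_mul])
  have hmem : (u, k) ∈ (E (S : Subgroup G)).offDiag :=
    Finset.mem_offDiag.2 ⟨(hEmem _ _).2 ⟨hKS hu, hu1⟩, (hEmem _ _).2 ⟨hKS hk, hk1⟩, huk⟩
  rw [← heq] at hmem
  obtain ⟨a, -, ha⟩ := Finset.mem_biUnion.1 hmem
  obtain ⟨h1, h2, -⟩ := Finset.mem_offDiag.1 ha
  rw [hEmem] at h1 h2
  have hKW : Wf a = K := le_antisymm (hdet _ _ (hW4 a) hK4 u ⟨h1.1, hu⟩ hu1 k ⟨h2.1, hk⟩ hk1 huk)
    (hdet _ _ hK4 (hW4 a) u ⟨hu, h1.1⟩ hu1 k ⟨hk, h2.1⟩ hk1 huk)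
  obtain ⟨n, hnS, hnW, e, -⟩ := htor a.1 ((hEmem _ _).1 a.2).1 ((hEmem _ _).1 a.2).2 u h1.1 hu1 k h2.1 hk1
  exact ⟨n, hnS, by rw [← hKW]; exact hnW, e⟩

theorem cov_norm {a : G} (ha : a ∈ (S : Subgroup G)) (ha1 : a ≠ 1) {J : Subgroup G} (hJ : J ∈ covOf a) :
    centralizer ({a} : Set G) ≤ normalizer (J : Set G) := fun g hg => by
  have hga : g * a * g⁻¹ = a := by rw [mem_centralizer_singleton_iff.1 hg, mul_inv_cancel_right]
  have h1 : MulAut.conj g • J = J := c.cov_unique h8 ha ha1 hJ (hga ▸ c.cov_conj (g := g) hJ)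
  exact mem_normalizer_of_conj fun x hx => h1.le (conj_mem_conj hx)

theorem frattini_three {a : G} (ha : a ∈ (S : Subgroup G)) (ha1 : a ≠ 1) {J : Subgroup G} (hJ : J ∈ covOf a) :
    centralizer ({a} : Set G) ≤ J ⊔ (centralizer ({a} : Set G) ⊓ normalizer ((S : Subgroup G) : Set G)) := by
  refine (c.frattini ha).trans (sup_le_sup_right (sup_le (c.cov_le hJ).1 ?_) _)
  exact (c.covL_eq h8 ha ha1 hJ).le

/-- The centraliser of `a` is the component times the centraliser of an involution of the trace. -/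
theorem split_cent {a : G} (ha : a ∈ (S : Subgroup G)) (ha1 : a ≠ 1) {J : Subgroup G} (hJ : J ∈ covOf a) {w : G}
    (hw : w ∈ (S : Subgroup G) ⊓ J) (hw1 : w ≠ 1) :
    centralizer ({a} : Set G) ≤ J ⊔ (centralizer ({a} : Set G) ⊓ centralizer ({w} : Set G)) := by
  refine (c.frattini_three h8 ha ha1 hJ).trans (sup_le le_sup_left fun n hn => ?_)
  have hv : n * w * n⁻¹ ∈ (S : Subgroup G) ⊓ J :=
    ⟨(mem_normalizer_iff.1 hn.2 w).1 hw.1, (mem_normalizer_iff.1 (c.cov_norm h8 ha ha1 hJ hn.1) w).1 hw.2⟩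
  obtain ⟨m, ⟨hmJ, -⟩, -, e⟩ :=
    c.torus ha ha1 hJ w hw hw1 (n * w * n⁻¹) hv fun e => hw1 (conj_eq_one_iff.1 e)
  have h1 : m⁻¹ * n ∈ centralizer ({a} : Set G) ⊓ centralizer ({w} : Set G) :=
    ⟨(centralizer ({a} : Set G)).mul_mem ((centralizer ({a} : Set G)).inv_mem ((c.cov_le hJ).2 hmJ)) hn.1, mem_centralizer_singleton_iff.2 (by
      calc m⁻¹ * n * w = m⁻¹ * (n * w * n⁻¹) * n := by group
        _ = w * (m⁻¹ * n) := by rw [← e]; group)⟩
  have := mul_mem (mem_sup_left (T := centralizer ({a} : Set G) ⊓ centralizer ({w} : Set G)) hmJ)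
    (mem_sup_right (S := J) h1)
  rwa [mul_inv_cancel_left] at this

end Ctx

section Comp

variable (c : Ctx S (S : Subgroup G)) (h8 : Nat.card ↥(S : Subgroup G) = 8) {a : G}
  (ha : a ∈ (S : Subgroup G)) (ha1 : a ≠ 1) {K : Subgroup (Qt a)} (hK : Cfsg.IsComponent K)

include c h8 ha ha1 hK

theorem comp_unique {K' : Subgroup (Qt a)} (hK' : Cfsg.IsComponent K') : K' = K := by
  have := c.cov_unique h8 ha ha1 (J := (K.comap (proj a)).map (centralizer ({a} : Set G)).subtype) ⟨K, hK, rfl⟩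
    (J' := (K'.comap (proj a)).map (centralizer ({a} : Set G)).subtype) ⟨K', hK', rfl⟩
  rw [← map_cov K', this, map_cov]

theorem comp_norm (y : Qt a) : y ∈ normalizer (K : Set (Qt a)) :=
  mem_normalizer_iff_map_conj_eq.2 (comp_unique c h8 ha ha1 hK (Components.Basic.component_conj hK y))

/-- A Sylow subgroup of the component with its trace. -/
theorem exists_trace_sylow : ∃ P : Sylow 2 ↥K, Nat.card ↥(P : Subgroup ↥K) = 4 ∧
    ∀ x : ↥K, x ∈ (P : Subgroup ↥K) ↔ (x : Qt a) ∈ (bar (S.subtype (c.le_cent ha)) : Subgroup (Qt a)) := by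
  obtain ⟨P, hP⟩ := exists_sylow_component (abTwo_quot (c.ab.subgroup _)) core_quot
    (bar (S.subtype (c.le_cent ha))) hK
  refine ⟨P, ?_, fun x => ?_⟩
  · rw [← hP, Nat.card_congr (subgroupOfEquivOfLe inf_le_right).toEquiv, ← c.card_trace ha ha1 hK]
    exact (c.bd_three h8 ha ha1 ⟨K, hK, rfl⟩).1
  · rw [← hP, mem_subgroupOf, mem_inf]
    exact ⟨fun hx => hx.1, fun hx => ⟨hx, x.2⟩⟩

/-- Elements of the component centralizing the image of `w` come from `J ∩ C(w)`. -/
theorem lift_comp_cent {w : G} (hw : w ∈ (S : Subgroup G)) {q : Qt a} (hq : q ∈ K)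
    (hqw : Commute q (proj a ⟨w, c.le_cent ha hw⟩)) :
    ∃ m, ∃ hm : m ∈ centralizer ({a} : Set G), m ∈ (K.comap (proj a)).map (centralizer ({a} : Set G)).subtype ∧ m ∈ centralizer ({w} : Set G) ∧ proj a ⟨m, hm⟩ = q := by
  obtain ⟨x, rfl⟩ := QuotientGroup.mk'_surjective _ q
  obtain ⟨m, hm, e⟩ := lift_centralizer (c.ab.subgroup _) (S.subtype (c.le_cent ha))
    (P := zpowers (⟨w, c.le_cent ha hw⟩ : ↥(centralizer ({a} : Set G))))
    (zpowers_le.2 (by rw [Sylow.coe_subtype, mem_subgroupOf]; exact hw)) (x := x) fun b hb => by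
      obtain ⟨i, rfl⟩ := hb
      show Commute (proj a (⟨w, c.le_cent ha hw⟩ ^ i)) (proj a x)
      rw [map_zpow]
      exact hqw.symm.zpow_left i
  refine ⟨m, m.2, mem_cov_iff.2 ⟨m.2, by rw [Subtype.coe_eta, e]; exact hq⟩, ?_, by rw [Subtype.coe_eta, e]⟩
  exact mem_centralizer_singleton_iff.2 (congrArg Subtype.val (mem_centralizer_iff.1 hm _ (mem_zpowers _))).symm

theorem self_three : ∀ x ∈ (K.comap (proj a)).map (centralizer ({a} : Set G)).subtype ⊓ centralizer ((S : Subgroup G) : Set G), Odd (orderOf x) → x ∈ oc a := by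
  rintro x ⟨hxJ, hxS⟩ ho
  obtain ⟨hxC, hxK⟩ := mem_cov_iff.1 hxJ
  have h1 : proj a ⟨x, hxC⟩ ∈ (bar (S.subtype (c.le_cent ha)) : Subgroup (Qt a)) := by
    refine (c.compNice ha ha1 hK).cent ⟨hxK, mem_centralizer_iff.2 fun q hq => ?_⟩
    obtain ⟨y, hy, rfl⟩ := mem_bar.1 hq.1
    rw [Sylow.coe_subtype, mem_subgroupOf] at hy
    rw [← map_mul, ← map_mul]
    exact congrArg _ (Subtype.ext (mem_centralizer_iff.1 hxS (y : G) hy))
  obtain ⟨k, hk⟩ := exists_two_pow h1
  rw [mem_oc hxC]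
  exact eq_one_of_odd_two ((by rw [Subgroup.orderOf_mk]; exact ho : Odd (orderOf (⟨x, hxC⟩ :
    ↥(centralizer ({a} : Set G))))).of_dvd_nat (orderOf_map_dvd _ _)) hk

theorem gen_three :
    (K.comap (proj a)).map (centralizer ({a} : Set G)).subtype ≤ oc a ⊔ ⨆ w : {w : G // w ∈ (S : Subgroup G) ⊓ (K.comap (proj a)).map (centralizer ({a} : Set G)).subtype ∧ w ≠ 1}, (K.comap (proj a)).map (centralizer ({a} : Set G)).subtype ⊓ centralizer ({(w : G)} : Set G) ∨
      ∀ w ∈ (S : Subgroup G) ⊓ (K.comap (proj a)).map (centralizer ({a} : Set G)).subtype, w ≠ 1 → ∀ x ∈ (K.comap (proj a)).map (centralizer ({a} : Set G)).subtype ⊓ centralizer ({w} : Set G), Odd (orderOf x) →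
        x ∈ oc a := by
  obtain ⟨hs, hn⟩ := component_simple (abTwo_quot (c.ab.subgroup _)) core_quot hK
  haveI := hs
  have hab : AbTwo ↥K := (abTwo_quot (c.ab.subgroup _)).subgroup K
  obtain ⟨P, hP4, hP⟩ := exists_trace_sylow c h8 ha ha1 hK
  rcases (oddPSL_of_four hn hab P hP4).gen_or_flat hn hab P with hgen | hflat
  · left
    set R := oc a ⊔ ⨆ w : {w : G // w ∈ (S : Subgroup G) ⊓ (K.comap (proj a)).map (centralizer ({a} : Set G)).subtype ∧ w ≠ 1}, (K.comap (proj a)).map (centralizer ({a} : Set G)).subtype ⊓ centralizer ({(w : G)} : Set G)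
      with hR
    have hKR : K ≤ (R.subgroupOf (centralizer ({a} : Set G))).map (proj a) := by
      rw [← Subgroup.range_subtype K, MonoidHom.range_eq_map, ← hgen, Subgroup.map_iSup]
      refine iSup_le fun w => ?_
      rintro _ ⟨q, hq, rfl⟩
      obtain ⟨s, hs', es⟩ := c.trace_lift ha ha1 hK (q := ((w : ↥K) : Qt a)) ⟨(hP _).1 w.2.1, w.1.2⟩
      obtain ⟨m, hm, hmJ, hmw, e⟩ := lift_comp_cent c h8 ha ha1 hK (w := s) hs'.1 (q := (q : Qt a)) q.2
        (es.symm ▸ congrArg Subtype.val (mem_centralizer_singleton_iff.1 hq))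
      refine ⟨⟨m, hm⟩, mem_subgroupOf.2 (mem_sup_right (mem_iSup_of_mem ⟨s, hs', fun e1 => ?_⟩ ⟨hmJ, hmw⟩)), e⟩
      refine w.2.2 (Subtype.ext ?_)
      rw [← es, show (⟨s, c.le_cent ha (c.leS hs'.1)⟩ : ↥(centralizer ({a} : Set G))) = 1 from Subtype.ext e1,
        map_one, coe_one]
    intro x hx
    obtain ⟨hxC, hxK⟩ := mem_cov_iff.1 hx
    obtain ⟨r, hr, e⟩ := hKR hxK
    have ho : x * (r : G)⁻¹ ∈ oc a := (mem_oc (mul_mem hxC (inv_mem r.2))).2 (by
      show proj a (⟨x, hxC⟩ * r⁻¹) = 1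
      rw [map_mul, map_inv, e, mul_inv_cancel])
    have := mul_mem (show x * (r : G)⁻¹ ∈ R from mem_sup_left ho) (mem_subgroupOf.1 hr)
    rwa [inv_mul_cancel_right] at this
  · right
    rintro w hw hw1 x ⟨hxJ, hxw⟩ ho
    obtain ⟨hxC, hxK⟩ := mem_cov_iff.1 hxJ
    have hwp := c.proj_trace ha hw
    have h1 := (hP ⟨_, hxK⟩).1 (hflat ⟨_, hwp.2⟩ ((hP _).2 hwp.1)
      (fun e => hw1 (c.proj_inj ha hw.1 (one_mem _) ((congrArg Subtype.val e).trans (map_one _).symm)))
      (mem_centralizer_singleton_iff.2 (Subtype.ext (by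
        show proj a ⟨x, hxC⟩ * proj a ⟨w, c.le_cent ha (c.leS hw.1)⟩ = _
        rw [← map_mul]
        show _ = proj a ⟨w, c.le_cent ha (c.leS hw.1)⟩ * proj a ⟨x, hxC⟩
        rw [← map_mul]
        exact congrArg _ (Subtype.ext (mem_centralizer_singleton_iff.1 hxw))))))
    obtain ⟨k, hk⟩ := exists_two_pow h1
    rw [mem_oc hxC]
    exact eq_one_of_odd_two ((by rw [Subgroup.orderOf_mk]; exact ho : Odd (orderOf (⟨x, hxC⟩ :
      ↥(centralizer ({a} : Set G))))).of_dvd_nat (orderOf_map_dvd _ _)) hk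

theorem field_three : ∀ g ∈ centralizer ((S : Subgroup G) : Set G), Odd (orderOf g) →
    ∀ w ∈ (S : Subgroup G) ⊓ (K.comap (proj a)).map (centralizer ({a} : Set G)).subtype, w ≠ 1 →
      (∀ j ∈ (K.comap (proj a)).map (centralizer ({a} : Set G)).subtype ⊓ centralizer ({w} : Set G), g * j * g⁻¹ * j⁻¹ ∈ oc a) → g ∈ oc a := by
  intro g hg ho w hw hw1 hcomm
  obtain ⟨hs, hn⟩ := component_simple (abTwo_quot (c.ab.subgroup _)) core_quot hK
  haveI := hs
  have hab : AbTwo ↥K := (abTwo_quot (c.ab.subgroup _)).subgroup K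
  obtain ⟨P, hP4, hP⟩ := exists_trace_sylow c h8 ha ha1 hK
  have hgC : g ∈ centralizer ({a} : Set G) :=
    mem_centralizer_singleton_iff.2 (mem_centralizer_iff.1 hg a ha).symm
  have hoy : Odd (orderOf (proj a ⟨g, hgC⟩)) := (by rw [Subgroup.orderOf_mk]; exact ho : Odd (orderOf (⟨g, hgC⟩ :
    ↥(centralizer ({a} : Set G))))).of_dvd_nat (orderOf_map_dvd _ _)
  have hfix : ∀ x ∈ (bar (S.subtype (c.le_cent ha)) : Subgroup (Qt a)), Commute (proj a ⟨g, hgC⟩) x := by
    intro x hx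
    obtain ⟨y, hy, rfl⟩ := mem_bar.1 hx
    rw [Sylow.coe_subtype, mem_subgroupOf] at hy
    exact (show Commute (⟨g, hgC⟩ : ↥(centralizer ({a} : Set G))) y from
      Subtype.ext (mem_centralizer_iff.1 hg (y : G) hy).symm).map (proj a)
  set y : ↥(normalizer (K : Set (Qt a))) := ⟨proj a ⟨g, hgC⟩, comp_norm c h8 ha ha1 hK _⟩ with hy
  have hval : ∀ q : ↥K, ((K.normalizerMonoidHom y q : ↥K) : Qt a) =
      proj a ⟨g, hgC⟩ * q * (proj a ⟨g, hgC⟩)⁻¹ := fun q => rfl
  have hone : K.normalizerMonoidHom y = 1 := by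
    refine (oddPSL_of_four hn hab P hP4).field_rigid hn hab P
      (Odd.of_dvd_nat (by rw [hy, Subgroup.orderOf_mk]; exact hoy) (orderOf_map_dvd _ y))
      (fun x hx => Subtype.ext (by rw [hval, (hfix _ ((hP x).1 hx)).eq, mul_inv_cancel_right]))
      (w := ⟨_, (c.proj_trace ha hw).2⟩) ((hP _).2 (c.proj_trace ha hw).1)
      (fun e => hw1 (c.proj_inj ha hw.1 (one_mem _) ((congrArg Subtype.val e).trans (map_one _).symm))) ?_
    intro q hq
    obtain ⟨m, hm, hmJ, hmw, e⟩ := lift_comp_cent c h8 ha ha1 hK (w := w) hw.1 (q := (q : Qt a)) q.2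
      (congrArg Subtype.val (mem_centralizer_singleton_iff.1 hq))
    have h1 := (comm_mem_oc hgC hm).1 (hcomm m ⟨hmJ, hmw⟩)
    rw [e] at h1
    exact Subtype.ext (by rw [hval, h1, mul_inv_cancel_right])
  have hyK : proj a ⟨g, hgC⟩ ∈ centralizer (K : Set (Qt a)) := mem_centralizer_iff.2 fun q hq => by
    have h1 := congrArg (fun f : MulAut ↥K => ((f ⟨q, hq⟩ : ↥K) : Qt a)) hone
    simp only [hval, MulAut.one_apply] at h1
    exact (mul_inv_eq_iff_eq_mul.1 h1).symm
  rw [mem_oc hgC]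
  exact eq_one_of_fix (abTwo_quot (c.ab.subgroup _)) core_quot (bar (S.subtype (c.le_cent ha))) hoy
    (mem_centralizer_layer fun K' hK' => by rw [comp_unique c h8 ha ha1 hK hK']; exact hyK)
    fun x hx _ => hfix x hx

theorem coprime_three : ∀ w ∈ (S : Subgroup G) ⊓ (K.comap (proj a)).map (centralizer ({a} : Set G)).subtype, w ≠ 1 → ∀ r : ℕ, r.Prime → r ≠ 2 →
    ∀ y ∈ (K.comap (proj a)).map (centralizer ({a} : Set G)).subtype ⊓ centralizer ({w} : Set G), y ∉ oc a → (∃ m : ℕ, y ^ r ^ m ∈ oc a) →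
      ¬ r ∣ (oc a ⊔ (centralizer ({a} : Set G) ⊓ centralizer ({w} : Set G))).relIndex
        (centralizer ({a} : Set G)) := by
  rintro w hw hw1 r hr hr2 y ⟨hyJ, hyw⟩ hyO ⟨m, hm⟩
  haveI : Fact r.Prime := ⟨hr⟩
  obtain ⟨hs, hn⟩ := component_simple (abTwo_quot (c.ab.subgroup _)) core_quot hK
  haveI := hs
  have hab : AbTwo ↥K := (abTwo_quot (c.ab.subgroup _)).subgroup K
  obtain ⟨P, hP4, hP⟩ := exists_trace_sylow c h8 ha ha1 hK
  set ho := oddPSL_of_four hn hab P hP4
  obtain ⟨hyC, hyK⟩ := mem_cov_iff.1 hyJ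
  have hwp := c.proj_trace ha hw
  set wb : Qt a := proj a ⟨w, c.le_cent ha (c.leS hw.1)⟩ with hwb
  set wK : ↥K := ⟨wb, hwp.2⟩ with hwK
  set yK : ↥K := ⟨proj a ⟨y, hyC⟩, hyK⟩ with hyKdef
  have hyw' : Commute yK wK := Subtype.ext (by
    show proj a ⟨y, hyC⟩ * proj a ⟨w, _⟩ = proj a ⟨w, _⟩ * proj a ⟨y, hyC⟩
    rw [← map_mul, ← map_mul]
    exact congrArg _ (Subtype.ext (mem_centralizer_singleton_iff.1 hyw)))
  -- the image of `y` has `r`-power order
  have hpow : yK ^ r ^ m = 1 := Subtype.ext (by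
    show proj a ⟨y, hyC⟩ ^ r ^ m = 1
    rw [← map_pow]
    exact (mem_oc (pow_mem hyC _)).1 hm)
  obtain ⟨k, -, hk⟩ := (Nat.dvd_prime_pow hr).1 (orderOf_dvd_of_pow_eq_one hpow)
  have hk0 : k ≠ 0 := fun e => hyO ((mem_oc hyC).2 (congrArg Subtype.val
    (orderOf_eq_one_iff.1 (show orderOf yK = 1 by rw [hk, e, pow_zero]))))
  have hw2 : orderOf wK = 2 := orderOf_two_of_oneTwoClass (ho.one hn hab) ((hP wK).2 hwp.1)
    fun e => hw1 (c.proj_inj ha hw.1 (one_mem _) ((congrArg Subtype.val e).trans (map_one _).symm))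
  have hcop := ho.coprime wK yK hw2 hyw' (by rw [hk]; exact (hr.odd_of_ne_two hr2).pow)
  rw [hk] at hcop
  have hnd : ¬ r ∣ (centralizer ({wK} : Set ↥K)).index := fun hd =>
    hr.ne_one (Nat.eq_one_of_dvd_coprimes hcop (dvd_pow_self r hk0) hd)
  -- the index in the quotient
  set X0 := oc a ⊔ (centralizer ({a} : Set G) ⊓ centralizer ({w} : Set G)) with hX0
  have hpre : X0.subgroupOf (centralizer ({a} : Set G)) = (centralizer ({wb} : Set (Qt a))).comap (proj a) := by
    refine le_antisymm ?_ fun x hx => ?_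
    · intro x hx
      have hle : X0 ≤ ((centralizer ({wb} : Set (Qt a))).comap (proj a)).map
          (centralizer ({a} : Set G)).subtype := by
        refine sup_le (fun z hz => ⟨⟨z, oc_le a hz⟩, ?_, rfl⟩) fun z hz => ⟨⟨z, hz.1⟩, ?_, rfl⟩
        · show proj a _ ∈ centralizer ({wb} : Set (Qt a))
          rw [(mem_oc (oc_le a hz)).1 hz]
          exact one_mem _
        · refine mem_centralizer_singleton_iff.2 ?_
          rw [hwb, ← map_mul, ← map_mul]
          exact congrArg _ (Subtype.ext (mem_centralizer_singleton_iff.1 hz.2))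
      obtain ⟨x', hx', e⟩ := hle (mem_subgroupOf.1 hx)
      obtain rfl : x' = x := Subtype.ext e
      exact hx'
    · obtain ⟨m', hm', e⟩ := lift_centralizer (c.ab.subgroup _) (S.subtype (c.le_cent ha))
        (P := zpowers (⟨w, c.le_cent ha (c.leS hw.1)⟩ : ↥(centralizer ({a} : Set G))))
        (zpowers_le.2 (by rw [Sylow.coe_subtype, mem_subgroupOf]; exact hw.1)) (x := x) fun b hb => by
          obtain ⟨i, rfl⟩ := hb
          show Commute (proj a (⟨w, c.le_cent ha (c.leS hw.1)⟩ ^ i)) (proj a x)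
          rw [map_zpow]
          exact (show Commute (proj a x) wb from mem_centralizer_singleton_iff.1 hx).symm.zpow_left i
      have ho' : (x : G) * (m' : G)⁻¹ ∈ oc a := (mem_oc (mul_mem x.2 (inv_mem m'.2))).2 (by
        show proj a (x * m'⁻¹) = 1
        rw [map_mul, map_inv, e, mul_inv_cancel])
      have hmw : (m' : G) ∈ centralizer ({a} : Set G) ⊓ centralizer ({w} : Set G) := ⟨m'.2,
        mem_centralizer_singleton_iff.2 (congrArg Subtype.val (mem_centralizer_iff.1 hm' _ (mem_zpowers _))).symm⟩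
      refine mem_subgroupOf.2 ?_
      have := mul_mem (mem_sup_left (T := centralizer ({a} : Set G) ⊓ centralizer ({w} : Set G)) ho')
        (mem_sup_right (S := oc a) hmw)
      rwa [inv_mul_cancel_right] at this
  rw [relIndex, hpre, index_comap_of_surjective _ (QuotientGroup.mk'_surjective _)]
  -- and in the component
  haveI : K.Normal := normalizer_eq_top_iff.1 (eq_top_iff.2 fun q _ => comp_norm c h8 ha ha1 hK q)
  set C := centralizer ({wb} : Set (Qt a)) with hC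
  have htop : C ⊔ K = ⊤ := by
    refine eq_top_iff.2 fun q _ => ?_
    obtain ⟨x, rfl⟩ := QuotientGroup.mk'_surjective _ q
    have hle : (K.comap (proj a)).map (centralizer ({a} : Set G)).subtype ⊔ (centralizer ({a} : Set G) ⊓ centralizer ({w} : Set G)) ≤
        ((C ⊔ K).comap (proj a)).map (centralizer ({a} : Set G)).subtype := by
      refine sup_le (map_mono (comap_mono le_sup_right)) fun z hz => ⟨⟨z, hz.1⟩, mem_comap.2 (mem_sup_left ?_), rfl⟩
      refine mem_centralizer_singleton_iff.2 ?_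
      rw [hwb, ← map_mul, ← map_mul]
      exact congrArg _ (Subtype.ext (mem_centralizer_singleton_iff.1 hz.2))
    obtain ⟨x', hx', e⟩ := hle (c.split_cent h8 ha ha1 ⟨K, hK, rfl⟩ hw hw1 x.2)
    obtain rfl : x' = x := Subtype.ext e
    exact hx'
  have hcard : Nat.card ↥(centralizer ({wK} : Set ↥K)) = Nat.card ↥(C ⊓ K) := by
    rw [← card_subtype K (centralizer ({wK} : Set ↥K))]
    refine congrArg (fun H : Subgroup (Qt a) => Nat.card ↥H) ?_
    ext q
    rw [mem_inf, hC, mem_centralizer_singleton_iff]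
    constructor
    · rintro ⟨z, hz, rfl⟩
      exact ⟨congrArg Subtype.val (mem_centralizer_singleton_iff.1 hz), z.2⟩
    · rintro ⟨hq, hqK⟩
      exact ⟨⟨q, hqK⟩, mem_centralizer_singleton_iff.2 (Subtype.ext hq), rfl⟩
  have h1 := Agent.Cores.card_sup_mul_card_inf C K
  rw [htop, Subgroup.card_top, ← C.card_mul_index, ← hcard, mul_assoc,
    ← (centralizer ({wK} : Set ↥K)).card_mul_index] at h1
  have h2 := Nat.eq_of_mul_eq_mul_left Nat.card_pos h1
  rw [mul_comm (Nat.card ↥(centralizer ({wK} : Set ↥K)))] at h2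
  rwa [Nat.eq_of_mul_eq_mul_right Nat.card_pos h2]

end Comp

/-- The rank three configuration. -/
theorem exists_threeSys [IsSimpleGroup G] (hnc : ¬ IsMulCommutative G) (h : AbTwo G) (S : Sylow 2 G)
    (hns : HasNonsolvCent G) (hΩ : Nat.card ↥(CompSys.omega S fun x hx y hy => (h _ S.2 x hx y hy).eq) = 8)
    (hlist : ∀ (T : Type u) [Group T] [Finite T], IsSimpleGroup T → ¬ IsMulCommutative T → AbTwo T →
      Nat.card T < Nat.card G → Listed T)
    (hnice : NiceBelow.{u} (Nat.card G)) (hbelow : ThreeBelow.{u} (Nat.card G)) :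
    Nat.card ↥(S : Subgroup G) = 8 ∧ (∀ x ∈ (S : Subgroup G), x * x = 1) ∧
      ∃ L : G → Subgroup G, ThreeSys S L := by
  haveI : Fact (Nat.Prime 2) := ⟨Nat.prime_two⟩
  -- an involution of `S` with non-solvable centraliser
  obtain ⟨t, ht, htns⟩ := hns
  obtain ⟨T, hT⟩ := (IsPGroup.of_card (n := 1) (G := zpowers t)
    (by rw [Nat.card_zpowers, ht, pow_one])).exists_le_sylow
  obtain ⟨g, hg⟩ := MulAction.exists_smul_eq G T S
  have hns_conj : ∀ (x : G) (u : G), ¬ Group.IsSolvable ↥(centralizer ({u} : Set G)) →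
      ¬ Group.IsSolvable ↥(centralizer ({x * u * x⁻¹} : Set G)) := fun x u hu hsol => by
    haveI : Group.IsSolvable ↥(centralizer ({MulAut.conj x u} : Set G)) := hsol
    refine hu (Group.isSolvable_of_isSolvable_injective (f := (((centralizer ({u} : Set G)).equivMapOfInjective
      (MulAut.conj x).toMonoidHom (MulAut.conj x).injective).trans (MulEquiv.subgroupCongr
        (map_centralizer_one (MulAut.conj x) u))).toMonoidHom) (MulEquiv.injective _))
  set a := g * t * g⁻¹ with hadef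
  have haS : a ∈ (S : Subgroup G) := by
    rw [← hg, Sylow.coe_subgroup_smul]
    exact conj_mem_conj (hT (mem_zpowers t))
  have ha : orderOf a = 2 := (MulAut.conj g).orderOf_eq t ▸ ht
  have hans := hns_conj g t htns
  obtain ⟨J, K, hK, -⟩ := exists_cov_of_not_solvable hnc h S haS ha hans
  obtain ⟨h8, hsq, htr, -⟩ := AtomSys.three (atomSys_of_listed hnc h S hlist) hnc hΩ haS ha
    (A := ((traceW (S.subtype fun s hs => mem_centralizer_singleton_iff.2 (h _ S.2 s hs a haS).eq) K).map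
      (centralizer ({a} : Set G)).subtype,
      (traceB (S.subtype fun s hs => mem_centralizer_singleton_iff.2 (h _ S.2 s hs a haS).eq) K).map
      (centralizer ({a} : Set G)).subtype))
    ⟨fun s hs => mem_centralizer_singleton_iff.2 (h _ S.2 s hs a haS).eq, K, hK, rfl, rfl⟩
  have c := ctx_of_nice hnc h S (S : Subgroup G) (fun x => ⟨fun hx => ⟨hx, hsq x hx⟩, fun hx => hx.1⟩) hnice
  have hall : ∀ e ∈ (S : Subgroup G), e ≠ 1 → ∃ J, J ∈ covOf e := fun e he he1 => by
    obtain ⟨n, -, hn⟩ := htr a haS (ne_one_of_orderOf_two ha) e he he1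
    exact ⟨_, hn ▸ c.cov_conj (g := n) ⟨K, hK, rfl⟩⟩
  refine ⟨h8, hsq, covL, ?_⟩
  exact
  { abTwo := h
    card_S := h8
    sq := hsq
    odd_solv := fun _ hH => S0205.result hH
    listed := hlist
    below := hbelow
    tau := c.tau h8 hall
    cov_le := fun e he he1 => by
      obtain ⟨J, hJ⟩ := hall e he he1
      rw [c.covL_eq h8 he he1 hJ]
      exact c.cov_le hJ
    cov_norm := fun e he he1 => by
      obtain ⟨J, hJ⟩ := hall e he he1
      rw [c.covL_eq h8 he he1 hJ]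
      exact c.cov_norm h8 he he1 hJ
    four := fun e he he1 => by
      obtain ⟨J, hJ⟩ := hall e he he1
      rw [c.covL_eq h8 he he1 hJ]
      exact (c.bd_three h8 he he1 hJ).1
    not_mem := fun e he he1 heL => by
      obtain ⟨J, hJ⟩ := hall e he he1
      rw [c.covL_eq h8 he he1 hJ] at heL
      exact he1 (c.disj he hJ e ⟨he, heL⟩ (c.self he hJ))
    frattini := fun e he he1 => by
      obtain ⟨J, hJ⟩ := hall e he he1
      rw [c.covL_eq h8 he he1 hJ]
      exact c.frattini_three h8 he he1 hJ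
    nonsolv := fun e he he1 => by
      obtain ⟨n, -, rfl⟩ := htr a haS (ne_one_of_orderOf_two ha) e he he1
      exact hns_conj n a hans
    coprime := fun e he he1 => by
      obtain ⟨J, K', hK', rfl⟩ := hall e he he1
      rw [c.covL_eq h8 he he1 ⟨K', hK', rfl⟩]
      exact coprime_three c h8 he he1 hK'
    self := fun e he he1 => by
      obtain ⟨J, K', hK', rfl⟩ := hall e he he1
      rw [c.covL_eq h8 he he1 ⟨K', hK', rfl⟩]
      exact self_three c h8 he he1 hK'
    field := fun e he he1 => by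
      obtain ⟨J, K', hK', rfl⟩ := hall e he he1
      rw [c.covL_eq h8 he he1 ⟨K', hK', rfl⟩]
      exact field_three c h8 he he1 hK'
    gen := fun e he he1 => by
      obtain ⟨J, K', hK', rfl⟩ := hall e he he1
      unfold ThreeFlat
      rw [c.covL_eq h8 he he1 ⟨K', hK', rfl⟩]
      exact gen_three c h8 he he1 hK' }

end Cfsg.Agent.Walter.Core
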