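import Cfsg.Agent.Lib.Walter.Below
import Cfsg.Agent.Lib.Walter.NoTrans
import Cfsg.Agent.Lib.Walter.Core.Assembly
import Cfsg.Agent.Lib.Walter.Core.Sys
import Cfsg.Agent.Lib.Walter.Core.NiceKnown
import Cfsg.Agent.Lib.Walter.Core.ThreeSys
import Cfsg.Agent.Lib.Walter.Core.ThreeBalance
import Cfsg.Agent.Lib.Walter.Core.ThreeClose

/-!
# Trivial cores of the involution centralisers

In a simple group with abelian Sylow 2-subgroups, a non-solvable involution centraliser and good smaller simple
groups, the centralisers of involutions have no odd core.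
-/

set_option autoImplicit false
set_option linter.unusedSectionVars false
set_option linter.style.haveILetI false

open Subgroup

namespace Cfsg.Agent.Walter.Core

open Cfsg.Agent.SEAbelian

universe u

variable {G : Type u} [Group G] [Finite G]

theorem niceBelow_of_good {n : ℕ} (hb : GoodBelow.{u} n) : NiceBelow.{u} n := fun T _ _ hs hn hab hlt =>
  haveI := hs
  nice_of_shape hn hab (hb T hs hn hab hlt).shape (hb T hs hn hab hlt).field

theorem card_quot_core_lt {M : Subgroup G} (hM : M ≠ ⊤) :
    Nat.card (↥M ⧸ Cfsg.oddCore ↥M) < Nat.card G :=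
  (Nat.card_le_card_of_surjective _ (QuotientGroup.mk'_surjective _)).trans_lt
    (lt_of_le_of_ne (Subgroup.card_le_card_group M) fun e => hM (Subgroup.eq_top_of_card_eq M e))

/-- Trivial cores. -/
theorem coreTriv_of [IsSimpleGroup G] (hnc : ¬ IsMulCommutative G) (h : AbTwo G)
    (hb : GoodBelow.{u} (Nat.card G)) : CoreTriv G := by
  intro hns a ha
  haveI : Fact (Nat.Prime 2) := ⟨Nat.prime_two⟩
  obtain ⟨T, hT⟩ := (IsPGroup.of_card (n := 1) (G := zpowers a)
    (by rw [Nat.card_zpowers, ha, pow_one])).exists_le_sylow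
  obtain ⟨A, cov, bd, hA, hsys⟩ := exists_coreSys hnc h T (niceBelow_of_good hb)
  have hns' : ∃ t : G, orderOf t = 2 ∧ ¬ Group.IsSolvable ↥(centralizer ({t} : Set G)) := by
    obtain ⟨t, ht, htn⟩ := hns
    exact ⟨t, ht, htn⟩
  have h8 := (hsys.exists_cov_card hnc hns').1
  rw [hA] at h8
  obtain ⟨-, -, L, hL⟩ := exists_threeSys hnc h T hns h8 (listed_below hb) (niceBelow_of_good hb) (threeBelow hb)
  have hO : oc a = ⊥ := by
    refine hL.oc_eq_bot_of_balanced hnc hL.balanced (fun X hX hTX J hJ => ?_) (fun M hM => ?_) a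
      (hT (mem_zpowers a)) fun e => by rw [e, orderOf_one] at ha; omega
    · have hab : AbTwo (↥X ⧸ Cfsg.oddCore ↥X) := abTwo_quot (h.subgroup X)
      obtain ⟨hs, hn⟩ := component_simple hab core_quot hJ
      exact compNice_of_nice hab core_quot _ hJ (niceBelow_of_good hb ↥J hs hn (hab.subgroup J)
        ((Subgroup.card_le_card_group J).trans_lt (card_quot_core_lt hX)))
    · exact NoTrans.noTransSocle_of fun K _ hs hn _ _ =>
        knownSocle_below hb (abTwo_quot (h.subgroup M)) (card_quot_core_lt hM) K hs hn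
  rw [oc, coreOf] at hO
  exact (Subgroup.map_eq_bot_iff_of_injective _ (Subgroup.subtype_injective _)).1 hO

end Cfsg.Agent.Walter.Core

namespace Cfsg.Agent.Walter

universe u

/-- The core part of Walter's theorem. -/
theorem coreFact : CoreFact.{u} := fun G _ _ hs hnc h hb =>
  haveI := hs
  Core.coreTriv_of hnc h hb

end Cfsg.Agent.Walter
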