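import Cfsg.Agent.Lib.Walter.Core.Tools
import Cfsg.Agent.Lib.SolvableSignalizer.Main

/-!
# The signalizer of a group with abelian Sylow 2-subgroups of rank at least four

The cores enlarged by `c0 A` are 2-balanced; their closure is odd and contains `w0 A`, which is normalized by
`N(S)`, by the centralizer of every subgroup of `A` of order at least eight and by the cores.
-/

set_option autoImplicit false
set_option linter.unusedSectionVars false
set_option linter.style.haveILetI false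

open Subgroup
open scoped Pointwise

namespace Cfsg.Agent.Walter.Core

universe u

variable {G : Type u} [Group G]

/-- The core of `C(a)` enlarged by the core of `C(A)`. -/
def oPlus (A : Subgroup G) (a : G) : Subgroup G := oc a ⊔ c0 A

/-- The common part of the enlarged cores of the four-group `⟨a, b⟩`. -/
def psi (A : Subgroup G) (a b : G) : Subgroup G := oPlus A a ⊓ oPlus A b ⊓ oPlus A (a * b)

/-- The closure at `a`. -/
def theta (A : Subgroup G) (a : G) : Subgroup G :=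
  ⨆ b : {b : G // b ∈ A ∧ b ≠ 1 ∧ b ≠ a}, psi A a (b : G)

/-- The closure. -/
def sigW (A : Subgroup G) : Subgroup G := ⨆ a : {a : G // a ∈ A ∧ a ≠ 1}, theta A (a : G)

/-- The common part of the cores of `⟨a, b⟩`. -/
def lit (a b : G) : Subgroup G := oc a ⊓ oc b ⊓ oc (a * b)

/-- The group generated by the common cores of the four-groups of `B`. -/
def dU (B : Subgroup G) : Subgroup G :=
  ⨆ p : {p : G × G // p.1 ∈ B ∧ p.2 ∈ B ∧ p.1 ≠ 1 ∧ p.2 ≠ 1 ∧ p.1 ≠ p.2}, lit (p : G × G).1 (p : G × G).2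

theorem psi_comm (A : Subgroup G) {a b : G} (hab : a * b = b * a) : psi A a b = psi A b a := by
  rw [psi, psi, hab, inf_comm (oPlus A a) (oPlus A b)]

theorem oc_le_oPlus (A : Subgroup G) (a : G) : oc a ≤ oPlus A a := le_sup_left

theorem c0_le_oPlus (A : Subgroup G) (a : G) : c0 A ≤ oPlus A a := le_sup_right

theorem lit_le_psi (A : Subgroup G) (a b : G) : lit a b ≤ psi A a b :=
  inf_le_inf (inf_le_inf (oc_le_oPlus A a) (oc_le_oPlus A b)) (oc_le_oPlus A (a * b))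

theorem mem_lit_of_forall {B : Subgroup G} {p q y : G} (hp : p ∈ B) (hq : q ∈ B) (hp1 : p ≠ 1) (hq1 : q ≠ 1)
    (hpq : p * q ≠ 1) (hy : ∀ e ∈ B, e ≠ 1 → y ∈ oc e) : y ∈ lit p q :=
  ⟨⟨hy p hp hp1, hy q hq hq1⟩, hy _ (mul_mem hp hq) hpq⟩

theorem conj_mem_lit [Finite G] {g p q x : G} (hx : x ∈ lit p q) :
    g * x * g⁻¹ ∈ lit (g * p * g⁻¹) (g * q * g⁻¹) :=
  ⟨⟨conj_mem_oc hx.1.1, conj_mem_oc hx.1.2⟩, by
    rw [show g * p * g⁻¹ * (g * q * g⁻¹) = g * (p * q) * g⁻¹ by group]; exact conj_mem_oc hx.2⟩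

namespace CoreSys

variable [Finite G] {S : Sylow 2 G} {A : Subgroup G} {cov : G → Set (Subgroup G)}
  {bd : G → Subgroup G → Subgroup G} (h : CoreSys S A cov bd)

include h

theorem c0_le_cent {a : G} (ha : a ∈ A) : c0 A ≤ centralizer ({a} : Set G) := (c0_le A).trans (h.centA_le ha)

theorem oPlus_le_cent {a : G} (ha : a ∈ A) : oPlus A a ≤ centralizer ({a} : Set G) :=
  sup_le (oc_le a) (h.c0_le_cent ha)

theorem c0_normalizes_oc {a : G} (ha : a ∈ A) : c0 A ≤ normalizer (oc a : Set G) :=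
  (h.c0_le_cent ha).trans (le_normalizer_coreOf _)

theorem odd_oPlus {a : G} (ha : a ∈ A) : Odd (Nat.card ↥(oPlus A a)) := by
  rw [oPlus, sup_comm]
  exact StronglyClosedFour.odd_sup (h.c0_normalizes_oc ha) (odd_coreOf _) (odd_coreOf _)

theorem centA_normalizes_oPlus {a : G} (ha : a ∈ A) : centralizer (A : Set G) ≤ normalizer (oPlus A a : Set G) :=
  fun c hc => mem_normalizer_of_conj_le fun x hx => by
    have hle : oPlus A a ≤ (oPlus A a).comap (MulAut.conj c).toMonoidHom := sup_le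
      (fun x hx => oc_le_oPlus A a (oc_conj_mem (h.centA_le ha hc) hx))
      (fun x hx => c0_le_oPlus A a (c0_conj_mem (centralizer_le_normalizer _ hc) hx))
    exact hle hx

theorem A_normalizes_psi {a b : G} (ha : a ∈ A) (hb : b ∈ A) : A ≤ normalizer (psi A a b : Set G) :=
  fun v hv => mem_normalizer_of_conj_le fun x hx =>
    have hv' := h.A_le_centA hv
    ⟨⟨conj_le_of_le_normalizer (h.centA_normalizes_oPlus ha) hv' hx.1.1,
      conj_le_of_le_normalizer (h.centA_normalizes_oPlus hb) hv' hx.1.2⟩,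
      conj_le_of_le_normalizer (h.centA_normalizes_oPlus (mul_mem ha hb)) hv' hx.2⟩

theorem mul_ne_one {a b : G} (ha : a ∈ A) (hab : b ≠ a) : a * b ≠ 1 := fun e =>
  hab (by rw [← inv_eq_of_mul_eq_one_right e, h.A_inv ha])

theorem psi_mul_right {a b : G} (ha : a ∈ A) : psi A a (a * b) = psi A a b := by
  rw [psi, psi, ← mul_assoc, h.A_sq ha, one_mul, inf_assoc, inf_assoc, inf_comm (oPlus A (a * b))]

/-- Balance: an element of `psi a b` centralising `c` lies in the enlarged core of `C(c)`. -/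
theorem mem_oPlus_of_psi {a b c x : G} (ha : a ∈ A) (ha1 : a ≠ 1) (hb : b ∈ A) (hb1 : b ≠ 1) (hab : b ≠ a)
    (hx : x ∈ psi A a b) (hc : c ∈ A) (hc1 : c ≠ 1) (hxc : x ∈ centralizer ({c} : Set G)) : x ∈ oPlus A c := by
  classical
  set E : Subgroup G := zpowers a ⊔ zpowers b
  have hEA : E ≤ A := sup_le (zpowers_le.2 ha) (zpowers_le.2 hb)
  have hpow : ∀ d ∈ A, ∀ z ∈ zpowers d, z = 1 ∨ z = d := by
    rintro d hd _ ⟨i, rfl⟩
    rcases Int.even_or_odd i with ⟨k, rfl⟩ | ⟨k, rfl⟩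
    · left; show d ^ (k + k) = 1; rw [← two_mul, zpow_mul, zpow_two, h.A_sq hd, one_zpow]
    · right; show d ^ (2 * k + 1) = d
      rw [zpow_add, zpow_mul, zpow_two, h.A_sq hd, one_zpow, one_mul, zpow_one]
  have hmem : ∀ e ∈ E, e = 1 ∨ e = a ∨ e = b ∨ e = a * b := by
    intro e he
    rw [Coprime.mem_sup_of_le_normalizer (le_trans (fun z hz => mem_centralizer_comm.2 fun w hw =>
      h.A_comm ((zpowers_le.2 hb) hz) ((zpowers_le.2 ha) hw)) (centralizer_le_normalizer _))] at he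
    obtain ⟨y, hy, z, hz, rfl⟩ := he
    rcases hpow a ha y hy with rfl | rfl <;> rcases hpow b hb z hz with rfl | rfl <;> simp
  have h4 : 4 ≤ Nat.card ↥E := by
    have hab' : a * b ≠ 1 := h.mul_ne_one ha hab
    have hsub : ((({1, a, b, a * b} : Finset G)) : Set G) ⊆ (E : Set G) := by
      intro z hz
      simp only [Finset.coe_insert, Finset.coe_singleton, Set.mem_insert_iff, Set.mem_singleton_iff] at hz
      rcases hz with rfl | rfl | rfl | rfl
      · exact one_mem E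
      · exact mem_sup_left (mem_zpowers _)
      · exact mem_sup_right (mem_zpowers _)
      · exact mul_mem (mem_sup_left (mem_zpowers _)) (mem_sup_right (mem_zpowers _))
    have := Set.ncard_le_ncard hsub (Set.toFinite _)
    rw [Set.ncard_coe_finset, show (E : Set G).ncard = Nat.card ↥E from rfl] at this
    refine le_trans (le_of_eq ?_) this
    rw [Finset.card_insert_of_notMem, Finset.card_insert_of_notMem, Finset.card_insert_of_notMem,
      Finset.card_singleton]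
    · simp only [Finset.mem_singleton]
      exact fun e => ha1 (mul_right_cancel (e.symm.trans (one_mul b).symm))
    · simp only [Finset.mem_insert, Finset.mem_singleton, not_or]
      exact ⟨fun e => hab e.symm, fun e => hb1 (mul_left_cancel ((mul_one a).trans e)).symm⟩
    · simp only [Finset.mem_insert, Finset.mem_singleton, not_or]
      exact ⟨Ne.symm ha1, Ne.symm hb1, Ne.symm hab'⟩
  refine h.balance_two E hEA h4 c hc hc1 x hxc fun e he he1 => ?_
  rcases hmem e he with rfl | rfl | rfl | rfl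
  · exact absurd rfl he1
  · exact hx.1.1
  · exact hx.1.2
  · exact hx.2

theorem mem_psi_of_psi {a b c x : G} (ha : a ∈ A) (ha1 : a ≠ 1) (hb : b ∈ A) (hb1 : b ≠ 1) (hab : b ≠ a)
    (hx : x ∈ psi A a b) (hc : c ∈ A) (hc1 : c ≠ 1) (hca : c ≠ a) (hxc : x ∈ centralizer ({c} : Set G)) :
    x ∈ psi A a c := by
  refine ⟨⟨hx.1.1, h.mem_oPlus_of_psi ha ha1 hb hb1 hab hx hc hc1 hxc⟩,
    h.mem_oPlus_of_psi ha ha1 hb hb1 hab hx (mul_mem ha hc) (h.mul_ne_one ha hca) ?_⟩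
  refine mem_centralizer_one.2 ?_
  rw [← mul_assoc, mem_centralizer_one.1 (h.oPlus_le_cent ha hx.1.1), mul_assoc,
    mem_centralizer_one.1 hxc, mul_assoc]

/-- Every element of `A` outside `⟨a⟩` is, up to `a`, in a complement, with the same `psi`. -/
theorem exists_mem_compl {a : G} (ha : a ∈ A) {E : Subgroup G} (hEA : E ≤ A)
    (h2 : Nat.card ↥A = 2 * Nat.card ↥E) (haE : a ∉ E) {b : G} (hb : b ∈ A) (hb1 : b ≠ 1) (hba : b ≠ a) :
    ∃ b' ∈ E, b' ≠ 1 ∧ psi A a b' = psi A a b ∧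
      ∀ x ∈ centralizer ({a} : Set G), x ∈ centralizer ({b} : Set G) → x ∈ centralizer ({b'} : Set G) := by
  by_cases hbE : b ∈ E
  · exact ⟨b, hbE, hb1, rfl, fun x _ hx => hx⟩
  · refine ⟨a * b, mul_mem_of_index_two hEA h2.symm ha hb haE hbE, h.mul_ne_one ha hba, h.psi_mul_right ha,
      fun x hxa hxb => mem_centralizer_one.2 ?_⟩
    rw [← mul_assoc, mem_centralizer_one.1 hxa, mul_assoc, mem_centralizer_one.1 hxb, mul_assoc]

variable (h16 : 16 ≤ Nat.card ↥A)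

include h16

/-- The closure at `a`. -/
theorem theta_spec {a : G} (ha : a ∈ A) (ha1 : a ≠ 1) :
    Odd (Nat.card ↥(theta A a)) ∧ theta A a ≤ centralizer ({a} : Set G) ∧
      A ≤ normalizer (theta A a : Set G) ∧
      ∀ c ∈ A, c ≠ 1 → c ≠ a → theta A a ⊓ centralizer ({c} : Set G) ≤ psi A a c := by
  haveI : Fact (Nat.Prime 2) := ⟨Nat.prime_two⟩
  obtain ⟨E, hEA, haE, -, hcard⟩ := Components.Hyperplane.exists_complement h.elementary ha ha1
  have hne : ∀ b ∈ E, b ≠ a := fun b hb e => haE (e ▸ hb)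
  have hψ : Cfsg.IsSolvableSignalizerFunctor 2 E (psi A a) := by
    refine ⟨⟨fun b hb _ x hx => h.oPlus_le_cent (hEA hb) hx.1.2,
      fun b _ _ => Nat.two_dvd_ne_zero.2 (Nat.odd_iff.1 ((h.odd_oPlus ha).of_dvd_nat
        (card_dvd_of_le (inf_le_left.trans inf_le_left)))),
      fun b hb _ v hv x hx => conj_le_of_le_normalizer (h.A_normalizes_psi ha (hEA hb)) (hEA hv) hx,
      fun b hb hb1 c hc hc1 x hx => h.mem_psi_of_psi ha ha1 (hEA hb) hb1 (hne b hb) hx.1 (hEA hc) hc1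
        (hne c hc) hx.2⟩, fun b _ _ => S0205.result ((h.odd_oPlus ha).of_dvd_nat
        (card_dvd_of_le (inf_le_left.trans inf_le_left)))⟩
  obtain ⟨hU1, hU2, hU3, hU4⟩ := SolvableSignalizer.iSup_mem Nat.prime_two
    (Components.Hyperplane.isElementaryAbelian_of_le h.elementary hEA) (by omega) hψ
  set U := ⨆ b : {b : G // b ∈ E ∧ b ≠ 1}, psi A a (b : G)
  have hθU : theta A a = U := by
    refine le_antisymm (iSup_le fun b => ?_) (iSup_le fun b => ?_)
    · obtain ⟨b', hb', hb'1, hpsi, -⟩ := h.exists_mem_compl ha hEA hcard haE b.2.1 b.2.2.1 b.2.2.2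
      exact hpsi ▸ le_iSup (fun b : {b : G // b ∈ E ∧ b ≠ 1} => psi A a (b : G)) ⟨b', hb', hb'1⟩
    · exact le_iSup (fun b : {b : G // b ∈ A ∧ b ≠ 1 ∧ b ≠ a} => psi A a (b : G))
        ⟨b, hEA b.2.1, b.2.2, hne b b.2.1⟩
  refine ⟨hθU ▸ Nat.odd_iff.2 (Nat.two_dvd_ne_zero.1 hU2), iSup_le fun b x hx => h.oPlus_le_cent ha hx.1.1,
    fun v hv => mem_normalizer_of_conj_le fun x hx => ?_, fun c hc hc1 hca x hx => ?_⟩
  · have hle : theta A a ≤ (theta A a).comap (MulAut.conj v).toMonoidHom := iSup_le fun b y hy =>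
      le_iSup (fun b : {b : G // b ∈ A ∧ b ≠ 1 ∧ b ≠ a} => psi A a (b : G)) b
        (conj_le_of_le_normalizer (h.A_normalizes_psi ha b.2.1) hv hy)
    exact hle hx
  · obtain ⟨c', hc', hc'1, hpsi, hcomm⟩ := h.exists_mem_compl ha hEA hcard haE hc hc1 hca
    have hxa : x ∈ centralizer ({a} : Set G) :=
      (iSup_le fun b y hy => h.oPlus_le_cent ha hy.1.1 : theta A a ≤ _) hx.1
    exact hpsi ▸ hU4 c' hc' hc'1 ⟨hθU ▸ hx.1, hcomm x hxa hx.2⟩

/-- The closure of the enlarged cores. -/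
theorem sigW_spec : Odd (Nat.card ↥(sigW A)) ∧ A ≤ normalizer (sigW A : Set G) ∧
    ∀ a ∈ A, a ≠ 1 → ∀ c ∈ A, c ≠ 1 → c ≠ a →
      sigW A ⊓ centralizer ({a} : Set G) ⊓ centralizer ({c} : Set G) ≤ psi A a c := by
  have hθ : Cfsg.IsSolvableSignalizerFunctor 2 A (theta A) := by
    refine ⟨⟨fun a ha ha1 => (h.theta_spec h16 ha ha1).2.1,
      fun a ha ha1 => Nat.two_dvd_ne_zero.2 (Nat.odd_iff.1 (h.theta_spec h16 ha ha1).1),
      fun a ha ha1 v hv x hx => conj_le_of_le_normalizer (h.theta_spec h16 ha ha1).2.2.1 hv hx,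
      fun a ha ha1 c hc hc1 x hx => ?_⟩, fun a ha ha1 => S0205.result (h.theta_spec h16 ha ha1).1⟩
    rcases eq_or_ne c a with rfl | hca
    · exact hx.1
    · have h1 := (h.theta_spec h16 ha ha1).2.2.2 c hc hc1 hca hx
      rw [psi_comm A (h.A_comm ha hc)] at h1
      exact le_iSup (fun b : {b : G // b ∈ A ∧ b ≠ 1 ∧ b ≠ c} => psi A c (b : G)) ⟨a, ha, ha1, hca.symm⟩ h1
  obtain ⟨-, hW2, hW3, hW4⟩ := SolvableSignalizer.iSup_mem Nat.prime_two h.elementary (by omega) hθ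
  exact ⟨Nat.odd_iff.2 (Nat.two_dvd_ne_zero.1 hW2), fun v hv => mem_normalizer_of_conj_le fun x hx => hW3 v hv x hx,
    fun a ha ha1 c hc hc1 hca x hx => (h.theta_spec h16 ha ha1).2.2.2 c hc hc1 hca
      ⟨hW4 a ha ha1 hx.1, hx.2⟩⟩

theorem psi_le_sigW {a b : G} (ha : a ∈ A) (ha1 : a ≠ 1) (hb : b ∈ A) (hb1 : b ≠ 1) (hba : b ≠ a) :
    psi A a b ≤ sigW A :=
  (le_iSup (fun b : {b : G // b ∈ A ∧ b ≠ 1 ∧ b ≠ a} => psi A a (b : G)) ⟨b, hb, hb1, hba⟩).trans
    (le_iSup (fun a : {a : G // a ∈ A ∧ a ≠ 1} => theta A (a : G)) ⟨a, ha, ha1⟩)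

theorem mem_oPlus_of_mem_sigW {K : Subgroup G} (hKA : K ≤ A) (h4 : 4 ≤ Nat.card ↥K) {k x : G} (hk : k ∈ K)
    (hk1 : k ≠ 1) (hx : x ∈ sigW A) (hxK : x ∈ centralizer (K : Set G)) : x ∈ oPlus A k := by
  obtain ⟨c, hc, hc1, hck⟩ := exists_two h4 k
  exact ((h.sigW_spec h16).2.2 k (hKA hk) hk1 c (hKA hc) hc1 hck
    ⟨⟨hx, mem_centralizer_one.2 (mem_centralizer_comm.1 hxK k hk)⟩,
      mem_centralizer_one.2 (mem_centralizer_comm.1 hxK c hc)⟩).1.1

theorem sigW_inf_centA : sigW A ⊓ centralizer (A : Set G) ≤ c0 A := by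
  rintro x ⟨hx, hxA⟩
  obtain ⟨a, ha, ha1, -⟩ := exists_two (E := A) (by omega) 1
  have h1 := h.mem_oPlus_of_mem_sigW h16 le_rfl (by omega) ha ha1 hx hxA
  rw [oPlus, ← SetLike.mem_coe, coe_mul_of_right_le_normalizer_left _ _ (h.c0_normalizes_oc ha)] at h1
  obtain ⟨o, ho, c, hc, rfl⟩ := h1
  refine mul_mem (h.oc_inf_le_c0 ha (mem_inf.2 ⟨ho, ?_⟩)) hc
  simpa using (centralizer (A : Set G)).mul_mem hxA ((centralizer (A : Set G)).inv_mem (c0_le A hc))

theorem piece_of_mem_sigW {K : Subgroup G} (hKA : K ≤ A) (h2 : 2 * Nat.card ↥K = Nat.card ↥A) {x v : G}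
    (hx : x ∈ sigW A) (hxK : x ∈ centralizer (K : Set G)) (hv : v ∈ A) (hinv : v * x * v⁻¹ = x⁻¹) :
    Piece A K x :=
  ⟨hKA, h2, hxK, ⟨v, hv, hinv⟩, fun k hk hk1 =>
    mem_of_inverted_mul (odd_coreOf _) (h.c0_normalizes_oc (hKA hk)) (h.A_normalizes_oc (hKA hk) hv)
      (fun c hc => h.A_fix_c0 hv hc) (h.mem_oPlus_of_mem_sigW h16 hKA (by omega) hk hk1 hx hxK) hinv⟩

/-- Pieces lie in the common cores of every four-group of their hyperplane. -/
theorem piece_mem_dU {B K : Subgroup G} {y : G} (hB : B ≤ A) (hK : Piece A K y)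
    (h4 : 4 ≤ Nat.card ↥(K ⊓ B)) : y ∈ dU B := by
  obtain ⟨p, hp, hp1, -⟩ := exists_two h4 1
  obtain ⟨q, hq, hq1, hqp⟩ := exists_two h4 p
  exact le_iSup (fun r : {r : G × G // r.1 ∈ B ∧ r.2 ∈ B ∧ r.1 ≠ 1 ∧ r.2 ≠ 1 ∧ r.1 ≠ r.2} =>
    lit (r : G × G).1 (r : G × G).2) ⟨(p, q), hp.2, hq.2, hp1, hq1, hqp.symm⟩
    (mem_lit_of_forall (B := K ⊓ B) hp hq hp1 hq1 (h.mul_ne_one (hB hp.2) hqp)
      fun e he he1 => hK.2.2.2.2 e he.1 he1)

theorem wInv_le_dU {B : Subgroup G} (hB : B ≤ A) (h8 : 8 ≤ Nat.card ↥B) : wInv A ≤ dU B :=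
  (closure_le _).2 fun _ ⟨_, hK⟩ => h.piece_mem_dU h16 hB hK (four_le_inf hK.1 hK.2.1 hB h8)

theorem dU_le_sigW {B : Subgroup G} (hB : B ≤ A) : dU B ≤ sigW A :=
  iSup_le fun p => (lit_le_psi A _ _).trans
    (h.psi_le_sigW h16 (hB p.2.1) p.2.2.2.1 (hB p.2.2.1) p.2.2.2.2.1 p.2.2.2.2.2.symm)

theorem dCore_le_dU {B : Subgroup G} (hB : B ≤ A) (h4 : 4 ≤ Nat.card ↥B) :
    c0 A ⊓ ⨅ a : {a : G // a ∈ A ∧ a ≠ 1}, oc (a : G) ≤ dU B := by
  rintro c ⟨-, hc⟩
  obtain ⟨p, hp, hp1, -⟩ := exists_two h4 1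
  obtain ⟨q, hq, hq1, hqp⟩ := exists_two h4 p
  exact le_iSup (fun r : {r : G × G // r.1 ∈ B ∧ r.2 ∈ B ∧ r.1 ≠ 1 ∧ r.2 ≠ 1 ∧ r.1 ≠ r.2} =>
    lit (r : G × G).1 (r : G × G).2) ⟨(p, q), hp, hq, hp1, hq1, hqp.symm⟩
    (mem_lit_of_forall (B := B) hp hq hp1 hq1 (h.mul_ne_one (hB hp) hqp)
      fun e he he1 => mem_iInf.1 hc ⟨e, hB he, he1⟩)

theorem w0_le_dU {B : Subgroup G} (hB : B ≤ A) (h8 : 8 ≤ Nat.card ↥B) : w0 A ≤ dU B :=
  sup_le (h.wInv_le_dU h16 hB h8) (h.dCore_le_dU h16 hB (by omega))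

theorem w0_le_sigW : w0 A ≤ sigW A := (h.w0_le_dU h16 le_rfl (by omega)).trans (h.dU_le_sigW h16 le_rfl)

theorem odd_w0 : Odd (Nat.card ↥(w0 A)) :=
  (h.sigW_spec h16).1.of_dvd_nat (card_dvd_of_le (h.w0_le_sigW h16))

theorem normalizerA_le_w0 : normalizer (A : Set G) ≤ normalizer (w0 A : Set G) := fun g hg =>
  mem_normalizer_of_conj_le fun x hx => by
    have hA : ∀ a ∈ A, g * a * g⁻¹ ∈ A := fun a ha => (mem_normalizer_iff.1 hg a).1 ha
    have hA' : ∀ a ∈ A, g⁻¹ * a * g ∈ A := fun a ha => (mem_normalizer_iff''.1 hg a).1 ha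
    have hle : w0 A ≤ (w0 A).comap (MulAut.conj g).toMonoidHom := by
      refine sup_le ((closure_le _).2 ?_) fun c hc => mem_sup_right ⟨c0_conj_mem hg hc.1, mem_iInf.2 ?_⟩
      · rintro y ⟨K, hKA, h2, hyK, ⟨v, hv, hvy⟩, hyo⟩
        refine mem_sup_left (subset_closure ⟨MulAut.conj g • K, fun z hz => ?_, ?_, ?_, ⟨g * v * g⁻¹, hA v hv, ?_⟩, ?_⟩)
        · have := hA _ (hKA (mem_conj.1 hz))
          simpa [mul_assoc] using this
        · rwa [← Nat.card_congr (equivSMul (MulAut.conj g) K).toEquiv]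
        · refine mem_centralizer_comm.2 fun z hz => ?_
          show g * y * g⁻¹ * z = z * (g * y * g⁻¹)
          calc g * y * g⁻¹ * z = g * (y * (g⁻¹ * z * g)) * g⁻¹ := by group
            _ = z * (g * y * g⁻¹) := by rw [mem_centralizer_comm.1 hyK _ (mem_conj.1 hz)]; group
        · show g * v * g⁻¹ * (g * y * g⁻¹) * (g * v * g⁻¹)⁻¹ = (g * y * g⁻¹)⁻¹
          calc g * v * g⁻¹ * (g * y * g⁻¹) * (g * v * g⁻¹)⁻¹ = g * (v * y * v⁻¹) * g⁻¹ := by group
            _ = (g * y * g⁻¹)⁻¹ := by rw [hvy]; group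
        · intro k hk hk1
          have := conj_mem_oc (g := g) (hyo _ (mem_conj.1 hk) fun e => hk1 (by
            simpa [mul_assoc] using congrArg (fun z => g * z * g⁻¹) e))
          simpa [mul_assoc] using this
      · rintro ⟨a, ha, ha1⟩
        have h1 := conj_mem_oc (g := g) (mem_iInf.1 hc.2 ⟨g⁻¹ * a * g, hA' a ha, fun e => ha1 (by
          simpa [mul_assoc] using congrArg (fun z => g * z * g⁻¹) e)⟩)
        simpa [mul_assoc] using h1
    exact hle hx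

theorem normalizer_le_w0 : normalizer ((S : Subgroup G) : Set G) ≤ normalizer (w0 A : Set G) :=
  h.normalizer_A.trans (h.normalizerA_le_w0 h16)

end CoreSys

end Cfsg.Agent.Walter.Core
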