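import Cfsg.Agent.Lib.Walter.Components

/-!
# Components and the layer relative to an abelian Sylow 2-subgroup

In a group with abelian Sylow 2-subgroups and no odd core: the meet of a Sylow 2-subgroup with a component is
one of its Sylow subgroups, the normalizer of the Sylow subgroup inside a component moves it transitively, the
layer moves elements of the Sylow subgroup only inside the components, and perfect subgroups lie in the layer.
-/

set_option autoImplicit false
set_option linter.style.haveILetI false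
set_option linter.unusedSectionVars false

namespace Cfsg.Agent.Walter.Core

open Subgroup
open Cfsg.Agent.SEAbelian

universe u

variable {X : Type u} [Group X] [Finite X]

/-- An element of an abelian Sylow subgroup, split along all components. -/
theorem exists_split_all (h : AbTwo X) (h0 : Cfsg.oddCore X = ⊥) (S : Sylow 2 X) {s : X}
    (hs : s ∈ (S : Subgroup X)) :
    ∃ w ∈ ⨆ K : {K : Subgroup X // Cfsg.IsComponent K}, (S : Subgroup X) ⊓ (K : Subgroup X),
      ∃ c ∈ (S : Subgroup X), c ∈ centralizer (Cfsg.layer X : Set X) ∧ w * c = s := by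
  classical
  have hF : ∀ F : Finset {K : Subgroup X // Cfsg.IsComponent K}, ∀ t ∈ (S : Subgroup X),
      ∃ w ∈ ⨆ K : {K : Subgroup X // Cfsg.IsComponent K}, (S : Subgroup X) ⊓ (K : Subgroup X),
        ∃ c ∈ (S : Subgroup X), (∀ K ∈ F, c ∈ centralizer ((K : Subgroup X) : Set X)) ∧ w * c = t := by
    intro F
    induction F using Finset.induction with
    | empty => exact fun t ht => ⟨1, one_mem _, t, ht, by simp, one_mul t⟩
    | @insert K F hKF ih =>
      intro t ht
      obtain ⟨w, hw, c, hc, hcF, rfl⟩ := ih t ht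
      obtain ⟨v, hv, d, hd, rfl⟩ := exists_split h h0 S K.2 hc
      refine ⟨w * v, mul_mem hw (mem_iSup_of_mem K hv), d, hd.1, ?_, by group⟩
      intro L hL
      rcases Finset.mem_insert.1 hL with rfl | hL
      · exact hd.2
      · have hne : (K : Subgroup X) ≠ L := fun e => hKF (Subtype.ext e ▸ hL)
        have hv' := commutator_eq_bot_iff_le_centralizer.1
          (Components.Basic.component_commutator_eq_bot_of_ne K.2 L.2 hne) hv.2
        have := mul_mem (inv_mem hv') (hcF L hL)
        rwa [inv_mul_cancel_left] at this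
  haveI : Fintype {K : Subgroup X // Cfsg.IsComponent K} := Fintype.ofFinite _
  obtain ⟨w, hw, c, hc, hcF, rfl⟩ := hF Finset.univ s hs
  refine ⟨w, hw, c, hc, le_centralizer_iff.1 ?_ (mem_zpowers c), rfl⟩
  exact Components.Basic.layer_le fun K hK =>
    le_centralizer_iff.1 (zpowers_le.2 (hcF ⟨K, hK⟩ (Finset.mem_univ _)))

/-- The meet with a component is a Sylow subgroup of the component. -/
theorem exists_sylow_component (h : AbTwo X) (h0 : Cfsg.oddCore X = ⊥) (S : Sylow 2 X) {K : Subgroup X}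
    (hK : Cfsg.IsComponent K) :
    ∃ P : Sylow 2 ↥K, ((S : Subgroup X) ⊓ K).subgroupOf K = (P : Subgroup ↥K) := by
  obtain ⟨P, hP⟩ := ((S.2.to_le inf_le_left).comap_of_injective K.subtype K.subtype_injective).exists_le_sylow
    (P := ((S : Subgroup X) ⊓ K).comap K.subtype)
  refine ⟨P, le_antisymm hP fun x hx => mem_subgroupOf.2 ⟨?_, x.2⟩⟩
  obtain ⟨k, hk⟩ := P.2 ⟨x, hx⟩
  refine mem_sylow_of_normalizer S ?_ (k := k)
    (congrArg (fun z : ↥(P : Subgroup ↥K) => ((z : ↥K) : X)) hk)
  refine centralizer_le_normalizer _ (mem_centralizer_iff.2 fun s hs => ?_)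
  obtain ⟨w, hw, c, hc, rfl⟩ := exists_split h h0 S hK hs
  have h1 : Commute (x : X) w :=
    congrArg Subtype.val ((h.subgroup K) _ P.2 x hx ⟨w, hw.2⟩ (hP (mem_subgroupOf.2 hw))).eq
  have h2 : Commute (x : X) c := mem_centralizer_iff.1 hc.2 x x.2
  exact (h1.mul_right h2).symm.eq

/-- The normalizer of the Sylow subgroup inside a component is transitive on the non-identity elements of the
meet. -/
theorem component_trans (h : AbTwo X) (h0 : Cfsg.oddCore X = ⊥) (S : Sylow 2 X) {K : Subgroup X}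
    (hK : Cfsg.IsComponent K) (hone : OneTwoClass ↥K) {u v : X} (hu : u ∈ (S : Subgroup X) ⊓ K) (hu1 : u ≠ 1)
    (hv : v ∈ (S : Subgroup X) ⊓ K) (hv1 : v ≠ 1) :
    ∃ k ∈ K, k ∈ normalizer ((S : Subgroup X) : Set X) ∧ k * u * k⁻¹ = v := by
  obtain ⟨P, hP⟩ := exists_sylow_component h h0 S hK
  have hmem : ∀ x : ↥K, x ∈ (P : Subgroup ↥K) ↔ (x : X) ∈ (S : Subgroup X) ⊓ K := fun x => by
    rw [← hP]
    exact mem_subgroupOf
  obtain ⟨n, hn, hnu⟩ := hone P ⟨u, hu.2⟩ ((hmem _).2 hu) ⟨v, hv.2⟩ ((hmem _).2 hv)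
    (fun e => hu1 (congrArg Subtype.val e)) (fun e => hv1 (congrArg Subtype.val e))
  have key : ∀ m ∈ normalizer ((P : Subgroup ↥K) : Set ↥K), ∀ s ∈ (S : Subgroup X),
      (m : X) * s * (m : X)⁻¹ ∈ (S : Subgroup X) := by
    intro m hm s hs
    obtain ⟨w, hw, c, hc, rfl⟩ := exists_split h h0 S hK hs
    have h1 := (hmem _).1 ((mem_normalizer_iff.1 hm ⟨w, hw.2⟩).1 ((hmem _).2 hw))
    rw [show (m : X) * (w * c) * (m : X)⁻¹ = (m : X) * w * (m : X)⁻¹ * ((m : X) * c * (m : X)⁻¹) by group,
      show (m : X) * c * (m : X)⁻¹ = c by rw [mem_centralizer_iff.1 hc.2 m m.2, mul_inv_cancel_right]]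
    exact mul_mem h1.1 hc.1
  refine ⟨n, n.2, mem_normalizer_iff.2 fun s => ⟨key n hn s, fun hs => ?_⟩, congrArg Subtype.val hnu⟩
  have h2 := key n⁻¹ (inv_mem hn) _ hs
  simpa [mul_assoc] using h2

/-- An element of the layer normalizing the Sylow subgroup moves its elements inside the components. -/
theorem layer_fix (h : AbTwo X) (h0 : Cfsg.oddCore X = ⊥) (S : Sylow 2 X) {n : X} (hn : n ∈ Cfsg.layer X)
    (hnS : n ∈ normalizer ((S : Subgroup X) : Set X)) {s : X} (hs : s ∈ (S : Subgroup X)) :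
    n * s * n⁻¹ * s⁻¹ ∈ ⨆ K : {K : Subgroup X // Cfsg.IsComponent K}, (S : Subgroup X) ⊓ (K : Subgroup X) := by
  obtain ⟨w, hw, c, -, hc, rfl⟩ := exists_split_all h h0 S hs
  rw [show n * (w * c) * n⁻¹ * (w * c)⁻¹ = n * w * n⁻¹ * (n * c * n⁻¹) * c⁻¹ * w⁻¹ by group,
    show n * c * n⁻¹ = c by rw [mem_centralizer_iff.1 hc n hn, mul_inv_cancel_right], mul_inv_cancel_right]
  refine mul_mem ?_ (inv_mem hw)
  have hle : (⨆ K : {K : Subgroup X // Cfsg.IsComponent K}, (S : Subgroup X) ⊓ (K : Subgroup X)) ≤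
      (⨆ K : {K : Subgroup X // Cfsg.IsComponent K}, (S : Subgroup X) ⊓ (K : Subgroup X)).comap
        (MulAut.conj n).toMonoidHom :=
    iSup_le fun K x hx => mem_iSup_of_mem K ⟨(mem_normalizer_iff.1 hnS x).1 hx.1,
      (mem_normalizer_iff.1 (Components.Basic.layer_le_normalizer K.2 hn) x).1 hx.2⟩
  exact hle hw

/-- A perfect subgroup lies in the layer. -/
theorem perfect_le_layer (h : AbTwo X) (h0 : Cfsg.oddCore X = ⊥) (S : Sylow 2 X) {D : Subgroup X}
    (hD : ⁅D, D⁆ = D) : D ≤ Cfsg.layer X := by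
  haveI : Fact (Nat.Prime 2) := ⟨Nat.prime_two⟩
  set N := normalizer ((S : Subgroup X) : Set X) with hN
  set π := QuotientGroup.mk' (Cfsg.layer X) with hπ
  have hNtop : N.map π = ⊤ := by
    have h1 := congrArg (Subgroup.map π) (layer_sup_normalizer h h0 S)
    rw [Subgroup.map_sup, QuotientGroup.map_mk'_self, bot_sup_eq,
      Subgroup.map_top_of_surjective π (QuotientGroup.mk'_surjective _)] at h1
    exact h1
  haveI : Group.IsSolvable ↥N := isSolvable_normalizer S fun x hx y hy => (h _ S.2 x hx y hy).eq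
  haveI : Group.IsSolvable (X ⧸ Cfsg.layer X) := by
    refine Group.isSolvable_of_surjective (f := π.comp N.subtype) ?_
    rw [← MonoidHom.range_eq_top, MonoidHom.range_comp, Subgroup.range_subtype, hNtop]
  have h1 : ⁅D.map π, D.map π⁆ = D.map π := by rw [← map_commutator, hD]
  have h2 : D.map π = ⊥ := by
    by_contra hne
    exact (Group.IsSolvable.commutator_lt_of_ne_bot hne).ne h1
  rwa [Subgroup.map_eq_bot_iff, QuotientGroup.ker_mk'] at h2

end Cfsg.Agent.Walter.Core
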