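import Cfsg.Agent.Lib.Walter.Core.Atom

/-!
# Lifting from the quotient by the odd core

Normalizers and centralizers of 2-subgroups lift, and odd subgroups map to odd subgroups normalized by the
images of the centralizers.
-/

set_option autoImplicit false
set_option linter.style.haveILetI false
set_option linter.unusedSectionVars false

namespace Cfsg.Agent.Walter.Core

open Subgroup
open Cfsg.Agent.SEAbelian

universe u

variable {Y : Type u} [Group Y] [Finite Y]

/-- The normalizer of the Sylow subgroup covers the normalizer of its image. -/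
theorem lift_normalizer (S : Sylow 2 Y) {x : Y}
    (hx : QuotientGroup.mk' (Cfsg.oddCore Y) x ∈
      normalizer ((bar S : Subgroup (Y ⧸ Cfsg.oddCore Y)) : Set (Y ⧸ Cfsg.oddCore Y))) :
    ∃ n ∈ normalizer ((S : Subgroup Y) : Set Y),
      QuotientGroup.mk' (Cfsg.oddCore Y) n = QuotientGroup.mk' (Cfsg.oddCore Y) x := by
  haveI : Fact (Nat.Prime 2) := ⟨Nat.prime_two⟩
  set π := QuotientGroup.mk' (Cfsg.oddCore Y) with hπ
  set P := (bar S : Subgroup (Y ⧸ Cfsg.oddCore Y)).comap π with hP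
  have hSP : (S : Subgroup Y) ≤ P := fun s hs => mem_bar.2 ⟨s, hs, rfl⟩
  have hxS : ((x • S : Sylow 2 Y) : Subgroup Y) ≤ P := by
    rw [Sylow.coe_subgroup_smul]
    intro y hy
    have h1 : π (x⁻¹ * y * x) ∈ (bar S : Subgroup (Y ⧸ Cfsg.oddCore Y)) :=
      hSP (Cfsg.Agent.Walter.mem_conj.1 hy)
    have h2 := (mem_normalizer_iff.1 hx _).1 h1
    rw [← map_inv, ← map_mul, ← map_mul, show x * (x⁻¹ * y * x) * x⁻¹ = y by group] at h2
    exact h2
  obtain ⟨t, ht⟩ := MulAction.exists_smul_eq ↥P (S.subtype hSP) ((x • S : Sylow 2 Y).subtype hxS)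
  have hn0 : (t : Y)⁻¹ * x ∈ normalizer ((S : Subgroup Y) : Set Y) := by
    have h2 : ∀ z ∈ (S : Subgroup Y), x⁻¹ * ((t : Y) * z * (t : Y)⁻¹) * x ∈ (S : Subgroup Y) := by
      intro z hz
      have h1 : t * ⟨z, hSP hz⟩ * t⁻¹ ∈ ((x • S : Sylow 2 Y).subtype hxS : Subgroup ↥P) := by
        rw [← ht, Sylow.coe_subgroup_smul]
        exact conj_mem_conj (by rw [Sylow.coe_subtype, mem_subgroupOf]; exact hz)
      rw [Sylow.coe_subtype, mem_subgroupOf, Sylow.coe_subgroup_smul] at h1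
      exact Cfsg.Agent.Walter.mem_conj.1 h1
    have h3 : (x⁻¹ * (t : Y)) ∈ normalizer ((S : Subgroup Y) : Set Y) := by
      refine mem_normalizer_iff_map_conj_eq.2 (eq_of_le_of_card_ge ?_ ?_)
      · rintro _ ⟨z, hz, rfl⟩
        show x⁻¹ * (t : Y) * z * (x⁻¹ * (t : Y))⁻¹ ∈ (S : Subgroup Y)
        rw [show x⁻¹ * (t : Y) * z * (x⁻¹ * (t : Y))⁻¹ = x⁻¹ * ((t : Y) * z * (t : Y)⁻¹) * x by group]
        exact h2 z hz
      · rw [Subgroup.card_map_of_injective (MulAut.conj (x⁻¹ * (t : Y))).injective]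
    have := inv_mem h3
    rwa [mul_inv_rev, inv_inv] at this
  obtain ⟨s, hs, es⟩ := mem_bar.1 (show π (t : Y) ∈ (bar S : Subgroup (Y ⧸ Cfsg.oddCore Y)) from t.2)
  refine ⟨s * ((t : Y)⁻¹ * x), mul_mem (le_normalizer hs) hn0, ?_⟩
  rw [map_mul, map_mul, map_inv, es, mul_inv_cancel_left]

/-- The centralizer of a 2-subgroup covers the centralizer of its image. -/
theorem lift_centralizer (h : AbTwo Y) (S : Sylow 2 Y) {P : Subgroup Y} (hP : P ≤ (S : Subgroup Y)) {x : Y}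
    (hx : ∀ b ∈ P, Commute (QuotientGroup.mk' (Cfsg.oddCore Y) b) (QuotientGroup.mk' (Cfsg.oddCore Y) x)) :
    ∃ m ∈ centralizer (P : Set Y),
      QuotientGroup.mk' (Cfsg.oddCore Y) m = QuotientGroup.mk' (Cfsg.oddCore Y) x := by
  haveI : Fact (Nat.Prime 2) := ⟨Nat.prime_two⟩
  set π := QuotientGroup.mk' (Cfsg.oddCore Y) with hπ
  obtain ⟨o, ho, hxo⟩ := Coprime.exists_fixed_in_coset (A := P) (N := Cfsg.oddCore Y) (k := x)
    le_normalizer_of_normal (by
      obtain ⟨i, hi⟩ := IsPGroup.iff_card.1 (S.2.to_le hP)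
      rw [hi]
      exact (Agent.Cores.pPrimeCore_card_coprime (G := Y) 2).symm.pow_left i)
    (Or.inl (Group.isSolvable_of_comm fun a b => Subtype.ext (h _ S.2 a (hP a.2) b (hP b.2)).eq))
    (fun b hb => (QuotientGroup.eq_one_iff _).1 (show π (x⁻¹ * (b * x * b⁻¹)) = 1 by
      rw [map_mul, map_mul, map_mul, map_inv, map_inv, (hx b hb).eq]
      group))
  refine ⟨x * o, hxo, ?_⟩
  rw [map_mul, show π o = 1 from (QuotientGroup.eq_one_iff o).2 ho, mul_one]

/-- An odd subgroup normalized by the centralizer of a 2-subgroup maps to one. -/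
theorem push (h : AbTwo Y) (S : Sylow 2 Y) {P N : Subgroup Y} (hP : P ≤ (S : Subgroup Y))
    (hN : centralizer (P : Set Y) ≤ normalizer (N : Set Y)) (hodd : Odd (Nat.card ↥N)) :
    Odd (Nat.card ↥(N.map (QuotientGroup.mk' (Cfsg.oddCore Y)))) ∧
      centralizer ((P.map (QuotientGroup.mk' (Cfsg.oddCore Y)) : Subgroup _) : Set (Y ⧸ Cfsg.oddCore Y)) ≤
        normalizer ((N.map (QuotientGroup.mk' (Cfsg.oddCore Y)) : Subgroup _) : Set (Y ⧸ Cfsg.oddCore Y)) := by
  refine ⟨hodd.of_dvd_nat (card_map_dvd _ _), fun q hq => ?_⟩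
  obtain ⟨x, rfl⟩ := QuotientGroup.mk'_surjective _ q
  obtain ⟨m, hm, e⟩ := lift_centralizer h S hP (x := x) fun b hb =>
    mem_centralizer_iff.1 hq _ (mem_map_of_mem _ hb)
  rw [← e]
  exact le_normalizer_map _ (mem_map_of_mem _ (hN hm))

end Cfsg.Agent.Walter.Core
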