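import Cfsg.Agent.Lib.Walter.Core.Quot

/-!
# Nice simple groups

`Nice` is what the core-killing induction needs of the smaller simple groups with abelian Sylow 2-subgroups.
-/

set_option autoImplicit false
set_option linter.style.haveILetI false
set_option linter.unusedSectionVars false

namespace Cfsg.Agent.Walter.Core

open Subgroup
open Cfsg.Agent.SEAbelian

universe u

/-- The properties used of a component. -/
structure Nice (T : Type u) [Group T] : Prop where
  one : OneTwoClass T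
  cent : ∀ P : Sylow 2 T, centralizer ((P : Subgroup T) : Set T) ≤ (P : Subgroup T)
  core : ∀ P : Sylow 2 T, 8 ≤ Nat.card ↥(P : Subgroup T) → ∀ z : T, orderOf z = 2 →
    Cfsg.oddCore ↥(centralizer ({z} : Set T)) = ⊥
  rigid : ∀ (P : Sylow 2 T) (α : MulAut T), Odd (orderOf α) → (∀ x ∈ (P : Subgroup T), α x = x) →
    ∀ B ≤ (P : Subgroup T), 8 ≤ Nat.card ↥B →
      (∀ z ∈ B, z ≠ 1 → ∀ g ∈ centralizer ({z} : Set T), α g = g) → α = 1
  small : ∀ P : Sylow 2 T, Nat.card ↥(P : Subgroup T) = 4 →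
    normalizer ((P : Subgroup T) : Set T) ⊔
        (⨆ w : {w : T // w ∈ (P : Subgroup T) ∧ w ≠ 1}, centralizer ({(w : T)} : Set T)) = ⊤ ∨
    ((∀ w ∈ (P : Subgroup T), w ≠ 1 → centralizer ({w} : Set T) ≤ (P : Subgroup T)) ∧
      ∀ α : MulAut T, Odd (orderOf α) → (∀ x ∈ (P : Subgroup T), α x = x) → α = 1)

variable {X : Type u} [Group X] [Finite X]

/-- A component with nice isomorphism type is nice in the whole group. -/
theorem compNice_of_nice (h : AbTwo X) (h0 : Cfsg.oddCore X = ⊥) (S : Sylow 2 X) {J : Subgroup X}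
    (hJ : Cfsg.IsComponent J) (hn : Nice ↥J) : CompNice S J := by
  haveI : Fact (Nat.Prime 2) := ⟨Nat.prime_two⟩
  obtain ⟨hs, hnc⟩ := component_simple h h0 hJ
  haveI := hs
  obtain ⟨P, hP⟩ := exists_sylow_component h h0 S hJ
  have hmem : ∀ x : ↥J, x ∈ (P : Subgroup ↥J) ↔ (x : X) ∈ (S : Subgroup X) ⊓ J := fun x => by
    rw [← hP]
    exact mem_subgroupOf
  have hcard : Nat.card ↥(P : Subgroup ↥J) = Nat.card ↥((S : Subgroup X) ⊓ J) := by
    rw [← hP, Nat.card_congr (subgroupOfEquivOfLe inf_le_right).toEquiv]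
  have h4 : 4 ≤ Nat.card ↥(P : Subgroup ↥J) := four_le_sylow hnc (h.subgroup J) P
  have hsq : ∀ w ∈ (S : Subgroup X) ⊓ J, w * w = 1 := by
    intro w hw
    by_cases hw1 : w = 1
    · rw [hw1, one_mul]
    obtain ⟨k, hk⟩ := exists_two_pow (S := S) hw.1
    obtain ⟨i, hi⟩ := exists_involution_pow hk hw1
    obtain ⟨n, -, e⟩ := hn.one P (⟨w ^ i, pow_mem hw.2 i⟩) ((hmem _).2 (pow_mem hw i)) ⟨w, hw.2⟩ ((hmem _).2 hw)
      (fun e => ne_one_of_orderOf_two hi (congrArg Subtype.val e)) (fun e => hw1 (congrArg Subtype.val e))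
    have h2 : w ^ i * w ^ i = 1 := by rw [← pow_two]; exact orderOf_dvd_iff_pow_eq_one.1 hi.dvd
    have e' : (n : X) * w ^ i * (n : X)⁻¹ = w := congrArg Subtype.val e
    rw [← e', show (n : X) * w ^ i * (n : X)⁻¹ * ((n : X) * w ^ i * (n : X)⁻¹) =
      (n : X) * (w ^ i * w ^ i) * (n : X)⁻¹ by group, h2, mul_one, mul_inv_cancel]
  have hC : ∀ w : ↥J, (centralizer ({w} : Set ↥J)).map J.subtype = J ⊓ centralizer ({(w : X)} : Set X) := by
    intro w
    ext g
    rw [mem_inf, mem_centralizer_singleton_iff]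
    constructor
    · rintro ⟨y, hy, rfl⟩
      exact ⟨y.2, congrArg Subtype.val (mem_centralizer_singleton_iff.1 hy)⟩
    · rintro ⟨hgJ, hgw⟩
      exact ⟨⟨g, hgJ⟩, mem_centralizer_singleton_iff.2 (Subtype.ext hgw), rfl⟩
  -- conjugation on the component
  have hα : ∀ y : ↥(normalizer (J : Set X)), ∀ g : ↥J,
      ((J.normalizerMonoidHom y g : ↥J) : X) = (y : X) * g * (y : X)⁻¹ := fun y g => rfl
  have hαodd : ∀ y : ↥(normalizer (J : Set X)), Odd (orderOf (y : X)) →
      Odd (orderOf (J.normalizerMonoidHom y)) := fun y ho => by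
    rw [Subgroup.orderOf_coe] at ho
    exact ho.of_dvd_nat (orderOf_map_dvd _ y)
  have hαfix : ∀ y : ↥(normalizer (J : Set X)), (∀ w ∈ (S : Subgroup X) ⊓ J, Commute (y : X) w) →
      ∀ x ∈ (P : Subgroup ↥J), J.normalizerMonoidHom y x = x := fun y hy x hx =>
    Subtype.ext (by rw [hα, (hy x ((hmem x).1 hx)).eq, mul_inv_cancel_right])
  have hαone : ∀ y : ↥(normalizer (J : Set X)), J.normalizerMonoidHom y = 1 →
      (y : X) ∈ centralizer (J : Set X) := fun y e => mem_centralizer_iff.2 fun g hg => by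
    have h1 := congrArg (fun a : MulAut ↥J => ((a ⟨g, hg⟩ : ↥J) : X)) e
    simp only [hα, MulAut.one_apply] at h1
    exact (mul_inv_eq_iff_eq_mul.1 h1).symm
  refine ⟨hsq, hcard ▸ h4, fun x hx => ?_, fun h8 w hw hw1 => ?_, fun y hy ho hfix B hB h8 hBC => ?_,
    fun h4' => ?_⟩
  · exact ((hmem ⟨x, hx.1⟩).1 (hn.cent P (mem_centralizer_iff.2 fun p hp =>
      Subtype.ext (mem_centralizer_iff.1 hx.2 p ((hmem p).1 hp))))).1
  · have ho : orderOf (⟨w, hw.2⟩ : ↥J) = 2 := orderOf_eq_prime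
      (by rw [pow_two]; exact Subtype.ext (hsq w hw)) fun e => hw1 (congrArg Subtype.val e)
    have h1 := hn.core P (hcard ▸ h8) _ ho
    let e : ↥(centralizer ({(⟨w, hw.2⟩ : ↥J)} : Set ↥J)) ≃* ↥(J ⊓ centralizer ({w} : Set X)) :=
      ((centralizer ({(⟨w, hw.2⟩ : ↥J)} : Set ↥J)).equivMapOfInjective J.subtype J.subtype_injective).trans
        (MulEquiv.subgroupCongr (hC _))
    have h2 := Agent.Cores.map_pPrimeCore_eq e 2
    rw [show Cfsg.pPrimeCore 2 _ = _ from h1, Subgroup.map_bot] at h2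
    exact h2.symm
  · refine hαone ⟨y, hy⟩ (hn.rigid P _ (hαodd ⟨y, hy⟩ ho) (hαfix ⟨y, hy⟩ hfix) (B.subgroupOf J)
      (fun x hx => (hmem x).2 (hB hx)) ?_ fun z hz hz1 g hg => Subtype.ext ?_)
    · rwa [Nat.card_congr (subgroupOfEquivOfLe (hB.trans inf_le_right)).toEquiv]
    · rw [hα, ← mem_centralizer_iff.1 (hBC z hz fun e => hz1 (Subtype.ext e)) g
        ⟨g.2, mem_centralizer_singleton_iff.2 (congrArg Subtype.val (mem_centralizer_singleton_iff.1 hg))⟩,
        mul_inv_cancel_right]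
  · rcases hn.small P (hcard.trans h4') with h1 | ⟨h1, h2⟩
    · refine Or.inl ?_
      have h2 := congrArg (Subgroup.map J.subtype) h1
      rw [Subgroup.map_sup, Subgroup.map_iSup, ← MonoidHom.range_eq_map, Subgroup.range_subtype] at h2
      refine h2.symm.le.trans (sup_le_sup ?_ (iSup_le fun w => ?_))
      · rintro _ ⟨n, hn', rfl⟩
        have key : ∀ m ∈ normalizer ((P : Subgroup ↥J) : Set ↥J), ∀ s ∈ (S : Subgroup X),
            (m : X) * s * (m : X)⁻¹ ∈ (S : Subgroup X) := by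
          intro m hm s hs
          obtain ⟨w, hw, c, hc, rfl⟩ := exists_split h h0 S hJ hs
          have h3 := (hmem _).1 ((mem_normalizer_iff.1 hm ⟨w, hw.2⟩).1 ((hmem _).2 hw))
          rw [show (m : X) * (w * c) * (m : X)⁻¹ = (m : X) * w * (m : X)⁻¹ * ((m : X) * c * (m : X)⁻¹) by group,
            show (m : X) * c * (m : X)⁻¹ = c by rw [mem_centralizer_iff.1 hc.2 m m.2, mul_inv_cancel_right]]
          exact mul_mem h3.1 hc.1
        refine ⟨n.2, mem_normalizer_iff.2 fun s => ⟨key n hn' s, fun hs => ?_⟩⟩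
        simpa [mul_assoc] using key n⁻¹ (inv_mem hn') _ hs
      · refine le_iSup_of_le ⟨((w : ↥J) : X), (hmem _).1 w.2.1, fun e => w.2.2 (Subtype.ext e)⟩ ?_
        rw [hC]
    · refine Or.inr ⟨fun w hw hw1 x hx => ?_, fun y hy ho hfix =>
        hαone ⟨y, hy⟩ (h2 _ (hαodd ⟨y, hy⟩ ho) (hαfix ⟨y, hy⟩ hfix))⟩
      exact ((hmem ⟨x, hx.1⟩).1 (h1 ⟨w, hw.2⟩ ((hmem _).2 hw) (fun e => hw1 (congrArg Subtype.val e))
        (mem_centralizer_singleton_iff.2 (Subtype.ext (mem_centralizer_singleton_iff.1 hx.2))))).1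

end Cfsg.Agent.Walter.Core
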