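import Cfsg.Agent.Lib.Walter.Coatom

/-!
# Rigidity of the smallest simple groups with abelian Sylow 2-subgroups

An automorphism of odd order fixing an elementary self-centralising Sylow 2-subgroup fixes its normalizer; if the
centralisers of involutions are the Sylow subgroups themselves and `|T| = |P| (|P|² - 1)` it is trivial.
-/

set_option autoImplicit false
set_option linter.style.haveILetI false
set_option linter.unusedSectionVars false

namespace Cfsg.Agent.Walter.Core

open Subgroup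
open Cfsg.Agent.SEAbelian

universe u

variable {T : Type u} [Group T] [Finite T]

/-- An automorphism of odd order fixing `P` fixes `N(P)`, if `P` is elementary and self-centralising. -/
theorem fix_normalizer {P : Subgroup T} (hsq : ∀ p ∈ P, p * p = 1) (hcent : centralizer (P : Set T) ≤ P)
    {α : MulAut T} (hodd : Odd (orderOf α)) (hfix : ∀ p ∈ P, α p = p) :
    ∀ n ∈ normalizer (P : Set T), α n = n := by
  intro n hn
  set d := n⁻¹ * α n with hd
  have hdC : d ∈ centralizer (P : Set T) := mem_centralizer_iff.2 fun p hp => by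
    have h1 := hfix _ ((mem_normalizer_iff.1 hn p).1 hp)
    rw [map_mul, map_mul, map_inv, hfix p hp] at h1
    calc p * d = n⁻¹ * (n * p * n⁻¹) * α n := by rw [hd]; group
      _ = n⁻¹ * (α n * p * (α n)⁻¹) * α n := by rw [h1]
      _ = d * p := by rw [hd]; group
  have hdP := hcent hdC
  have hn' : α n = n * d := by rw [hd, mul_inv_cancel_left]
  have hpow : ∀ k : ℕ, (α ^ k) n = n * d ^ k := by
    intro k
    induction k with
    | zero => simp
    | succ k ih => rw [pow_succ', MulAut.mul_apply, ih, map_mul, map_pow, hfix d hdP, hn', mul_assoc, ← pow_succ']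
  have h1 := hpow (orderOf α)
  rw [pow_orderOf_eq_one, MulAut.one_apply, left_eq_mul] at h1
  have h2 : orderOf d ∣ 2 := orderOf_dvd_of_pow_eq_one (by rw [pow_two]; exact hsq d hdP)
  rcases (Nat.dvd_prime Nat.prime_two).1 h2 with e | e
  · rw [hn', orderOf_eq_one_iff.1 e, mul_one]
  · exact absurd (hodd.of_dvd_nat (e ▸ orderOf_dvd_of_pow_eq_one h1)) (by decide)

/-- The order of the normalizer of a transitively permuted, strongly self-centralising subgroup. -/
theorem card_normalizer_of_regular {P : Subgroup T}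
    (htr : ∀ u ∈ P, u ≠ 1 → ∀ v ∈ P, v ≠ 1 → ∃ n ∈ normalizer (P : Set T), n * u * n⁻¹ = v)
    (hC : ∀ u ∈ P, u ≠ 1 → centralizer ({u} : Set T) ≤ P) (hab : ∀ a ∈ P, ∀ b ∈ P, a * b = b * a)
    (hne : P ≠ ⊥) : Nat.card ↥(normalizer (P : Set T)) = Nat.card ↥P * (Nat.card ↥P - 1) := by
  classical
  obtain ⟨u, hu, hu1⟩ := P.bot_or_exists_ne_one.resolve_left hne
  choose c hcN hc using fun v : {v : ↥P // v ≠ 1} => htr u hu hu1 v.1 v.1.2 fun e => v.2 (Subtype.ext e)
  have hcomm : ∀ p ∈ P, ∀ g : T, (g * p) * u * (g * p)⁻¹ = g * u * g⁻¹ := fun p hp g => by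
    rw [show (g * p) * u * (g * p)⁻¹ = g * (p * u) * p⁻¹ * g⁻¹ by group, hab p hp u hu]
    group
  have hbij : Function.Bijective (fun x : ↥P × {v : ↥P // v ≠ 1} =>
      (⟨c x.2 * x.1, mul_mem (hcN x.2) (le_normalizer x.1.2)⟩ : ↥(normalizer (P : Set T)))) := by
    refine ⟨?_, fun n => ?_⟩
    · rintro ⟨p, v⟩ ⟨p', v'⟩ e
      have e1 : c v * (p : T) = c v' * (p' : T) := congrArg Subtype.val e
      have e2 : v = v' := by
        refine Subtype.ext (Subtype.ext ?_)
        rw [← hc v, ← hc v', ← hcomm p p.2, e1, hcomm p' p'.2]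
      subst e2
      exact Prod.ext (Subtype.ext (mul_left_cancel e1)) rfl
    · have hvP : (n : T) * u * (n : T)⁻¹ ∈ P := (mem_normalizer_iff.1 n.2 u).1 hu
      have hv1 : (⟨_, hvP⟩ : ↥P) ≠ 1 := fun e => hu1 (conj_eq_one_iff.1 (congrArg Subtype.val e))
      set v : {v : ↥P // v ≠ 1} := ⟨⟨_, hvP⟩, hv1⟩ with hv
      have hp : (c v)⁻¹ * n ∈ P := hC u hu hu1 (mem_centralizer_singleton_iff.2 (by
        have h1 : c v * u * (c v)⁻¹ = (n : T) * u * (n : T)⁻¹ := hc v
        calc (c v)⁻¹ * n * u = (c v)⁻¹ * ((n : T) * u * (n : T)⁻¹) * n := by group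
          _ = u * ((c v)⁻¹ * n) := by rw [← h1]; group))
      exact ⟨(⟨_, hp⟩, v), Subtype.ext (mul_inv_cancel_left _ _)⟩
  rw [← Nat.card_congr (Equiv.ofBijective _ hbij), Nat.card_prod]
  congr 1
  haveI := Fintype.ofFinite ↥P
  rw [Nat.card_eq_fintype_card, Nat.card_eq_fintype_card, Fintype.card_subtype_compl, Fintype.card_subtype_eq]

/-- Rigidity when the Sylow subgroups are the centralisers of their involutions. -/
theorem rigid_of_ti [IsSimpleGroup T] (hnc : ¬ IsMulCommutative T) (h : AbTwo T) (h1 : OneTwoClass T)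
    (P : Sylow 2 T) (hC : ∀ z ∈ (P : Subgroup T), z ≠ 1 → centralizer ({z} : Set T) ≤ (P : Subgroup T))
    (hcard : Nat.card T + Nat.card ↥(P : Subgroup T) =
      Nat.card ↥(P : Subgroup T) * (Nat.card ↥(P : Subgroup T) * Nat.card ↥(P : Subgroup T)))
    {α : MulAut T} (hodd : Odd (orderOf α)) (hfix : ∀ x ∈ (P : Subgroup T), α x = x) : α = 1 := by
  classical
  haveI : Fact (Nat.Prime 2) := ⟨Nat.prime_two⟩
  have hab : ∀ a ∈ (P : Subgroup T), ∀ b ∈ (P : Subgroup T), a * b = b * a := fun a ha b hb =>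
    (h _ P.2 a ha b hb).eq
  have h4 := four_le_sylow hnc h P
  have hPne : (P : Subgroup T) ≠ ⊥ := fun e => by rw [e, card_bot] at h4; omega
  obtain ⟨u, hu, hu1⟩ := (P : Subgroup T).bot_or_exists_ne_one.resolve_left hPne
  have hsq : ∀ p ∈ (P : Subgroup T), p * p = 1 := fun p hp => by
    by_cases hp1 : p = 1
    · rw [hp1, mul_one]
    · rw [← pow_two, ← orderOf_two_of_oneTwoClass h1 hp hp1, pow_orderOf_eq_one]
  have hNfix := fix_normalizer hsq (fun x hx => hC u hu hu1
    (mem_centralizer_singleton_iff.2 (mem_centralizer_iff.1 hx u hu).symm)) hodd hfix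
  set N := normalizer ((P : Subgroup T) : Set T) with hN
  have hNcard : Nat.card ↥N = Nat.card ↥(P : Subgroup T) * (Nat.card ↥(P : Subgroup T) - 1) :=
    card_normalizer_of_regular (fun u hu hu1 v hv hv1 => h1 P u hu v hv hu1 hv1) hC hab hPne
  have hTcard : Nat.card T = (Nat.card ↥(P : Subgroup T) + 1) * Nat.card ↥N := by
    rw [hNcard]
    obtain ⟨m, hm⟩ : ∃ m, Nat.card ↥(P : Subgroup T) = m + 4 := ⟨_, (Nat.sub_add_cancel h4).symm⟩
    rw [hm] at hcard ⊢
    rw [show m + 4 - 1 = m + 3 by omega]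
    nlinarith
  -- trivial intersection
  have hti : ∀ g, g ∉ N → ∀ p ∈ (P : Subgroup T), g⁻¹ * p * g ∈ N → p = 1 := by
    intro g hg p hp hpN
    by_contra hp1
    have hy : g⁻¹ * p * g ∈ (P : Subgroup T) := by
      have h2 : IsPGroup 2 ↥(zpowers (g⁻¹ * p * g)) := IsPGroup.of_card (n := 1) (by
        rw [Nat.card_zpowers, pow_one]
        refine orderOf_eq_prime ?_ fun e => hp1 ?_
        · rw [pow_two, show g⁻¹ * p * g * (g⁻¹ * p * g) = g⁻¹ * (p * p) * g by group, hsq p hp, mul_one,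
            inv_mul_cancel]
        · rw [show p = g * (g⁻¹ * p * g) * g⁻¹ by group, e, mul_one, mul_inv_cancel])
      exact (P.3 (h2.to_sup_of_normal_right' P.2 (zpowers_le.2 hpN)) le_sup_right).le
        (mem_sup_left (mem_zpowers _))
    have hy1 : g⁻¹ * p * g ≠ 1 := fun e => hp1 (by
      rw [show p = g * (g⁻¹ * p * g) * g⁻¹ by group, e, mul_one, mul_inv_cancel])
    refine hg (inv_mem_iff.1 (mem_normalizer_of_conj fun s hs => hC _ hy hy1 ?_))
    refine mem_centralizer_singleton_iff.2 ?_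
    rw [inv_inv]
    calc g⁻¹ * s * g * (g⁻¹ * p * g) = g⁻¹ * (s * p) * g := by group
      _ = g⁻¹ * (p * s) * g := by rw [hab s hs p hp]
      _ = g⁻¹ * p * g * (g⁻¹ * s * g) := by group
  have hk : ∀ g, g⁻¹ * α g ∈ N := by
    intro g
    by_cases hg : g ∈ N
    · rw [hNfix g hg, inv_mul_cancel]
      exact one_mem _
    -- the double coset
    set φ : Option ↥(P : Subgroup T) × ↥N → T := fun x => (x.1.elim 1 fun p => (p : T) * g) * (x.2 : T) with hφ
    have hnot : ∀ (p : ↥(P : Subgroup T)) (n : ↥N), (p : T) * g * n ∉ N := fun p n hc => hg (by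
      have := mul_mem (mul_mem (inv_mem (le_normalizer p.2 : (p : T) ∈ N)) hc) (inv_mem n.2)
      rwa [show (p : T)⁻¹ * ((p : T) * g * n) * (n : T)⁻¹ = g by group] at this)
    have hinj : Function.Injective φ := by
      rintro ⟨_ | p, n⟩ ⟨_ | p', n'⟩ e <;> simp only [hφ, Option.elim_none, Option.elim_some, one_mul] at e
      · exact Prod.ext rfl (Subtype.ext e)
      · exact absurd (e ▸ n.2) (hnot p' n')
      · exact absurd (e.symm ▸ n'.2) (hnot p n)
      · have h2 : g⁻¹ * ((p' : T)⁻¹ * p) * g = (n' : T) * (n : T)⁻¹ := by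
          calc g⁻¹ * ((p' : T)⁻¹ * p) * g = g⁻¹ * (p' : T)⁻¹ * ((p : T) * g * n) * (n : T)⁻¹ := by group
            _ = g⁻¹ * (p' : T)⁻¹ * ((p' : T) * g * n') * (n : T)⁻¹ := by rw [e]
            _ = _ := by group
        have h3 : (p' : T)⁻¹ * p = 1 :=
          hti g hg _ (mul_mem (inv_mem p'.2) p.2) (h2 ▸ mul_mem n'.2 (inv_mem n.2))
        obtain rfl : p' = p := Subtype.ext (inv_mul_eq_one.1 h3)
        exact Prod.ext rfl (Subtype.ext (mul_left_cancel e))
    have hsurj := ((Nat.bijective_iff_injective_and_card φ).2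
      ⟨hinj, by rw [Nat.card_prod, Finite.card_option, hTcard]⟩).2
    obtain ⟨⟨_ | p, n⟩, e⟩ := hsurj (α g) <;> simp only [hφ, Option.elim_none, Option.elim_some, one_mul] at e
    · refine absurd ?_ hg
      have : α g = α (n : T) := by rw [hNfix _ n.2, e]
      exact α.injective this ▸ n.2
    suffices hp : (p : T) = 1 by
      rw [← e, hp, one_mul, inv_mul_cancel_left]
      exact n.2
    by_contra hp
    -- `N ∩ gNg⁻¹` is not trivial
    obtain ⟨a, ha, ha', ha1⟩ : ∃ a, a ∈ N ∧ g⁻¹ * a * g ∈ N ∧ a ≠ 1 := by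
      by_contra hcon
      push Not at hcon
      have hle : Nat.card ↥N * Nat.card ↥N ≤ Nat.card T := by
        rw [← Nat.card_prod]
        refine Nat.card_le_card_of_injective (fun x : ↥N × ↥N => (x.1 : T) * g * x.2) ?_
        rintro ⟨a, b⟩ ⟨a', b'⟩ (e : (a : T) * g * b = a' * g * b')
        have h2 : g⁻¹ * ((a' : T)⁻¹ * a) * g = (b' : T) * (b : T)⁻¹ := by
          calc g⁻¹ * ((a' : T)⁻¹ * a) * g = g⁻¹ * (a' : T)⁻¹ * ((a : T) * g * b) * (b : T)⁻¹ := by group
            _ = g⁻¹ * (a' : T)⁻¹ * ((a' : T) * g * b') * (b : T)⁻¹ := by rw [e]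
            _ = _ := by group
        have h3 := hcon _ (mul_mem (inv_mem a'.2) a.2) (h2 ▸ mul_mem b'.2 (inv_mem b.2))
        obtain rfl : a' = a := Subtype.ext (inv_mul_eq_one.1 h3)
        exact Prod.ext rfl (Subtype.ext (mul_left_cancel e))
      rw [hTcard] at hle
      have h5 := Nat.le_of_mul_le_mul_right hle Nat.card_pos
      rw [hNcard] at h5
      obtain ⟨m, hm⟩ : ∃ m, Nat.card ↥(P : Subgroup T) = m + 4 := ⟨_, (Nat.sub_add_cancel h4).symm⟩
      rw [hm, show m + 4 - 1 = m + 3 by omega] at h5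
      nlinarith
    -- it commutes with `p`
    have h6 : (α g)⁻¹ * a * α g ∈ N := by
      have := hNfix _ ha'
      rw [map_mul, map_mul, map_inv, hNfix a ha] at this
      rw [this]
      exact ha'
    have h7 : g⁻¹ * ((p : T)⁻¹ * a * p) * g ∈ N := by
      have := mul_mem (mul_mem n.2 h6) (inv_mem n.2)
      rw [← e] at this
      rwa [show (n : T) * (((p : T) * g * n)⁻¹ * a * ((p : T) * g * n)) * (n : T)⁻¹ =
        g⁻¹ * ((p : T)⁻¹ * a * p) * g by group] at this
    have h8 : a⁻¹ * ((p : T)⁻¹ * a * p) = 1 := by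
      refine hti g hg _ ?_ ?_
      · rw [show a⁻¹ * ((p : T)⁻¹ * a * p) = a⁻¹ * (p : T)⁻¹ * a⁻¹⁻¹ * p by group]
        exact mul_mem ((mem_normalizer_iff.1 (inv_mem ha) _).1 (inv_mem p.2)) p.2
      · have := mul_mem (inv_mem ha') h7
        rwa [show (g⁻¹ * a * g)⁻¹ * (g⁻¹ * ((p : T)⁻¹ * a * p) * g) =
          g⁻¹ * (a⁻¹ * ((p : T)⁻¹ * a * p)) * g by group] at this
    have haC : a ∈ centralizer ({(p : T)} : Set T) := mem_centralizer_singleton_iff.2 (by
      calc a * p = p * ((p : T)⁻¹ * a * p) := by group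
        _ = p * a := by rw [← inv_mul_eq_one.1 h8])
    exact ha1 (hti g hg a (hC _ p.2 hp haC) ha')
  have hcore : N.normalCore = ⊥ := (IsSimpleGroup.eq_bot_or_eq_top_of_normal _ N.normalCore_normal).resolve_right
    fun e => by
      haveI : (P : Subgroup T).Normal := normalizer_eq_top_iff.1 (top_le_iff.1 (e.ge.trans N.normalCore_le))
      rcases IsSimpleGroup.eq_bot_or_eq_top_of_normal _ (inferInstance : (P : Subgroup T).Normal) with e1 | e1
      · exact hPne e1
      · exact hnc ⟨⟨fun a b => hab a (e1 ▸ mem_top a) b (e1 ▸ mem_top b)⟩⟩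
  refine MulEquiv.ext fun y => ?_
  rw [MulAut.one_apply]
  refine (inv_mul_eq_one.1 (mem_bot.1 (hcore.le (?_ : y⁻¹ * α y ∈ N.normalCore)))).symm
  intro b
  have := mul_mem (hk (y * b⁻¹)) (inv_mem (hk b⁻¹))
  rwa [map_mul, show (y * b⁻¹)⁻¹ * (α y * α b⁻¹) * ((b⁻¹)⁻¹ * α b⁻¹)⁻¹ = b * (y⁻¹ * α y) * b⁻¹ by group] at this

end Cfsg.Agent.Walter.Core
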