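import Cfsg.Agent.Lib.Walter.Core.Action

/-!
# The balance facts in a group without odd core

`X` has abelian Sylow 2-subgroup `S`, no odd core and nice components.  These are the facts behind the fields
`balance_two`, `bad`, `core_cent`, `layer_fix`, `fixed_core` of `CoreSys`, read in `C(a)/O(C(a))`.
-/

set_option autoImplicit false
set_option linter.style.haveILetI false
set_option linter.unusedSectionVars false

namespace Cfsg.Agent.Walter.Core

open Subgroup
open Cfsg.Agent.SEAbelian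

universe u

variable {X : Type u} [Group X] [Finite X]

/-- What is needed of a component, read in the whole group. -/
structure CompNice (S : Sylow 2 X) (J : Subgroup X) : Prop where
  sq : ∀ w ∈ (S : Subgroup X) ⊓ J, w * w = 1
  four_le : 4 ≤ Nat.card ↥((S : Subgroup X) ⊓ J)
  cent : J ⊓ centralizer (((S : Subgroup X) ⊓ J : Subgroup X) : Set X) ≤ (S : Subgroup X)
  core : 8 ≤ Nat.card ↥((S : Subgroup X) ⊓ J) → ∀ w ∈ (S : Subgroup X) ⊓ J, w ≠ 1 →
    Cfsg.oddCore ↥(J ⊓ centralizer ({w} : Set X)) = ⊥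
  rigid : ∀ y ∈ normalizer (J : Set X), Odd (orderOf y) → (∀ w ∈ (S : Subgroup X) ⊓ J, Commute y w) →
    ∀ B ≤ (S : Subgroup X) ⊓ J, 8 ≤ Nat.card ↥B →
      (∀ z ∈ B, z ≠ 1 → y ∈ centralizer ((J ⊓ centralizer ({z} : Set X) : Subgroup X) : Set X)) →
      y ∈ centralizer (J : Set X)
  small : Nat.card ↥((S : Subgroup X) ⊓ J) = 4 →
    (J ≤ (J ⊓ normalizer ((S : Subgroup X) : Set X)) ⊔
      ⨆ w : {w : X // w ∈ (S : Subgroup X) ⊓ J ∧ w ≠ 1}, J ⊓ centralizer ({(w : X)} : Set X)) ∨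
    ((∀ w ∈ (S : Subgroup X) ⊓ J, w ≠ 1 → J ⊓ centralizer ({w} : Set X) ≤ (S : Subgroup X)) ∧
      ∀ y ∈ normalizer (J : Set X), Odd (orderOf y) → (∀ w ∈ (S : Subgroup X) ⊓ J, Commute y w) →
        y ∈ centralizer (J : Set X))

variable {S : Sylow 2 X} (h : AbTwo X) (h0 : Cfsg.oddCore X = ⊥)
  (hN : ∀ J : Subgroup X, Cfsg.IsComponent J → CompNice S J)

include h h0 hN

/-- An element of odd order centralizing the trace of a component and acting on it inside it acts trivially. -/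
theorem eq_one_of_cent_trace {J : Subgroup X} (hJ : Cfsg.IsComponent J) {j t : X} (hj : j ∈ J)
    (ht : t ∈ centralizer (J : Set X)) (ho : Odd (orderOf (j * t)))
    (hc : ∀ w ∈ (S : Subgroup X) ⊓ J, w * j = j * w) : j * t ∈ centralizer (J : Set X) := by
  have hjS : j ∈ (S : Subgroup X) := (hN J hJ).cent ⟨hj, mem_centralizer_iff.2 hc⟩
  obtain ⟨k, hk⟩ := exists_two_pow hjS
  rw [eq_one_of_odd_two (part_odd h h0 hJ hj ht ho) hk, one_mul]
  exact ht

/-- The part in `J` of a commuting element of `S` commutes with the part of `y`. -/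
theorem part_commute {J : Subgroup X} (hJ : Cfsg.IsComponent J) {w c j t : X} (hw : w ∈ J)
    (hc : c ∈ centralizer (J : Set X)) (hj : j ∈ J) (ht : t ∈ centralizer (J : Set X))
    (e : (w * c) * (j * t) = (j * t) * (w * c)) : w * j = j * w := by
  have := part_conj h h0 hJ hw hc hj ht hj ht (by rw [e, mul_inv_cancel_right])
  exact mul_inv_eq_iff_eq_mul.1 this

/-- Two-balance: no inverted element lies in the cores of the involutions of a four group. -/
theorem balance {v y : X} (hv : v ∈ (S : Subgroup X)) (ho : Odd (orderOf y)) (hinv : v * y * v⁻¹ = y⁻¹)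
    (hyJ : ∀ J : Subgroup X, Cfsg.IsComponent J → y ∈ normalizer (J : Set X))
    {E : Subgroup X} (hES : E ≤ (S : Subgroup X)) (h4 : 4 ≤ Nat.card ↥E)
    (hE : ∀ e ∈ E, e ≠ 1 → e * y = y * e ∧ ∃ M : Subgroup X, Odd (Nat.card ↥M) ∧
      centralizer ({e} : Set X) ≤ normalizer (M : Set X) ∧ y ∈ M) : y = 1 := by
  classical
  refine eq_one_of_inverted h h0 S ho (mem_centralizer_layer fun J hJ => ?_) hv hinv
  obtain ⟨j, hj, t, ht, rfl⟩ := inner_part h h0 S hJ hv ho (hyJ J hJ) hinv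
  choose w hw c hc hwc using fun e : ↥E => exists_split h h0 S hJ (hES e.2)
  by_cases h1 : ∃ e : ↥E, e ≠ 1 ∧ w e = 1
  · obtain ⟨e, he, hwe⟩ := h1
    obtain ⟨-, M, hM, hCM, hyM⟩ := hE e e.2 fun e' => he (Subtype.ext e')
    refine kill h h0 hJ hM (fun g hg => hCM (mem_centralizer_singleton_iff.2 ?_)) hyM (hyJ J hJ)
    rw [← hwc e, hwe, one_mul]
    exact mem_centralizer_iff.1 (hc e).2 g hg
  push Not at h1
  have hcomm : ∀ e : ↥E, w e * j = j * w e := fun e => by
    by_cases he : e = 1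
    · have : w e = 1 := comp_disj h h0 hJ (hw e).2 (by
        have h2 : w e = (c e)⁻¹ := eq_inv_of_mul_eq_one_left (by rw [hwc e, he, coe_one])
        rw [h2]
        exact inv_mem (hc e).2)
      rw [this, one_mul, mul_one]
    · refine part_commute h h0 hN hJ (hw e).2 (hc e).2 hj ht ?_
      rw [hwc e]
      exact (hE e e.2 fun e' => he (Subtype.ext e')).1
  refine eq_one_of_cent_trace h h0 hN hJ hj ht ho fun x hx => ?_
  by_cases h8 : 8 ≤ Nat.card ↥((S : Subgroup X) ⊓ J)
  · obtain ⟨e, he⟩ : ∃ e : ↥E, e ≠ 1 := by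
      haveI : Nontrivial ↥E := Finite.one_lt_card_iff_nontrivial.1 (by omega)
      exact exists_ne 1
    have hw1 := h1 e he
    obtain ⟨-, M, hM, hCM, hyM⟩ := hE e e.2 fun e' => he (Subtype.ext e')
    have hle : J ⊓ centralizer ({w e} : Set X) ≤ centralizer ({(e : X)} : Set X) := fun g hg =>
      mem_centralizer_singleton_iff.2 (by
        rw [← hwc e, ← mul_assoc, mem_centralizer_singleton_iff.1 hg.2, mul_assoc,
          mem_centralizer_iff.1 (hc e).2 g hg.1, mul_assoc])
    have hxC : x ∈ J ⊓ centralizer ({w e} : Set X) :=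
      ⟨hx.2, mem_centralizer_singleton_iff.2 (h _ S.2 x hx.1 _ (hw e).1).eq⟩
    have hjC : j ∈ J ⊓ centralizer ({w e} : Set X) := ⟨hj, mem_centralizer_singleton_iff.2 (hcomm e).symm⟩
    have hyC : j * t ∈ normalizer ((J ⊓ centralizer ({w e} : Set X) : Subgroup X) : Set X) :=
      mul_mem (le_normalizer hjC) (centralizer_le_normalizer _ (centralizer_le inf_le_left ht))
    have h2 := mem_centralizer_iff.1 (kill_cent ((hN J hJ).core h8 _ (hw e) hw1) hM (hle.trans hCM) hyM hyC) x hxC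
    rw [mul_assoc j t x, ← mem_centralizer_iff.1 ht x hx.2, ← mul_assoc x j t, ← mul_assoc j x t] at h2
    exact mul_right_cancel h2
  · -- the parts of `E` fill the trace
    have hinj : Function.Injective (fun e : ↥E => (⟨w e, hw e⟩ : ↥((S : Subgroup X) ⊓ J))) := by
      intro e e' he
      have he' : w e = w e' := congrArg Subtype.val he
      by_contra hne
      have hd : e * e'⁻¹ ≠ 1 := fun e'' => hne (mul_inv_eq_one.1 e'')
      refine h1 _ hd (comp_disj h h0 hJ (hw _).2 ?_)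
      have h2 : w (e * e'⁻¹) = c e * (c e')⁻¹ * (c (e * e'⁻¹))⁻¹ := by
        rw [eq_mul_inv_iff_mul_eq, hwc, coe_mul, coe_inv, ← hwc e, ← hwc e', he',
          show w e' * c e * (w e' * c e')⁻¹ = w e' * (c e * (c e')⁻¹) * (w e')⁻¹ by group,
          mem_centralizer_iff.1 (mul_mem (hc e).2 (inv_mem (hc e').2)) _ (hw e').2, mul_inv_cancel_right]
      rw [h2]
      exact mul_mem (mul_mem (hc e).2 (inv_mem (hc e').2)) (inv_mem (hc _).2)
    haveI : Fact (Nat.Prime 2) := ⟨Nat.prime_two⟩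
    have hW4 : Nat.card ↥((S : Subgroup X) ⊓ J) = 4 := by
      obtain ⟨k, hk⟩ := IsPGroup.iff_card.1 (S.2.to_le (inf_le_left : (S : Subgroup X) ⊓ J ≤ _))
      have h4' := (hN J hJ).four_le
      rw [hk] at h4' h8 ⊢
      rcases k with _ | _ | _ | k
      · norm_num at h4'
      · norm_num at h4'
      · norm_num
      · exact absurd ((show 2 ^ 3 ≤ 2 ^ (k + 1 + 1 + 1) from Nat.pow_le_pow_right (by norm_num) (by omega))) (by
          simpa using h8)
    have hcard := Nat.card_le_card_of_injective _ hinj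
    obtain ⟨e, he⟩ := (hinj.bijective_of_nat_card_le (by rw [hW4]; exact h4)).2 ⟨x, hx⟩
    rw [← show w e = x from congrArg Subtype.val he]
    exact hcomm e

/-- The only failure of balance is a torus in a component with four group as trace. -/
theorem bad {K : Subgroup X} {a v y : X} (haK : a ∈ K) (hKS : K ≤ (S : Subgroup X))
    (hv : v ∈ (S : Subgroup X)) (ho : Odd (orderOf y)) (hinv : v * y * v⁻¹ = y⁻¹)
    (hyK : ∀ k ∈ K, k * y = y * k)
    (hyJ : ∀ J : Subgroup X, Cfsg.IsComponent J → y ∈ normalizer (J : Set X))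
    (hM : ∃ M : Subgroup X, Odd (Nat.card ↥M) ∧ centralizer ({a} : Set X) ≤ normalizer (M : Set X) ∧ y ∈ M)
    (hy1 : y ≠ 1) :
    ∃ J : Subgroup X, Cfsg.IsComponent J ∧ Nat.card ↥((S : Subgroup X) ⊓ J) = 4 ∧
      (∃ x ∈ (S : Subgroup X) ⊓ J, ∀ c ∈ centralizer (J : Set X), x * c ∉ K) ∧
      ∃ w ∈ (S : Subgroup X) ⊓ J, w ≠ 1 ∧ ∃ u ∈ (S : Subgroup X) ⊓ J, ∃ j ∈ J,
        w * j = j * w ∧ u * j * u⁻¹ = j⁻¹ ∧ Odd (orderOf j) ∧ j ≠ 1 := by
  classical
  obtain ⟨J, hJ, hyC⟩ : ∃ J : Subgroup X, Cfsg.IsComponent J ∧ y ∉ centralizer (J : Set X) := by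
    by_contra hcon
    push Not at hcon
    exact hy1 (eq_one_of_inverted h h0 S ho (mem_centralizer_layer hcon) hv hinv)
  obtain ⟨j, hj, t, ht, rfl⟩ := inner_part h h0 S hJ hv ho (hyJ J hJ) hinv
  obtain ⟨w, hw, c, hc, hwc⟩ := exists_split h h0 S hJ (hKS haK)
  obtain ⟨M, hMo, hCM, hyM⟩ := hM
  have hw1 : w ≠ 1 := fun e => hyC (kill h h0 hJ hMo (fun g hg => hCM (mem_centralizer_singleton_iff.2 (by
    rw [← hwc, e, one_mul]; exact mem_centralizer_iff.1 hc.2 g hg))) hyM (hyJ J hJ))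
  have hwj : w * j = j * w := part_commute h h0 hN hJ hw.2 hc.2 hj ht (by rw [hwc]; exact hyK a haK)
  have hne : ¬ ∀ x ∈ (S : Subgroup X) ⊓ J, x * j = j * x := fun hall =>
    hyC (eq_one_of_cent_trace h h0 hN hJ hj ht ho hall)
  obtain ⟨u, hu, d, hd, rfl⟩ := exists_split h h0 S hJ hv
  refine ⟨J, hJ, ?_, ?_, w, hw, hw1, u, hu, j, hj, hwj, ?_, part_odd h h0 hJ hj ht ho, fun e => hyC (by
    rw [e, one_mul]; exact ht)⟩
  · by_contra h4
    haveI : Fact (Nat.Prime 2) := ⟨Nat.prime_two⟩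
    obtain ⟨k, hk⟩ := IsPGroup.iff_card.1 (S.2.to_le (inf_le_left : (S : Subgroup X) ⊓ J ≤ _))
    have h8 : 8 ≤ Nat.card ↥((S : Subgroup X) ⊓ J) := by
      have h4' := (hN J hJ).four_le
      rw [hk] at h4' h4 ⊢
      rcases k with _ | _ | _ | k
      · norm_num at h4'
      · norm_num at h4'
      · norm_num at h4
      · exact Nat.pow_le_pow_right (show 2 > 0 by norm_num) (show 3 ≤ k + 1 + 1 + 1 by omega)
    refine hne fun x hx => ?_
    have hle : J ⊓ centralizer ({w} : Set X) ≤ centralizer ({a} : Set X) := fun g hg =>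
      mem_centralizer_singleton_iff.2 (by
        rw [← hwc, ← mul_assoc, mem_centralizer_singleton_iff.1 hg.2, mul_assoc,
          mem_centralizer_iff.1 hc.2 g hg.1, mul_assoc])
    have hxC : x ∈ J ⊓ centralizer ({w} : Set X) :=
      ⟨hx.2, mem_centralizer_singleton_iff.2 (h _ S.2 x hx.1 _ hw.1).eq⟩
    have hjC : j ∈ J ⊓ centralizer ({w} : Set X) := ⟨hj, mem_centralizer_singleton_iff.2 hwj.symm⟩
    have hyC' : j * t ∈ normalizer ((J ⊓ centralizer ({w} : Set X) : Subgroup X) : Set X) :=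
      mul_mem (le_normalizer hjC) (centralizer_le_normalizer _ (centralizer_le inf_le_left ht))
    have h2 := mem_centralizer_iff.1 (kill_cent ((hN J hJ).core h8 _ hw hw1) hMo (hle.trans hCM) hyM hyC') x hxC
    rw [mul_assoc j t x, ← mem_centralizer_iff.1 ht x hx.2, ← mul_assoc x j t, ← mul_assoc j x t] at h2
    exact mul_right_cancel h2
  · by_contra hcon
    push Not at hcon
    refine hne fun x hx => ?_
    obtain ⟨e, he, hk⟩ := hcon x hx
    exact part_commute h h0 hN hJ hx.2 he hj ht (hyK _ hk)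
  · refine part_conj h h0 hJ hu.2 hd.2 hj ht (inv_mem hj) (inv_mem ht) ?_
    rw [hinv, mul_inv_rev, mem_centralizer_iff.1 (inv_mem ht) _ (inv_mem hj)]

/-- An element of a core centralizer inverted by `S` that each component sees trivially is trivial. -/
theorem core_cent {v y : X} (hv : v ∈ (S : Subgroup X)) (ho : Odd (orderOf y)) (hinv : v * y * v⁻¹ = y⁻¹)
    {M : Subgroup X} (hMo : Odd (Nat.card ↥M)) (hyM : y ∈ M)
    (hcase : ∀ J : Subgroup X, Cfsg.IsComponent J →
      (∀ w ∈ (S : Subgroup X) ⊓ J, w * y = y * w) ∨ J ≤ normalizer (M : Set X)) : y = 1 := by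
  refine eq_one_of_inverted h h0 S ho (mem_centralizer_layer fun J hJ => ?_) hv hinv
  obtain ⟨w, hw, hw1⟩ : ∃ w ∈ (S : Subgroup X) ⊓ J, w ≠ 1 := by
    haveI : Nontrivial ↥((S : Subgroup X) ⊓ J) :=
      Finite.one_lt_card_iff_nontrivial.1 (by have := (hN J hJ).four_le; omega)
    obtain ⟨w, hw⟩ := exists_ne (1 : ↥((S : Subgroup X) ⊓ J))
    exact ⟨w, w.2, fun e => hw (Subtype.ext e)⟩
  rcases hcase J hJ with hc | hc
  · have hyJ : y ∈ normalizer (J : Set X) :=
      normalizes_of_fix h h0 hJ hw.2 hw1 (by rw [← hc w hw, mul_inv_cancel_right])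
    obtain ⟨j, hj, t, ht, rfl⟩ := inner_part h h0 S hJ hv ho hyJ hinv
    refine eq_one_of_cent_trace h h0 hN hJ hj ht ho fun x hx => ?_
    exact part_commute h h0 hN hJ hx.2 (one_mem _) hj ht (by rw [mul_one]; exact hc x hx)
  · refine kill h h0 hJ hMo hc hyM (by_contra fun hyJ => ?_)
    have hne : J.map (MulAut.conj y).toMonoidHom ≠ J := fun e' => hyJ (mem_normalizer_iff_map_conj_eq.2 e')
    have hcw : Commute (y * w * y⁻¹) w := (mem_centralizer_iff.1 (commutator_eq_bot_iff_le_centralizer.1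
      (Components.Basic.component_commutator_eq_bot_of_ne (Components.Basic.component_conj hJ y) hJ hne)
      ⟨w, hw.2, rfl⟩) w hw.2).symm
    have hmM : y * w * y⁻¹ * w⁻¹ ∈ M := by
      rw [show y * w * y⁻¹ * w⁻¹ = y * (w * y⁻¹ * w⁻¹) by group]
      exact mul_mem hyM ((mem_normalizer_iff.1 (hc hw.2) _).1 (inv_mem hyM))
    have h2 : (y * w * y⁻¹ * w⁻¹) ^ 2 ^ 1 = 1 := by
      rw [pow_one, hcw.inv_right.mul_pow, conj_pow, inv_pow, pow_two, (hN J hJ).sq w hw]
      group
    have := eq_one_of_odd_two (hMo.of_dvd_nat (Subgroup.orderOf_dvd_natCard _ hmM)) h2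
    exact hyJ (normalizes_of_fix h h0 hJ hw.2 hw1 (mul_inv_eq_one.1 this))

/-- An element of odd order of the layer times `S` centralizing the involutions of `S` is trivial. -/
theorem layer_fix_one {y : X} (ho : Odd (orderOf y)) (hy : y ∈ Cfsg.layer X ⊔ (S : Subgroup X))
    (hfix : ∀ x ∈ (S : Subgroup X), x * x = 1 → Commute y x) : y = 1 := by
  refine eq_one_of_fix h h0 S ho (mem_centralizer_layer fun J hJ => ?_) hfix
  have hle : Cfsg.layer X ⊔ (S : Subgroup X) ≤ J ⊔ centralizer (J : Set X) := by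
    refine sup_le (Components.Basic.layer_le fun K hK => ?_) fun s hs => ?_
    · by_cases e : K = J
      · rw [e]; exact le_sup_left
      · exact (commutator_eq_bot_iff_le_centralizer.1
          (Components.Basic.component_commutator_eq_bot_of_ne hK hJ e)).trans le_sup_right
    · obtain ⟨w, hw, c, hc, rfl⟩ := exists_split h h0 S hJ hs
      exact mul_mem (mem_sup_left hw.2) (mem_sup_right hc.2)
  have hy' := hle hy
  rw [← SetLike.mem_coe, coe_mul_of_right_le_normalizer_left _ _ (centralizer_le_normalizer (J : Set X))] at hy'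
  obtain ⟨j, hj, t, ht, rfl⟩ := hy'
  refine eq_one_of_cent_trace h h0 hN hJ hj ht ho fun x hx => ?_
  exact part_commute h h0 hN hJ hx.2 (one_mem _) hj ht
    (by rw [mul_one]; exact (hfix x hx.1 ((hN J hJ).sq x hx)).eq.symm)

/-- An element of odd order centralizing the involutions and lying in the cores of eight of them is trivial. -/
theorem fixed_core {y : X} (ho : Odd (orderOf y)) (hfix : ∀ x ∈ (S : Subgroup X), x * x = 1 → Commute y x)
    {B : Subgroup X} (hBS : B ≤ (S : Subgroup X)) (h8 : 8 ≤ Nat.card ↥B)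
    (hB : ∀ b ∈ B, b ≠ 1 → ∃ M : Subgroup X, Odd (Nat.card ↥M) ∧
      centralizer ({b} : Set X) ≤ normalizer (M : Set X) ∧ y ∈ M) : y = 1 := by
  classical
  refine eq_one_of_fix h h0 S ho (mem_centralizer_layer fun J hJ => ?_) hfix
  have hN' := hN J hJ
  have hfixW : ∀ w ∈ (S : Subgroup X) ⊓ J, Commute y w := fun w hw => hfix w hw.1 (hN'.sq w hw)
  have hyJ : y ∈ normalizer (J : Set X) := by
    haveI : Nontrivial ↥((S : Subgroup X) ⊓ J) :=
      Finite.one_lt_card_iff_nontrivial.1 (by have := hN'.four_le; omega)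
    obtain ⟨w, hw⟩ := exists_ne (1 : ↥((S : Subgroup X) ⊓ J))
    exact normalizes_of_fix h h0 hJ w.2.2 (fun e => hw (Subtype.ext e))
      (by rw [(hfixW w w.2).eq, mul_inv_cancel_right])
  choose w hw c hc hwc using fun e : ↥B => exists_split h h0 S hJ (hBS e.2)
  by_cases h1 : ∃ e : ↥B, e ≠ 1 ∧ w e = 1
  · obtain ⟨e, he, hwe⟩ := h1
    obtain ⟨M, hM, hCM, hyM⟩ := hB e e.2 fun e' => he (Subtype.ext e')
    refine kill h h0 hJ hM (fun g hg => hCM (mem_centralizer_singleton_iff.2 ?_)) hyM hyJ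
    rw [← hwc e, hwe, one_mul]
    exact mem_centralizer_iff.1 (hc e).2 g hg
  push Not at h1
  set B' := ((S : Subgroup X) ⊓ J) ⊓ (B ⊔ centralizer (J : Set X)) with hB'
  have hmem : ∀ e : ↥B, w e ∈ B' := fun e => ⟨hw e, by
    have := mul_mem (mem_sup_left (T := centralizer (J : Set X)) e.2)
      (inv_mem (mem_sup_right (S := B) (hc e).2))
    rwa [← hwc e, mul_inv_cancel_right] at this⟩
  have hinj : Function.Injective (fun e : ↥B => (⟨w e, hmem e⟩ : ↥B')) := by
    intro e e' he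
    have he' : w e = w e' := congrArg Subtype.val he
    by_contra hne
    have hd : e * e'⁻¹ ≠ 1 := fun e'' => hne (mul_inv_eq_one.1 e'')
    refine h1 _ hd (comp_disj h h0 hJ (hw _).2 ?_)
    have h2 : w (e * e'⁻¹) = c e * (c e')⁻¹ * (c (e * e'⁻¹))⁻¹ := by
      rw [eq_mul_inv_iff_mul_eq, hwc, coe_mul, coe_inv, ← hwc e, ← hwc e', he',
        show w e' * c e * (w e' * c e')⁻¹ = w e' * (c e * (c e')⁻¹) * (w e')⁻¹ by group,
        mem_centralizer_iff.1 (mul_mem (hc e).2 (inv_mem (hc e').2)) _ (hw e').2, mul_inv_cancel_right]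
    rw [h2]
    exact mul_mem (mul_mem (hc e).2 (inv_mem (hc e').2)) (inv_mem (hc _).2)
  refine hN'.rigid y hyJ ho hfixW B' inf_le_left (h8.trans (Nat.card_le_card_of_injective _ hinj))
    fun z hz hz1 => ?_
  have hzJ : z ∈ J := hz.1.2
  have hz' : z ∈ B ⊔ centralizer (J : Set X) := hz.2
  have hBN : B ≤ normalizer (centralizer (J : Set X) : Set X) := fun b hb =>
    Components.TwoBalance.normalizer_le_normalizer_centralizer' J
      (sylow_le_normalizer_component h h0 S hJ (hBS hb))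
  rw [← SetLike.mem_coe, coe_mul_of_left_le_normalizer_right _ _ hBN] at hz'
  obtain ⟨b, hb, d, hd, e0⟩ := hz'
  have e : b * d = z := e0
  have e' : b = z * d⁻¹ := eq_mul_inv_of_mul_eq e
  have hb1 : b ≠ 1 := fun e'' => hz1 (comp_disj h h0 hJ hzJ (by rw [← e, e'', one_mul]; exact hd))
  obtain ⟨M, hM, hCM, hyM⟩ := hB b hb hb1
  refine kill_cent (hN'.core ((h8.trans (Nat.card_le_card_of_injective _ hinj)).trans
    (Subgroup.card_le_of_le inf_le_left)) z hz.1 hz1) hM (fun g hg => hCM ?_) hyM ?_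
  · refine mem_centralizer_singleton_iff.2 ?_
    rw [e', ← mul_assoc, mem_centralizer_singleton_iff.1 hg.2, mul_assoc,
      mem_centralizer_iff.1 (inv_mem hd) g hg.1, mul_assoc]
  · exact inf_normalizer_le_normalizer_inf ⟨hyJ, le_normalizer (mem_centralizer_singleton_iff.2 (hfixW z hz.1).eq)⟩

end Cfsg.Agent.Walter.Core
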