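import Cfsg.Agent.Lib.Walter.Core.Setting
import Cfsg.Agent.Lib.ZStar.Main
import Cfsg.Agent.Lib.Coprime.Generation
import Cfsg.Agent.Lib.Involutions.Basic

/-!
# Two invariant summands of `Ω₁(S)`: pairs of involutions

If `A = V × U` with both summands invariant under `N(S)`, then for `v ∈ V` every conjugate of a `u ∈ U`
is moved by `C(v)` into the centraliser of some `v * u₀`.  So no proper subgroup contains `C(v)` and all
`C(v * u₀)`, and the summands have order at least four (`Z*`).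
-/

set_option autoImplicit false
set_option linter.unusedSectionVars false
set_option linter.style.haveILetI false

open Subgroup

namespace Cfsg.Agent.Walter.Core.Reducible

open Cfsg.Agent.Involutions

universe u

variable {G : Type u} [Group G]

/-- The data: two complementary invariant subgroups of `A`. -/
structure Pair (S : Sylow 2 G) (A V U : Subgroup G) : Prop where
  le_left : V ≤ A
  le_right : U ≤ A
  inv_left : ∀ n ∈ normalizer ((S : Subgroup G) : Set G), ∀ x ∈ V, n * x * n⁻¹ ∈ V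
  inv_right : ∀ n ∈ normalizer ((S : Subgroup G) : Set G), ∀ x ∈ U, n * x * n⁻¹ ∈ U
  disj : ∀ x ∈ V, x ∈ U → x = 1
  span : A ≤ V ⊔ U
  ne_left : V ≠ ⊥
  ne_right : U ≠ ⊥

variable {S : Sylow 2 G} {A V U : Subgroup G} {cov : G → Set (Subgroup G)}
  {bd : G → Subgroup G → Subgroup G}

theorem Pair.symm (p : Pair S A V U) : Pair S A U V :=
  ⟨p.le_right, p.le_left, p.inv_right, p.inv_left, fun x hx hy => p.disj x hy hx,
    sup_comm V U ▸ p.span, p.ne_right, p.ne_left⟩

theorem isPGroup_zpowers_sq {x : G} (h : x * x = 1) : IsPGroup 2 ↥(zpowers x) :=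
  SEAbelian.isPGroup_zpowers (k := 1) (by rw [pow_one, pow_two, h])

theorem mem_zpowers_sq {x y : G} (h : x * x = 1) (hy : y ∈ zpowers x) : y = 1 ∨ y = x := by
  obtain ⟨k, rfl⟩ := mem_zpowers_iff.1 hy
  rcases Int.even_or_odd k with ⟨m, rfl⟩ | ⟨m, rfl⟩
  · left; rw [← two_mul, zpow_mul]; simp [pow_two, h]
  · right; rw [zpow_add, zpow_mul]; simp [pow_two, h]

variable (h : CoreSys S A cov bd)

include h

theorem le_sylow : A ≤ (S : Subgroup G) := fun x hx => ((h.omega x).1 hx).1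

theorem sq_A {x : G} (hx : x ∈ A) : x * x = 1 := ((h.omega x).1 hx).2

theorem comm_A {x y : G} (hx : x ∈ A) (hy : y ∈ A) : x * y = y * x :=
  h.comm x (le_sylow h hx) y (le_sylow h hy)

theorem le_normalizer_A {H K : Subgroup G} (hH : H ≤ A) (hK : K ≤ A) :
    K ≤ normalizer (H : Set G) :=
  fun _ hk => centralizer_le_normalizer _
    (mem_centralizer_iff.2 fun y hy => comm_A h (hH hy) (hK hk))

theorem orderOf_A {x : G} (hx : x ∈ A) (hx1 : x ≠ 1) : orderOf x = 2 :=
  Basic.orderOf_two_iff.2 ⟨sq_A h hx, hx1⟩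

theorem sylow_le_centralizer_A {a : G} (ha : a ∈ A) :
    (S : Subgroup G) ≤ centralizer ({a} : Set G) :=
  fun s hs => mem_centralizer_singleton_iff.2 (h.comm s hs a (le_sylow h ha))

theorem mem_sup_zpowers {H : Subgroup G} (hH : H ≤ A) {e x : G} (he : e ∈ A)
    (hx : x ∈ H ⊔ zpowers e) : x ∈ H ∨ ∃ k ∈ H, k * e = x := by
  obtain ⟨k, hk, y, hy, rfl⟩ :=
    (Coprime.mem_sup_of_le_normalizer (le_normalizer_A h hH (zpowers_le.2 he))).1 hx
  rcases mem_zpowers_sq (sq_A h he) hy with rfl | rfl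
  · exact Or.inl (by rwa [mul_one])
  · exact Or.inr ⟨k, hk, rfl⟩

theorem exists_decomp (p : Pair S A V U) {a : G} (ha : a ∈ A) : ∃ v ∈ V, ∃ u ∈ U, v * u = a :=
  (Coprime.mem_sup_of_le_normalizer (le_normalizer_A h p.le_left p.le_right)).1 (p.span ha)

omit h in
theorem decomp_unique (p : Pair S A V U) {v v' u u' : G} (hv : v ∈ V) (hv' : v' ∈ V) (hu : u ∈ U)
    (hu' : u' ∈ U) (e : v * u = v' * u') : v = v' := by
  have h1 : v'⁻¹ * v = u' * u⁻¹ := by
    rw [inv_mul_eq_iff_eq_mul, ← mul_assoc, ← e, mul_inv_cancel_right]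
  have h2 := p.disj _ (mul_mem (inv_mem hv') hv) (h1 ▸ mul_mem hu' (inv_mem hu))
  exact (eq_of_inv_mul_eq_one h2).symm

omit h in
theorem mul_ne_one (p : Pair S A V U) {v u : G} (hv : v ∈ V) (hv1 : v ≠ 1) (hu : u ∈ U) :
    v * u ≠ 1 :=
  fun e => hv1 (decomp_unique p hv (one_mem V) hu (one_mem U) (by rw [e, one_mul]))

/-- An element of `N(S)` fixing `v * u` fixes `v`. -/
theorem fix_left (p : Pair S A V U) {v u n : G} (hv : v ∈ V) (hu : u ∈ U)
    (hn : n ∈ normalizer ((S : Subgroup G) : Set G)) (hna : n * (v * u) = v * u * n) :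
    n * v = v * n := by
  have h1 : n * v * n⁻¹ * (n * u * n⁻¹) = v * u := by
    rw [show n * v * n⁻¹ * (n * u * n⁻¹) = n * (v * u) * n⁻¹ by group, hna, mul_inv_cancel_right]
  exact mul_inv_eq_iff_eq_mul.1 (decomp_unique p (p.inv_left n hn v hv) hv (p.inv_right n hn u hu) hu h1)

variable [Finite G]

theorem two_group_comm {P : Subgroup G} (hP : IsPGroup 2 ↥P) {x y : G} (hx : x ∈ P) (hy : y ∈ P) :
    x * y = y * x :=
  (SEAbelian.abTwo_of_sylow S ⟨⟨fun a b => Subtype.ext (h.comm a a.2 b b.2)⟩⟩ P hP x hx y hy).eq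

/-- Fusion in `S` is controlled by `N(S)`. -/
theorem fusion {x g : G} (hx : x ∈ (S : Subgroup G)) (hy : g * x * g⁻¹ ∈ (S : Subgroup G)) :
    ∃ n ∈ normalizer ((S : Subgroup G) : Set G), g * x * g⁻¹ = n * x * n⁻¹ := by
  haveI : Fact (Nat.Prime 2) := ⟨Nat.prime_two⟩
  haveI : IsMulCommutative ↥(S : Subgroup G) := ⟨⟨fun a b => Subtype.ext (h.comm a a.2 b b.2)⟩⟩
  obtain ⟨n, hn, e⟩ := S.conj_eq_normalizer_conj_of_mem x g⁻¹ hx (by rw [inv_inv]; exact hy)
  exact ⟨n⁻¹, inv_mem hn, by simpa using e⟩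

omit h in
theorem exists_conj_into {P : Subgroup G} (hP : IsPGroup 2 ↥P) :
    ∃ c : G, ∀ x ∈ P, c * x * c⁻¹ ∈ (S : Subgroup G) := by
  haveI : Fact (Nat.Prime 2) := ⟨Nat.prime_two⟩
  obtain ⟨T, hT⟩ := hP.exists_le_sylow
  obtain ⟨c, hc⟩ := MulAction.exists_smul_eq G T S
  refine ⟨c, fun x hx => ?_⟩
  rw [← hc, Sylow.coe_subgroup_smul]
  exact Coprime.conj_mem_conj_smul (hT hx)

/-- The Sylow subgroup catches the involutions of the centraliser of `a`. -/
theorem exists_conj_cent {a z : G} (ha : a ∈ A) (hz : z ∈ centralizer ({a} : Set G)) (hz2 : z * z = 1) :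
    ∃ c ∈ centralizer ({a} : Set G), c * z * c⁻¹ ∈ (S : Subgroup G) := by
  haveI : Fact (Nat.Prime 2) := ⟨Nat.prime_two⟩
  set C := centralizer ({a} : Set G)
  set z' : ↥C := ⟨z, hz⟩
  obtain ⟨R, hR⟩ := (isPGroup_zpowers_sq (x := z') (Subtype.ext hz2)).exists_le_sylow
  obtain ⟨d, hd⟩ := MulAction.exists_smul_eq ↥C R (S.subtype (sylow_le_centralizer_A h ha))
  refine ⟨d, d.2, ?_⟩
  have h1 : d * z' * d⁻¹ ∈ (S.subtype (sylow_le_centralizer_A h ha) : Subgroup ↥C) := by
    rw [← hd, Sylow.coe_subgroup_smul]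
    exact Coprime.conj_mem_conj_smul (hR (mem_zpowers z'))
  rw [Sylow.coe_subtype, mem_subgroupOf] at h1
  exact h1

/-- The pair lemma. -/
theorem exists_mixed (p : Pair S A V U) {v u : G} (hv : v ∈ V) (hv1 : v ≠ 1) (hu : u ∈ U)
    (hu1 : u ≠ 1) (g : G) :
    ∃ c ∈ centralizer ({v} : Set G), ∃ u₀ ∈ U, u₀ ≠ 1 ∧
      c * (g * u * g⁻¹) * c⁻¹ ∈ centralizer ({v * u₀} : Set G) := by
  have hvA := p.le_left hv
  have huA := p.le_right hu
  set y := g * u * g⁻¹ with hy
  have hx2 : orderOf v = 2 := orderOf_A h hvA hv1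
  have hy2 : orderOf y = 2 := by rw [hy, Basic.orderOf_conj, orderOf_A h huA hu1]
  have hnc : ¬ IsConj v y := by
    intro hc
    obtain ⟨d, hd⟩ := isConj_iff.1 hc
    have e : g⁻¹ * d * v * (g⁻¹ * d)⁻¹ = u := by
      rw [show g⁻¹ * d * v * (g⁻¹ * d)⁻¹ = g⁻¹ * (d * v * d⁻¹) * g by group, hd, hy]
      group
    obtain ⟨n, hn, e'⟩ := fusion h (le_sylow h hvA) (g := g⁻¹ * d) (e.symm ▸ le_sylow h huA)
    rw [e] at e'
    exact hu1 (p.disj u (e' ▸ p.inv_left n hn v hv) hu)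
  have hev := Basic.even_orderOf_mul_of_not_isConj hx2 hy2 hnc
  obtain ⟨hz2, hzx, hzy⟩ := Basic.middle_involution hx2 hy2 hev
  set m := orderOf (v * y) / 2 with hm
  have hm2 : orderOf (v * y) = m + m := by
    obtain ⟨k, hk⟩ := hev
    omega
  have hmodd : Odd m := by
    rw [← Nat.not_even_iff_odd]
    rintro ⟨k, hk⟩
    set r := (v * y) ^ k with hr
    have hr4 : r ^ 2 ^ 2 = 1 := by
      rw [hr, ← pow_mul, show k * 2 ^ 2 = orderOf (v * y) by norm_num; omega, pow_orderOf_eq_one]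
    have hvr : v * r * v⁻¹ = r⁻¹ := by
      have := Basic.conj_zpow_left hx2 hy2 (k : ℤ)
      rwa [zpow_natCast, zpow_neg, zpow_natCast] at this
    have hP : IsPGroup 2 ↥(zpowers r ⊔ zpowers v) := by
      refine (SEAbelian.isPGroup_zpowers hr4).to_sup_of_normal_left'
        (isPGroup_zpowers_sq (sq_A h hvA)) (zpowers_le.2 (mem_normalizer_iff.2 fun x => ?_))
      have hconj : ∀ i : ℤ, v * r ^ i * v⁻¹ = r ^ (-i) := fun i => by
        rw [← conj_zpow, hvr, inv_zpow']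
      constructor
      · intro hx
        obtain ⟨i, rfl⟩ := mem_zpowers_iff.1 hx
        exact mem_zpowers_iff.2 ⟨-i, (hconj i).symm⟩
      · intro hx
        obtain ⟨i, hi⟩ := mem_zpowers_iff.1 hx
        refine mem_zpowers_iff.2 ⟨-i, ?_⟩
        have h1 := hconj (-i)
        rw [neg_neg, hi] at h1
        exact mul_left_cancel (mul_right_cancel h1)
    have hcom := two_group_comm h hP (mem_sup_right (mem_zpowers v)) (mem_sup_left (mem_zpowers r))
    rw [hcom, mul_inv_cancel_right] at hvr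
    have h2 : (v * y) ^ m = 1 := by
      rw [hk, pow_add, ← hr]
      nth_rewrite 1 [hvr]
      exact inv_mul_cancel r
    rw [h2, orderOf_one] at hz2
    omega
  obtain ⟨i, hi⟩ := hmodd
  set z := (v * y) ^ m with hz
  have hxz : v * z = (v * y) ^ (-(i : ℤ)) * y * ((v * y) ^ (-(i : ℤ)))⁻¹ := by
    conv_rhs => arg 1; arg 2; rw [← Basic.mul_zpow_one hx2 (y := y)]
    rw [← mul_assoc, Basic.zpow_mul_left hx2 hy2, mul_assoc, mul_assoc, ← zpow_neg, ← zpow_add,
      ← zpow_add, hz, ← zpow_natCast]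
    congr 2
    omega
  have hzC : z ∈ centralizer ({v} : Set G) := mem_centralizer_singleton_iff.2 hzx.eq
  obtain ⟨c, hc, hcS⟩ := exists_conj_cent h hvA hzC (Basic.inv_sq_one hz2)
  set z₀ := c * z * c⁻¹ with hz₀
  have hz₀A : z₀ ∈ A := (h.omega _).2 ⟨hcS, by
    rw [hz₀, show c * z * c⁻¹ * (c * z * c⁻¹) = c * (z * z) * c⁻¹ by group, Basic.inv_sq_one hz2,
      mul_one, mul_inv_cancel]⟩
  have hcv : c * v * c⁻¹ = v := by rw [mem_centralizer_singleton_iff.1 hc, mul_inv_cancel_right]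
  have e : v * z₀ = c * (v * y) ^ (-(i : ℤ)) * g * u * (c * (v * y) ^ (-(i : ℤ)) * g)⁻¹ := by
    calc v * z₀ = c * v * c⁻¹ * (c * z * c⁻¹) := by rw [hcv]
      _ = c * (v * z) * c⁻¹ := by group
      _ = _ := by rw [hxz, hy]; group
  obtain ⟨n, hn, e'⟩ := fusion h (le_sylow h huA) (g := c * (v * y) ^ (-(i : ℤ)) * g)
    (e ▸ mul_mem (le_sylow h hvA) hcS)
  have hu₀ : v * z₀ ∈ U := by rw [e, e']; exact p.inv_right n hn u hu
  refine ⟨c, hc, v * z₀, hu₀, ?_, ?_⟩
  · rw [e]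
    exact fun e1 => hu1 (conj_eq_one_iff.1 e1)
  · rw [← mul_assoc, sq_A h hvA, one_mul]
    refine mem_centralizer_singleton_iff.2 ?_
    rw [hz₀, show c * y * c⁻¹ * (c * z * c⁻¹) = c * (y * z) * c⁻¹ by group, ← hzy.eq]
    group

/-- No proper subgroup contains `C(v)` and the `C(v * u₀)`. -/
theorem no_proper [IsSimpleGroup G] (p : Pair S A V U) {v : G} (hv : v ∈ V) (hv1 : v ≠ 1)
    {M : Subgroup G} (hM : M ≠ ⊤) (hCv : centralizer ({v} : Set G) ≤ M)
    (hmix : ∀ u ∈ U, u ≠ 1 → centralizer ({v * u} : Set G) ≤ M) : False := by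
  obtain ⟨u, hu, hu1⟩ := (Subgroup.bot_or_exists_ne_one U).resolve_left p.ne_right
  have hle : normalClosure ({u} : Set G) ≤ M := by
    refine (closure_le _).2 fun x hx => ?_
    obtain ⟨u', rfl, hconj⟩ := Group.mem_conjugatesOfSet_iff.1 hx
    obtain ⟨g, rfl⟩ := isConj_iff.1 hconj
    obtain ⟨c, hc, u₀, hu₀, hu₀1, hcx⟩ := exists_mixed h p hv hv1 hu hu1 g
    have := M.mul_mem (M.mul_mem (M.inv_mem (hCv hc)) (hmix u₀ hu₀ hu₀1 hcx)) (hCv hc)
    simpa [mul_assoc] using this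
  rcases (normalClosure_normal (s := ({u} : Set G))).eq_bot_or_eq_top with e | e
  · exact hu1 (mem_bot.1 (e ▸ subset_normalClosure rfl))
  · exact hM (top_unique (e ▸ hle))

theorem center_eq_bot [IsSimpleGroup G] (hna : ¬ IsMulCommutative G) : center G = ⊥ := by
  refine ((inferInstance : (center G).Normal).eq_bot_or_eq_top).resolve_right fun e => hna ?_
  exact ⟨⟨fun a b => mem_center_iff.1 (e ▸ mem_top b) a⟩⟩

theorem centralizer_ne_top [IsSimpleGroup G] (hna : ¬ IsMulCommutative G) {a : G} (ha : a ≠ 1) :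
    centralizer ({a} : Set G) ≠ ⊤ := fun e => by
  have h1 : a ∈ center G := mem_center_iff.2 fun x => mem_centralizer_singleton_iff.1 (e ▸ mem_top x)
  rw [center_eq_bot h hna, mem_bot] at h1
  exact ha h1

theorem two_mul_card_le {X B : Subgroup G} (hle : X ≤ B) {b : G} (hb : b ∈ B) (hbX : b ∉ X) :
    2 * Nat.card ↥X ≤ Nat.card ↥B := by
  obtain ⟨k, hk⟩ := Subgroup.card_dvd_of_le hle
  have hne : Nat.card ↥X ≠ Nat.card ↥B := fun e =>
    hbX ((Subgroup.eq_of_le_of_card_ge hle e.ge).symm ▸ hb)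
  have hpos := Nat.card_pos (α := ↥B)
  rcases k with _ | _ | k
  · simp [hk] at hpos
  · exact absurd (by rw [hk]; simp) hne
  · rw [hk, mul_comm 2]
    exact Nat.mul_le_mul_left _ (by omega)

theorem card_eq_two_pow {X : Subgroup G} (hX : X ≤ A) : ∃ k : ℕ, Nat.card ↥X = 2 ^ k := by
  haveI : Fact (Nat.Prime 2) := ⟨Nat.prime_two⟩
  exact (S.2.to_le (hX.trans (le_sylow h))).exists_card_eq

/-- An invariant summand has order at least four (`Z*`). -/
theorem four_le_left [IsSimpleGroup G] (hna : ¬ IsMulCommutative G) (p : Pair S A V U) :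
    4 ≤ Nat.card ↥V := by
  obtain ⟨v, hv, hv1⟩ := (Subgroup.bot_or_exists_ne_one V).resolve_left p.ne_left
  obtain ⟨k, hk⟩ := card_eq_two_pow h p.le_left
  by_contra hlt
  have hsub : ∀ x ∈ V, x ≠ 1 → x = v := by
    intro x hx hx1
    by_contra hne
    have h2 := two_mul_card_le h (X := zpowers v) (zpowers_le.2 hv) hx (fun hm => by
      rcases mem_zpowers_sq (sq_A h (p.le_left hv)) hm with e | e
      · exact hx1 e
      · exact hne e)
    rw [Nat.card_zpowers, orderOf_A h (p.le_left hv) hv1] at h2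
    omega
  have hfix : ∀ n ∈ normalizer ((S : Subgroup G) : Set G), n * v * n⁻¹ = v := fun n hn =>
    hsub _ (p.inv_left n hn v hv) fun e => hv1 (conj_eq_one_iff.1 e)
  have hvA := p.le_left hv
  have hiso : Cfsg.IsIsolatedInvolution v := by
    refine ⟨orderOf_A h hvA hv1, fun g hg => ?_⟩
    have hP : IsPGroup 2 ↥(zpowers v ⊔ zpowers (g * v * g⁻¹)) := by
      refine (isPGroup_zpowers_sq (sq_A h hvA)).to_sup_of_normal_left'
        (isPGroup_zpowers_sq ?_) (le_trans ?_ (centralizer_le_normalizer _))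
      · rw [show g * v * g⁻¹ * (g * v * g⁻¹) = g * (v * v) * g⁻¹ by group, sq_A h hvA, mul_one,
          mul_inv_cancel]
      · refine zpowers_le.2 (mem_centralizer_iff.2 fun x hx => ?_)
        obtain ⟨i, rfl⟩ := mem_zpowers_iff.1 hx
        exact (hg.zpow_left i).eq
    obtain ⟨c, hc⟩ := exists_conj_into (S := S) hP
    have h1 := hc v (mem_sup_left (mem_zpowers v))
    have h2 := hc _ (mem_sup_right (mem_zpowers (g * v * g⁻¹)))
    obtain ⟨n, hn, e1⟩ := fusion h (le_sylow h hvA) h1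
    obtain ⟨n', hn', e2⟩ := fusion h (le_sylow h hvA) (g := c * g) (by simpa [mul_assoc] using h2)
    rw [hfix n hn] at e1
    rw [hfix n' hn'] at e2
    have : c * (g * v * g⁻¹) * c⁻¹ = c * v * c⁻¹ := by
      calc c * (g * v * g⁻¹) * c⁻¹ = c * g * v * (c * g)⁻¹ := by group
        _ = c * v * c⁻¹ := e2.trans e1.symm
    exact mul_left_cancel (mul_right_cancel this)
  have hO : Cfsg.oddCore G = ⊥ := by
    refine (IsSimpleGroup.eq_bot_or_eq_top_of_normal _ inferInstance).resolve_right fun e => ?_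
    have hodd := Agent.Cores.oddCore_odd (G := G)
    rw [e, Subgroup.card_top] at hodd
    have := orderOf_dvd_natCard v
    rw [orderOf_A h hvA hv1] at this
    exact absurd (hodd.of_dvd_nat this) (by decide)
  have := ZStar.Main.mem_center_of_isolated hO hiso
  rw [center_eq_bot h hna, mem_bot] at this
  exact hv1 this

end Cfsg.Agent.Walter.Core.Reducible
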