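import Cfsg.Agent.Lib.Walter.Core.SysDefs
import Cfsg.Agent.Lib.Components.Hyperplane

/-!
# Balance for the cores of the involution centralisers

The fields of `CoreSys` that need the structure of the components: `balance_two`, `bad`, `core_cent`,
`layer_fix`, `fixed_core`, `fix_all`, `small`, and `grow`.
-/

set_option autoImplicit false
set_option linter.style.haveILetI false
set_option linter.unusedSectionVars false

namespace Cfsg.Agent.Walter.Core

open Subgroup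
open Cfsg.Agent.SEAbelian

universe u

variable {G : Type u} [Group G] [Finite G] {S : Sylow 2 G} {A : Subgroup G}

/-- A four group meets a subgroup of index two. -/
theorem exists_meet {W K : Subgroup G} (hW : W ≤ A) (hK : K ≤ A) (h2 : 2 * Nat.card ↥K = Nat.card ↥A)
    (h4 : 4 ≤ Nat.card ↥W) : ∃ w ∈ W, w ∈ K ∧ w ≠ 1 := by
  by_contra hcon
  push Not at hcon
  have h1 : Nat.card ↥W * Nat.card ↥K ≤ Nat.card ↥A := by
    rw [← Nat.card_prod]
    refine Nat.card_le_card_of_injective (fun p : ↥W × ↥K =>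
      (⟨(p.1 : G) * p.2, mul_mem (hW p.1.2) (hK p.2.2)⟩ : ↥A)) ?_
    rintro ⟨⟨a, ha⟩, ⟨b, hb⟩⟩ ⟨⟨a', ha'⟩, ⟨b', hb'⟩⟩ e
    have e' : a * b = a' * b' := congrArg Subtype.val e
    have e1 : a'⁻¹ * a = b' * b⁻¹ := by
      rw [inv_mul_eq_iff_eq_mul, ← mul_assoc, ← e', mul_inv_cancel_right]
    have e2 : a' = a := inv_mul_eq_one.1 (hcon _ (mul_mem (inv_mem ha') ha) (e1 ▸ mul_mem hb' (inv_mem hb)))
    subst e2
    obtain rfl := mul_left_cancel e'
    rfl
  have := Nat.card_pos (α := ↥K)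
  nlinarith

namespace Ctx

variable (c : Ctx S A)

include c

theorem mem_bar_inf {a : G} (ha : a ∈ A)
    {q : ↥(centralizer ({a} : Set G)) ⧸ Cfsg.oddCore ↥(centralizer ({a} : Set G))}
    (hq : q ∈ (bar (S.subtype (c.le_cent ha)) : Subgroup _)) :
    ∃ s, ∃ hs : s ∈ (S : Subgroup G), proj a ⟨s, c.le_cent ha hs⟩ = q := by
  obtain ⟨y, hy, rfl⟩ := mem_bar.1 hq
  rw [Sylow.coe_subtype, mem_subgroupOf] at hy
  exact ⟨y, hy, rfl⟩

/-- An odd element centralising `A` lies in `c0 A`. -/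
theorem mem_c0 {m : G} (hm : m ∈ centralizer (A : Set G)) (ho : Odd (orderOf m)) : m ∈ c0 A := by
  haveI : Fact (Nat.Prime 2) := ⟨Nat.prime_two⟩
  have hSC : (S : Subgroup G) ≤ centralizer (A : Set G) := fun s hs =>
    mem_centralizer_iff.2 fun b hb => (c.ab _ S.2 b (c.leS hb) s hs).eq
  set Y := centralizer (A : Set G) with hY
  set S' := S.subtype hSC with hS'
  have hY' : AbTwo ↥Y := c.ab.subgroup Y
  have hSm : ∀ x : ↥Y, x ∈ (S' : Subgroup ↥Y) ↔ (x : G) ∈ (S : Subgroup G) := fun x => by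
    rw [hS', Sylow.coe_subtype, mem_subgroupOf]
  have hNC : normalizer ((S' : Subgroup ↥Y) : Set ↥Y) ≤ centralizer ((S' : Subgroup ↥Y) : Set ↥Y) := by
    refine normalizer_le_centralizer_of_odd hY' S' fun y hy hoy s hs => ?_
    refine commute_of_omega S'.2 (fun p hp q hq => hY' _ S'.2 p hp q hq) hy hoy (fun x hx hx2 => ?_) s hs
    exact Subtype.ext (mem_centralizer_iff.1 y.2 (x : G)
      ((c.omega _).2 ⟨(hSm x).1 hx, congrArg Subtype.val hx2⟩)).symm
  haveI : IsMulCommutative ↥(S' : Subgroup ↥Y) := isMulCommutative_sylow hY' S'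
  have hcompl := MonoidHom.ker_transferSylow_isComplement' S' hNC
  set τ := MonoidHom.transferSylow S' hNC with hτ
  have hodd : Odd (Nat.card ↥τ.ker) := by
    rw [Nat.odd_iff, ← Nat.two_dvd_ne_zero]
    intro h2
    have h3 : (S' : Subgroup ↥Y).index = Nat.card ↥τ.ker := hcompl.index_eq_card
    exact S'.not_dvd_index (h3.symm ▸ h2)
  have hker : (⟨m, hm⟩ : ↥Y) ∈ τ.ker := by
    rw [MonoidHom.mem_ker]
    obtain ⟨k, hk⟩ := S'.2 (τ ⟨m, hm⟩)
    have hd : orderOf (τ ⟨m, hm⟩) ∣ orderOf m := by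
      rw [← Subgroup.orderOf_mk m hm]
      exact orderOf_map_dvd τ _
    exact eq_one_of_odd_two (ho.of_dvd_nat hd) hk
  exact ⟨⟨m, hm⟩, Agent.Cores.le_oddCore hodd hker, rfl⟩

/-- An element whose odd image centralises the image of `A` lies in `oc a ⊔ c0 A`. -/
theorem mem_oc_sup_c0 {a g : G} (ha : a ∈ A) (hg : g ∈ centralizer ({a} : Set G)) (ho : Odd (orderOf g))
    (hcomm : ∀ b, ∀ hb : b ∈ A,
      Commute (proj a ⟨b, c.le_cent ha (c.leS hb)⟩) (proj a ⟨g, hg⟩)) :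
    g ∈ oc a ⊔ c0 A := by
  obtain ⟨m, hm, e⟩ := lift_centralizer (c.ab.subgroup _) (S.subtype (c.le_cent ha))
    (P := A.subgroupOf (centralizer ({a} : Set G))) (fun b hb => by
      rw [Sylow.coe_subtype, mem_subgroupOf]; exact c.leS hb) (x := ⟨g, hg⟩) fun b hb => hcomm b hb
  have hmA : (m : G) ∈ centralizer (A : Set G) := mem_centralizer_iff.2 fun b hb =>
    congrArg Subtype.val (mem_centralizer_iff.1 hm ⟨b, c.le_cent ha (c.leS hb)⟩ hb)
  obtain ⟨j, n, hn, hmn⟩ := exists_parts (m : G)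
  have h0 : (m : G) ^ 2 ^ j ∈ c0 A :=
    c.mem_c0 (pow_mem hmA _) (odd_orderOf_of_pow hn (by rw [← pow_mul, hmn]))
  set R := oc a ⊔ c0 A with hR
  have hmem : proj a ⟨g, hg⟩ ∈ (R.subgroupOf (centralizer ({a} : Set G))).map (proj a) := by
    refine mem_of_parts (j := j) (m := orderOf g) ho ?_ ?_
    · rw [← e, ← map_pow]
      exact mem_map_of_mem _ (mem_subgroupOf.2 (mem_sup_right (by rw [coe_pow]; exact h0)))
    · rw [← map_pow]
      exact mem_map_of_mem _ (mem_subgroupOf.2 (by rw [coe_pow, pow_orderOf_eq_one]; exact one_mem _))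
  obtain ⟨r, hr, e'⟩ := hmem
  have h1 : g * (r : G)⁻¹ ∈ oc a := (mem_oc (mul_mem hg (inv_mem r.2))).2 (by
    show proj a (⟨g, hg⟩ * r⁻¹) = 1
    rw [map_mul, map_inv, e', mul_inv_cancel])
  have := mul_mem (show g * (r : G)⁻¹ ∈ R from mem_sup_left h1) (mem_subgroupOf.1 hr)
  rwa [inv_mul_cancel_right] at this

/-- An odd subgroup normalised by `C(P) ∩ C(a)` maps to one normalised by the centraliser of the image. -/
theorem push_at {a : G} (ha : a ∈ A) {P N : Subgroup G} (hP : P ≤ A)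
    (hN : centralizer ({a} : Set G) ⊓ centralizer (P : Set G) ≤ normalizer (N : Set G))
    (hodd : Odd (Nat.card ↥N)) :
    Odd (Nat.card ↥((N.subgroupOf (centralizer ({a} : Set G))).map (proj a))) ∧
      centralizer (((P.subgroupOf (centralizer ({a} : Set G))).map (proj a) : Subgroup (Qt a)) : Set (Qt a)) ≤
        normalizer (((N.subgroupOf (centralizer ({a} : Set G))).map (proj a) : Subgroup (Qt a)) : Set (Qt a)) := by
  refine push (c.ab.subgroup _) (S.subtype (c.le_cent ha)) (fun b hb => by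
    rw [Sylow.coe_subtype, mem_subgroupOf]; exact c.leS (hP hb)) (fun g hg => ?_) ?_
  · have hg' : (g : G) ∈ normalizer (N : Set G) := hN ⟨g.2, mem_centralizer_iff.2 fun b hb =>
      congrArg Subtype.val (mem_centralizer_iff.1 hg ⟨b, c.le_cent ha (c.leS (hP hb))⟩ hb)⟩
    exact mem_normalizer_iff.2 fun x => (mem_normalizer_iff.1 hg' (x : G))
  · have h1 : Nat.card ↥(N.subgroupOf (centralizer ({a} : Set G))) ∣ Nat.card ↥N := by
      rw [← card_map_of_injective (Subgroup.subtype_injective (centralizer ({a} : Set G))),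
        subgroupOf_map_subtype]
      exact card_dvd_of_le inf_le_left
    exact hodd.of_dvd_nat h1

theorem push_at_one {a e : G} (ha : a ∈ A) (he : e ∈ A) {N : Subgroup G}
    (hN : centralizer ({a} : Set G) ⊓ centralizer ({e} : Set G) ≤ normalizer (N : Set G))
    (hodd : Odd (Nat.card ↥N)) :
    Odd (Nat.card ↥((N.subgroupOf (centralizer ({a} : Set G))).map (proj a))) ∧
      centralizer ({proj a ⟨e, c.le_cent ha (c.leS he)⟩} : Set (Qt a)) ≤
        normalizer (((N.subgroupOf (centralizer ({a} : Set G))).map (proj a) : Subgroup (Qt a)) : Set (Qt a)) := by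
  obtain ⟨h1, h2⟩ := c.push_at ha (P := zpowers e) (zpowers_le.2 he)
    (fun g hg => hN ⟨hg.1, mem_centralizer_singleton_iff.2
      (mem_centralizer_iff.1 hg.2 e (mem_zpowers e)).symm⟩) hodd
  refine ⟨h1, fun q hq => h2 (mem_centralizer_iff.2 ?_)⟩
  rintro _ ⟨⟨p, hp⟩, ⟨n, hn⟩, rfl⟩
  change e ^ n = p at hn
  subst hn
  rw [show proj a ⟨e ^ n, hp⟩ = proj a ⟨e, c.le_cent ha (c.leS he)⟩ ^ n from
    map_zpow (proj a) ⟨e, c.le_cent ha (c.leS he)⟩ n]
  exact ((show Commute q (proj a ⟨e, c.le_cent ha (c.leS he)⟩) from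
    mem_centralizer_singleton_iff.1 hq).zpow_right n).symm.eq

/-- An element commuting with the image of a subgroup of index two normalises every component. -/
theorem normalizes_all {a : G} (ha : a ∈ A) (ha1 : a ≠ 1) {K : Subgroup G} (hKA : K ≤ A)
    (hK : 2 * Nat.card ↥K = Nat.card ↥A)
    {q : ↥(centralizer ({a} : Set G)) ⧸ Cfsg.oddCore ↥(centralizer ({a} : Set G))}
    (hq : ∀ k, ∀ hk : k ∈ K, proj a ⟨k, c.le_cent ha (c.leS (hKA hk))⟩ * q =
      q * proj a ⟨k, c.le_cent ha (c.leS (hKA hk))⟩)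
    (J : Subgroup (Qt a)) (hJ : Cfsg.IsComponent J) : q ∈ normalizer (J : Set (Qt a)) := by
  obtain ⟨w, hw, hwK, hw1⟩ := exists_meet (A := A) (W := A ⊓ (J.comap (proj a)).map
    (centralizer ({a} : Set G)).subtype) inf_le_left hKA hK (c.four ha ha1 ⟨J, hJ, rfl⟩)
  refine normalizes_of_fix (abTwo_quot (c.ab.subgroup _)) core_quot hJ (c.proj_trace ha hw).2
    (fun e => hw1 (c.proj_inj ha (c.leS hw.1) (one_mem _) (e.trans (map_one _).symm))) ?_
  rw [← hq w hwK, mul_inv_cancel_right]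

theorem balance_two {E : Subgroup G} (hE : E ≤ A) (h4 : 4 ≤ Nat.card ↥E) {a : G} (ha : a ∈ A) (ha1 : a ≠ 1)
    {x : G} (hx : x ∈ centralizer ({a} : Set G)) (hxe : ∀ e ∈ E, e ≠ 1 → x ∈ oc e ⊔ c0 A) :
    x ∈ oc a ⊔ c0 A := by
  classical
  haveI : Fact (Nat.Prime 2) := ⟨Nat.prime_two⟩
  have hc0A : ∀ b ∈ A, ∀ g ∈ c0 A, b * g = g * b := fun b hb g hg =>
    mem_centralizer_iff.1 (c0_le A hg) b hb
  have hc0N : ∀ e ∈ A, c0 A ≤ normalizer (oc e : Set G) := fun e he g hg =>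
    le_normalizer_coreOf _ (mem_centralizer_singleton_iff.2 (hc0A e he g hg).symm)
  have hoddsup : ∀ e ∈ A, Odd (Nat.card ↥(oc e ⊔ c0 A)) := fun e he => by
    have h1 : Nat.card ↥(oc e ⊔ c0 A) ∣ Nat.card ↥(oc e) * Nat.card ↥(c0 A) := by
      set N := normalizer (oc e : Set G) with hN
      haveI : ((oc e).subgroupOf N).Normal := normal_in_normalizer
      have h2 := Agent.Cores.card_sup_dvd_mul ((c0 A).subgroupOf N) ((oc e).subgroupOf N)
      rwa [← subgroupOf_sup (hc0N e he) le_normalizer, sup_comm,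
        Nat.card_congr (subgroupOfEquivOfLe (sup_le le_normalizer (hc0N e he))).toEquiv,
        Nat.card_congr (subgroupOfEquivOfLe (hc0N e he)).toEquiv,
        Nat.card_congr (subgroupOfEquivOfLe le_normalizer).toEquiv, mul_comm] at h2
    exact (Odd.mul (odd_coreOf _) (odd_coreOf _)).of_dvd_nat h1
  obtain ⟨e₀, he₀, he₀1⟩ : ∃ e ∈ E, e ≠ 1 := by
    haveI : Nontrivial ↥E := Finite.one_lt_card_iff_nontrivial.1 (by omega)
    obtain ⟨e, he⟩ := exists_ne (1 : ↥E)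
    exact ⟨e, e.2, fun e' => he (Subtype.ext e')⟩
  set R := centralizer ({a} : Set G) ⊓ ⨅ e : {e : G // e ∈ E ∧ e ≠ 1}, oc (e : G) ⊔ c0 A with hR
  have hxR : x ∈ R := ⟨hx, Subgroup.mem_iInf.2 fun e => hxe e e.2.1 e.2.2⟩
  have hRe : ∀ e ∈ E, e ≠ 1 → R ≤ oc e ⊔ c0 A := fun e he he1 g hg =>
    Subgroup.mem_iInf.1 hg.2 ⟨e, he, he1⟩
  have hRodd : Odd (Nat.card ↥R) :=
    (hoddsup e₀ (hE he₀)).of_dvd_nat (card_dvd_of_le (hRe e₀ he₀ he₀1))
  have hAR : A ≤ normalizer (R : Set G) := by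
    have key : ∀ b ∈ A, ∀ g ∈ R, b * g * b⁻¹ ∈ R := by
      intro b hb g hg
      have hbC : ∀ e ∈ A, b ∈ centralizer ({e} : Set G) := fun e he => c.le_cent he (c.leS hb)
      refine mem_inf.2 ⟨mul_mem (mul_mem (hbC a ha) hg.1) (inv_mem (hbC a ha)), Subgroup.mem_iInf.2 fun e => ?_⟩
      have hle : oc (e : G) ⊔ c0 A ≤ (oc (e : G) ⊔ c0 A).comap (MulAut.conj b).toMonoidHom :=
        sup_le (fun z hz => mem_sup_left
          ((mem_normalizer_iff.1 (le_normalizer_coreOf _ (hbC e (hE e.2.1))) z).1 hz))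
          fun z hz => mem_sup_right (by
            show b * z * b⁻¹ ∈ c0 A
            rw [hc0A b hb z hz, mul_inv_cancel_right]
            exact hz)
      exact hle (hRe e e.2.1 e.2.2 hg)
    intro b hb
    refine mem_normalizer_iff.2 fun g => ⟨key b hb g, fun hg => ?_⟩
    simpa [mul_assoc] using key b⁻¹ (inv_mem hb) _ hg
  have hAel : Cfsg.IsElementaryAbelian 2 A :=
    ⟨⟨⟨fun p q => Subtype.ext (c.comm p.2 q.2)⟩⟩, fun p hp => by rw [pow_two]; exact c.sq hp⟩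
  have h4A : 2 ^ 2 ≤ Nat.card ↥A := h4.trans (Subgroup.card_le_of_le hE)
  have hsup := Components.Hyperplane.eq_iSup_hyperplane hAel h4A
    (Nat.two_dvd_ne_zero.2 (Nat.odd_iff.1 hRodd)) hAR
  rw [hsup] at hxR
  refine (iSup_le fun D => ?_ : (⨆ D : {D : Subgroup G // D ≤ A ∧ D.relIndex A = 2},
    R ⊓ centralizer ((D : Subgroup G) : Set G)) ≤ oc a ⊔ c0 A) hxR
  intro g hg
  obtain ⟨D, hDA, hD2⟩ := D
  have hD2' : 2 * Nat.card ↥D = Nat.card ↥A := by
    rw [← Nat.card_congr (subgroupOfEquivOfLe hDA).toEquiv, ← (D.subgroupOf A).card_mul_index, mul_comm]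
    exact congrArg _ hD2.symm
  have hgC : g ∈ centralizer ({a} : Set G) := hg.1.1
  have hbC : ∀ b ∈ A, b ∈ centralizer ({a} : Set G) := fun b hb => c.le_cent ha (c.leS hb)
  refine c.mem_oc_sup_c0 ha hgC (hRodd.of_dvd_nat (Subgroup.orderOf_dvd_natCard _ hg.1)) fun b hb => ?_
  -- the commutator with `b` is inverted, centralised by `D` and in all the cores
  have hbi : b⁻¹ = b := inv_eq_of_mul_eq_one_right (c.sq hb)
  set y := b * g * b⁻¹ * g⁻¹ with hy
  have hyR : y ∈ R := mul_mem ((mem_normalizer_iff.1 (hAR hb) g).1 hg.1) (inv_mem hg.1)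
  have hyC : y ∈ centralizer ({a} : Set G) := hyR.1
  have hye : ∀ e ∈ E, e ≠ 1 → y ∈ oc e := fun e he he1 => by
    have hg' : g ∈ oc e ⊔ c0 A := hRe e he he1 hg.1
    rw [← SetLike.mem_coe, coe_mul_of_right_le_normalizer_left _ _ (hc0N e (hE he))] at hg'
    obtain ⟨m, hm, f, hf, rfl⟩ := hg'
    rw [hy, show b * (m * f) * b⁻¹ * (m * f)⁻¹ = b * m * b⁻¹ * (b * f * b⁻¹) * f⁻¹ * m⁻¹ by group,
      show b * f * b⁻¹ = f by rw [hc0A b hb f hf, mul_inv_cancel_right], mul_inv_cancel_right]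
    exact mul_mem ((mem_normalizer_iff.1 (le_normalizer_coreOf _ (c.le_cent (hE he) (c.leS hb))) m).1 hm)
      (inv_mem hm)
  have hinv : b * y * b⁻¹ = y⁻¹ := by
    rw [hy, hbi, show b * (b * g * b * g⁻¹) * b = (b * b) * g * b * g⁻¹ * b by group, c.sq hb, one_mul,
      mul_inv_rev, mul_inv_rev, mul_inv_rev, inv_inv, hbi]
    group
  have hyD : ∀ k ∈ D, k * y = y * k := fun k hk => by
    have h1 : Commute k g := mem_centralizer_iff.1 hg.2 k hk
    have h2 : Commute k b := c.comm (hDA hk) hb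
    exact (((h2.mul_right h1).mul_right h2.inv_right).mul_right h1.inv_right).eq
  have hy1 : proj a ⟨y, hyC⟩ = 1 := by
    refine balance (abTwo_quot (c.ab.subgroup _)) core_quot (fun J hJ => c.compNice ha ha1 hJ)
      (v := proj a ⟨b, hbC b hb⟩) (c.proj_mem_bar ha (c.leS hb)) ?_ ?_ ?_
      (E := (E.subgroupOf (centralizer ({a} : Set G))).map (proj a)) ?_ ?_ ?_
    · exact (hRodd.of_dvd_nat (Subgroup.orderOf_dvd_natCard _ hyR)).of_dvd_nat
        ((orderOf_map_dvd _ _).trans (Subgroup.orderOf_mk y hyC).dvd)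
    · rw [← map_inv, ← map_mul, ← map_mul, ← map_inv]
      exact congrArg _ (Subtype.ext hinv)
    · refine c.normalizes_all ha ha1 hDA hD2' fun k hk => ?_
      rw [← map_mul, ← map_mul]
      exact congrArg _ (Subtype.ext (hyD k hk))
    · rintro _ ⟨e, he, rfl⟩
      exact c.proj_mem_bar ha (c.leS (hE he))
    · refine h4.trans (Nat.card_le_card_of_injective
        (fun e : ↥E => (⟨_, mem_map_of_mem (proj a) (x := ⟨(e : G), hbC e (hE e.2)⟩) e.2⟩ :
          ↥((E.subgroupOf (centralizer ({a} : Set G))).map (proj a)))) fun e e' he => Subtype.ext ?_)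
      exact c.proj_inj ha (c.leS (hE e.2)) (c.leS (hE e'.2)) (congrArg Subtype.val he)
    · rintro _ ⟨⟨e, heC⟩, he, rfl⟩ he1
      have he' : e ∈ E := he
      have he1' : e ≠ 1 := fun e' => he1 (by rw [show (⟨e, heC⟩ : ↥(centralizer ({a} : Set G))) = 1 from
        Subtype.ext e', map_one])
      refine ⟨?_, ((oc e).subgroupOf (centralizer ({a} : Set G))).map (proj a), ?_⟩
      · rw [← map_mul, ← map_mul]
        exact congrArg _ (Subtype.ext (mem_centralizer_singleton_iff.1 (oc_le e (hye e he' he1'))).symm)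
      · obtain ⟨h1, h2⟩ := c.push_at_one ha (hE he') (N := oc e)
          (inf_le_right.trans (le_normalizer_coreOf _)) (odd_coreOf _)
        exact ⟨h1, h2, mem_map_of_mem _ (x := (⟨y, hyC⟩ : ↥(centralizer _))) (hye e he' he1')⟩
  have h1 : proj a ⟨b, hbC b hb⟩ * proj a ⟨g, hgC⟩ * (proj a ⟨b, hbC b hb⟩)⁻¹ * (proj a ⟨g, hgC⟩)⁻¹ = 1 := by
    rw [← map_inv, ← map_inv, ← map_mul, ← map_mul, ← map_mul]
    exact hy1
  exact mul_inv_eq_iff_eq_mul.1 (mul_inv_eq_one.1 h1)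

theorem bad {K : Subgroup G} (hKA : K ≤ A) (hK2 : 2 * Nat.card ↥K = Nat.card ↥A) {a : G} (haK : a ∈ K)
    {b : G} (hbK : b ∈ K) (hb1 : b ≠ 1) {y : G} (hya : y ∈ oc a) (hyK : y ∈ centralizer (K : Set G))
    {v : G} (hv : v ∈ A) (hinv : v * y * v⁻¹ = y⁻¹) (hyb : y ∉ oc b) :
    ∃ J ∈ covOf b, Nat.card ↥(A ⊓ J) = 4 ∧ bdOf A b J ≤ K ∧ ¬ Flat A b J := by
  haveI : Fact (Nat.Prime 2) := ⟨Nat.prime_two⟩
  have hbA := hKA hbK
  have hC : ∀ s ∈ A, s ∈ centralizer ({b} : Set G) := fun s hs => c.le_cent hbA (c.leS hs)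
  have hyC : y ∈ centralizer ({b} : Set G) :=
    mem_centralizer_singleton_iff.2 (mem_centralizer_iff.1 hyK b hbK).symm
  obtain ⟨J, hJ, h4, ⟨x, hx, hxK⟩, w, hw, hw1, u, hu, j, hj, hwj, huj, hjodd, hj1⟩ :=
    Core.bad (S := bar (S.subtype (c.le_cent hbA))) (abTwo_quot (c.ab.subgroup _)) core_quot
      (fun J hJ => c.compNice hbA hb1 hJ) (K := (K.subgroupOf (centralizer ({b} : Set G))).map (proj b))
      (a := proj b ⟨a, hC a (hKA haK)⟩) (v := proj b ⟨v, hC v hv⟩) (y := proj b ⟨y, hyC⟩)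
      (mem_map_of_mem _ (x := (⟨a, hC a (hKA haK)⟩ : ↥(centralizer _))) haK)
      (by rintro _ ⟨k, hk, rfl⟩; exact c.proj_mem_bar hbA (c.leS (hKA hk)))
      (c.proj_mem_bar hbA (c.leS hv))
      ((odd_coreOf _).of_dvd_nat ((orderOf_map_dvd _ _).trans
        ((Subgroup.orderOf_mk y hyC).dvd.trans (Subgroup.orderOf_dvd_natCard (oc a) hya))))
      (by rw [← map_inv, ← map_mul, ← map_mul, ← map_inv]; exact congrArg _ (Subtype.ext hinv))
      (by
        rintro _ ⟨k, hk, rfl⟩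
        rw [← map_mul, ← map_mul]
        exact congrArg _ (Subtype.ext (mem_centralizer_iff.1 hyK _ hk)))
      (c.normalizes_all hbA hb1 hKA hK2 fun k hk => by
        rw [← map_mul, ← map_mul]
        exact congrArg _ (Subtype.ext (mem_centralizer_iff.1 hyK _ hk)))
      (by
        obtain ⟨h1, h2⟩ := c.push_at_one hbA (hKA haK) (N := oc a)
          (inf_le_right.trans (le_normalizer_coreOf _)) (odd_coreOf _)
        exact ⟨_, h1, h2, mem_map_of_mem _ (x := (⟨y, hyC⟩ : ↥(centralizer _))) hya⟩)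
      (fun e => hyb ((mem_oc hyC).2 e))
  refine ⟨_, ⟨J, hJ, rfl⟩, by rw [c.card_trace hbA hb1 hJ]; exact h4, fun s hs => ?_, fun hflat => ?_⟩
  · obtain ⟨hsA, hsC, hsc⟩ := mem_bd_iff.1 hs
    by_contra hsK
    obtain ⟨z, hz, ez⟩ := c.trace_lift hbA hb1 hJ hx
    by_cases hzK : z ∈ K
    · exact hxK 1 (one_mem _) (by rw [mul_one, ← ez]; exact mem_map_of_mem _ (x := (⟨z, c.le_cent hbA (c.leS hz.1)⟩ : ↥(centralizer _))) hzK)
    · have hzs : z * s ∈ K := by
        have hindex : (K.subgroupOf A).index = 2 := by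
          have h1 := (K.subgroupOf A).card_mul_index
          rw [Nat.card_congr (subgroupOfEquivOfLe hKA).toEquiv, ← hK2] at h1
          exact Nat.eq_of_mul_eq_mul_left Nat.card_pos (h1.trans (mul_comm _ _))
        have := mul_mem_iff_of_index_two hindex (a := ⟨z, hz.1⟩) (b := ⟨s, hsA⟩)
        exact this.2 (iff_of_false hzK hsK)
      refine hxK _ hsc ?_
      rw [← ez, ← map_mul]
      exact mem_map_of_mem (proj b) (mem_subgroupOf.2 hzs)
  · -- lift the torus element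
    obtain ⟨W, hW, eW⟩ := c.trace_lift hbA hb1 hJ hw
    obtain ⟨U, hU, eU⟩ := c.trace_lift hbA hb1 hJ hu
    obtain ⟨j0, rfl⟩ := QuotientGroup.mk'_surjective _ j
    obtain ⟨m, hm, em⟩ := lift_centralizer (c.ab.subgroup _) (S.subtype (c.le_cent hbA))
      (P := (zpowers W).subgroupOf (centralizer ({b} : Set G))) (fun p hp => by
        rw [Sylow.coe_subtype, mem_subgroupOf]
        exact c.leS (zpowers_le.2 hW.1 hp)) (x := j0) (by
        rintro ⟨p, hp⟩ ⟨i, hi⟩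
        change W ^ i = p at hi
        subst hi
        show Commute (proj b ⟨W ^ i, hp⟩) (proj b j0)
        rw [show (⟨W ^ i, hp⟩ : ↥(centralizer ({b} : Set G))) = ⟨W, hC W hW.1⟩ ^ i from rfl, map_zpow, eW]
        exact (show Commute w _ from hwj).zpow_left i)
    have hmW : Commute W (m : G) :=
      congrArg Subtype.val (mem_centralizer_iff.1 hm ⟨W, hC W hW.1⟩ (mem_subgroupOf.2 (mem_zpowers W)))
    set UC : ↥(centralizer ({b} : Set G)) := ⟨U, hC U hU.1⟩ with hUC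
    set x₁ : ↥(centralizer ({b} : Set G)) := UC * m * UC⁻¹ * m⁻¹ with hx₁
    have hUi : UC⁻¹ = UC := inv_eq_of_mul_eq_one_right (Subtype.ext (c.sq hU.1))
    have hx₁inv : UC * x₁ * UC⁻¹ = x₁⁻¹ := by
      rw [hx₁, hUi, show UC * (UC * m * UC * m⁻¹) * UC = UC * UC * m * UC * m⁻¹ * UC by group,
        show UC * UC = 1 from Subtype.ext (c.sq hU.1), one_mul, mul_inv_rev, mul_inv_rev, mul_inv_rev,
        inv_inv, hUi]
      group
    obtain ⟨s, n, hn, hsn⟩ := exists_parts x₁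
    set z := x₁ ^ 2 ^ s with hz
    have hzW : Commute W (z : G) := by
      have hWU : Commute W (U : G) := c.comm hW.1 hU.1
      rw [hz, coe_pow]
      exact (((hWU.mul_right hmW).mul_right hWU.inv_right).mul_right hmW.inv_right).pow_right _
    have hπ : proj b z = (u * proj b j0 * u⁻¹ * (proj b j0)⁻¹) ^ 2 ^ s := by
      rw [hz, map_pow, hx₁, map_mul, map_mul, map_mul, map_inv, map_inv, em, hUC, eU]
    have hzodd : Odd (orderOf (z : G)) := by
      rw [Subgroup.orderOf_coe]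
      exact odd_orderOf_of_pow hn (by rw [hz, ← pow_mul, hsn])
    have hz1 : proj b z ≠ 1 := by
      rw [hπ, huj]
      intro e
      have h1 : proj b j0 ^ (2 * 2 ^ s) = 1 := by
        rw [← mul_inv_rev, ← pow_two, inv_pow, inv_eq_one, ← pow_mul] at e
        exact e
      exact hj1 (eq_one_of_odd_two (k := s + 1) hjodd (by rwa [pow_succ']))
    refine hz1 ((mem_oc z.2).1 (hflat.1 W hW (fun e => hw1 ?_) z ⟨mem_cov_iff.2 ⟨z.2, ?_⟩,
      mem_centralizer_singleton_iff.2 hzW.eq.symm⟩ hzodd U hU.1 ?_))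
    · rw [← eW]
      exact (congrArg (proj b) (Subtype.ext e : (⟨W, _⟩ : ↥(centralizer ({b} : Set G))) = 1)).trans (map_one _)
    · show proj b z ∈ J
      rw [hπ, huj]
      exact pow_mem (mul_mem (inv_mem hj) (inv_mem hj)) _
    · have h1 : UC * z * UC⁻¹ = z⁻¹ := by rw [hz, ← conj_pow, hx₁inv, inv_pow]
      exact congrArg Subtype.val h1

theorem core_cent_field {B : Subgroup G} (hB : B ≤ A) {k : G} (hk : k ∈ A) (hk1 : k ≠ 1) {y : G}
    (hy : y ∈ coreOf (centralizer (B : Set G))) (hyk : y ∈ centralizer ({k} : Set G)) {v : G} (hv : v ∈ A)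
    (hinv : v * y * v⁻¹ = y⁻¹) (hcase : ∀ J ∈ covOf k, A ⊓ J ≤ B ∨ B ≤ bdOf A k J) : y ∈ oc k := by
  refine (mem_oc hyk).2 ?_
  obtain ⟨h1, h2⟩ := c.push_at hk hB (N := coreOf (centralizer (B : Set G)))
    (inf_le_right.trans (le_normalizer_coreOf _)) (odd_coreOf _)
  refine Core.core_cent (abTwo_quot (c.ab.subgroup _)) core_quot (fun J hJ => c.compNice hk hk1 hJ)
    (v := proj k ⟨v, c.le_cent hk (c.leS hv)⟩) (c.proj_mem_bar hk (c.leS hv))
    ((odd_coreOf _).of_dvd_nat ((orderOf_map_dvd _ _).trans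
      ((Subgroup.orderOf_mk y hyk).dvd.trans (Subgroup.orderOf_dvd_natCard _ hy))))
    (by rw [← map_inv, ← map_mul, ← map_mul, ← map_inv]; exact congrArg _ (Subtype.ext hinv))
    h1 (mem_map_of_mem _ (x := (⟨y, hyk⟩ : ↥(centralizer _))) hy) fun J hJ => ?_
  rcases hcase _ ⟨J, hJ, rfl⟩ with hle | hle
  · refine Or.inl fun q hq => ?_
    obtain ⟨s, hs, rfl⟩ := c.trace_lift hk hk1 hJ hq
    rw [← map_mul, ← map_mul]
    exact congrArg _ (Subtype.ext (mem_centralizer_iff.1 (coreOf_le _ hy) s (hle hs)))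
  · refine Or.inr fun q hq => h2 (mem_centralizer_iff.2 ?_)
    rintro _ ⟨s, hs, rfl⟩
    obtain ⟨-, hsC, hsc⟩ := mem_bd_iff.1 (hle hs)
    exact (mem_centralizer_iff.1 hsc q hq).symm

theorem layer_fix_field {X : Subgroup G} (hX : X ≠ ⊤) (hSX : (S : Subgroup G) ≤ X) {H : Subgroup G}
    (hH : ∀ H' : Subgroup G, H' ≤ X → X ≤ normalizer (H' : Set G) → (S : Subgroup G) ≤ H' → H ≤ H')
    {g : G} (hgH : g ∈ H) (hgA : g ∈ centralizer (A : Set G)) (hgo : Odd (orderOf g)) : g ∈ coreOf X := by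
  haveI : Fact (Nat.Prime 2) := ⟨Nat.prime_two⟩
  set S' := S.subtype hSX with hS'
  have hab := abTwo_quot (c.ab.subgroup X)
  have hN : ∀ J : Subgroup (↥X ⧸ Cfsg.oddCore ↥X), Cfsg.IsComponent J → CompNice (bar S') J := fun J hJ =>
    compNice_of_nice hab core_quot _ hJ (c.nice X hX J hJ)
  set M := Cfsg.layer (↥X ⧸ Cfsg.oddCore ↥X) ⊔ (bar S' : Subgroup _) with hM
  have hMn : M.Normal := by
    refine normalizer_eq_top_iff.1 (top_le_iff.1 ((layer_sup_normalizer hab core_quot (bar S')).symm.le.trans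
      (sup_le (le_sup_left.trans le_normalizer) ?_)))
    have key : ∀ n ∈ normalizer ((bar S' : Subgroup (↥X ⧸ Cfsg.oddCore ↥X)) : Set _), ∀ q ∈ M,
        n * q * n⁻¹ ∈ M := by
      intro n hn
      have hle : M ≤ M.comap (MulAut.conj n).toMonoidHom :=
        sup_le (fun q hq => mem_sup_left
          ((inferInstance : (Cfsg.layer (↥X ⧸ Cfsg.oddCore ↥X)).Normal).conj_mem q hq n))
          fun q hq => mem_sup_right ((mem_normalizer_iff.1 hn q).1 hq)
      exact fun q hq => hle hq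
    intro n hn
    refine mem_normalizer_iff.2 fun q => ⟨key n hn q, fun hq => ?_⟩
    simpa [mul_assoc] using key n⁻¹ (inv_mem hn) _ hq
  set H' := (M.comap (QuotientGroup.mk' (Cfsg.oddCore ↥X))).map X.subtype with hH'
  have hgX' : g ∈ H' := by
    refine hH H' (map_subtype_le _) ?_ (fun s hs => ?_) hgH
    · haveI := hMn
      have key : ∀ x ∈ X, ∀ y ∈ H', x * y * x⁻¹ ∈ H' := by
        rintro x hx _ ⟨y, hy, rfl⟩
        exact ⟨⟨x, hx⟩ * y * ⟨x, hx⟩⁻¹,
          (hMn.comap (QuotientGroup.mk' (Cfsg.oddCore ↥X))).conj_mem y hy _, rfl⟩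
      intro x hx
      refine mem_normalizer_iff.2 fun y => ⟨key x hx y, fun hy => ?_⟩
      simpa [mul_assoc] using key x⁻¹ (inv_mem hx) _ hy
    · exact ⟨⟨s, hSX hs⟩, mem_sup_right (mem_bar.2 ⟨_, by
        rw [hS', Sylow.coe_subtype, mem_subgroupOf]; exact hs, rfl⟩), rfl⟩
  obtain ⟨y, hy, rfl⟩ := hgX'
  refine mem_map_of_mem X.subtype ((QuotientGroup.eq_one_iff y).1 ?_)
  have hgo' : Odd (orderOf y) := by rw [← Subgroup.orderOf_coe]; exact hgo
  refine layer_fix_one (S := bar S') hab core_quot hN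
    (hgo'.of_dvd_nat (orderOf_map_dvd (QuotientGroup.mk' (Cfsg.oddCore ↥X)) y)) hy fun q hq hq2 => ?_
  obtain ⟨s, hs, rfl⟩ := mem_bar.1 hq
  have hs2 : s * s = 1 := eq_one_of_mk (S := S') (mul_mem hs hs) (by rw [map_mul]; exact hq2)
  have hsA : (s : G) ∈ A := (c.omega _).2 ⟨by rwa [hS', Sylow.coe_subtype, mem_subgroupOf] at hs,
    congrArg Subtype.val hs2⟩
  show Commute (QuotientGroup.mk' (Cfsg.oddCore ↥X) y) (QuotientGroup.mk' (Cfsg.oddCore ↥X) s)
  rw [commute_iff_eq, ← map_mul, ← map_mul]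
  exact congrArg _ (Subtype.ext (mem_centralizer_iff.1 hgA s hsA).symm)

/-- The image of an element of `c0 A` centralises the image of `A`. -/
theorem c0_fix {a : G} (ha : a ∈ A) {g : G} (hg : g ∈ c0 A) :
    ∃ hgC : g ∈ centralizer ({a} : Set G), Odd (orderOf (proj a ⟨g, hgC⟩)) ∧
      ∀ x ∈ (bar (S.subtype (c.le_cent ha)) : Subgroup _), x * x = 1 → Commute (proj a ⟨g, hgC⟩) x := by
  have hgC : g ∈ centralizer ({a} : Set G) :=
    mem_centralizer_singleton_iff.2 (mem_centralizer_iff.1 (c0_le A hg) a ha).symm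
  refine ⟨hgC, (odd_coreOf _).of_dvd_nat ((orderOf_map_dvd _ _).trans
    ((Subgroup.orderOf_mk g hgC).dvd.trans (Subgroup.orderOf_dvd_natCard (c0 A) hg))), fun x hx hx2 => ?_⟩
  obtain ⟨s, hs, rfl⟩ := c.exists_lift ha hx hx2
  rw [commute_iff_eq, ← map_mul, ← map_mul]
  exact congrArg _ (Subtype.ext (mem_centralizer_iff.1 (c0_le A hg) s hs).symm)

theorem fixed_core_field {B : Subgroup G} (hB : B ≤ A) (h8 : 8 ≤ Nat.card ↥B) {g : G} (hg : g ∈ c0 A)
    (hgB : ∀ b ∈ B, b ≠ 1 → g ∈ oc b) {a : G} (ha : a ∈ A) (ha1 : a ≠ 1) : g ∈ oc a := by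
  obtain ⟨hgC, ho, hfix⟩ := c.c0_fix ha hg
  have hbC : ∀ b ∈ A, b ∈ centralizer ({a} : Set G) := fun b hb => c.le_cent ha (c.leS hb)
  refine (mem_oc hgC).2 (Core.fixed_core (abTwo_quot (c.ab.subgroup _)) core_quot
    (fun J hJ => c.compNice ha ha1 hJ) ho hfix (B := (B.subgroupOf (centralizer ({a} : Set G))).map (proj a))
    ?_ ?_ ?_)
  · rintro _ ⟨e, he, rfl⟩
    exact c.proj_mem_bar ha (c.leS (hB he))
  · refine h8.trans (Nat.card_le_card_of_injective
      (fun e : ↥B => (⟨_, mem_map_of_mem (proj a) (x := ⟨(e : G), hbC e (hB e.2)⟩) e.2⟩ :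
        ↥((B.subgroupOf (centralizer ({a} : Set G))).map (proj a)))) fun e e' he => Subtype.ext ?_)
    exact c.proj_inj ha (c.leS (hB e.2)) (c.leS (hB e'.2)) (congrArg Subtype.val he)
  · rintro _ ⟨⟨e, heC⟩, he, rfl⟩ he1
    have he' : e ∈ B := he
    have he1' : e ≠ 1 := fun e' => he1 (by rw [show (⟨e, heC⟩ : ↥(centralizer ({a} : Set G))) = 1 from
      Subtype.ext e', map_one])
    obtain ⟨h1, h2⟩ := c.push_at_one ha (hB he') (N := oc e)
      (inf_le_right.trans (le_normalizer_coreOf _)) (odd_coreOf _)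
    exact ⟨_, h1, h2, mem_map_of_mem _ (x := (⟨g, hgC⟩ : ↥(centralizer _))) (hgB e he' he1')⟩

theorem fix_all_field {a : G} (ha : a ∈ A) {g : G} (hg : g ∈ c0 A)
    (hgJ : ∀ J ∈ covOf a, ∀ j ∈ J, g * j * g⁻¹ * j⁻¹ ∈ oc a) : g ∈ oc a := by
  obtain ⟨hgC, ho, hfix⟩ := c.c0_fix ha hg
  refine (mem_oc hgC).2 (eq_one_of_fix (abTwo_quot (c.ab.subgroup _)) core_quot
    (bar (S.subtype (c.le_cent ha))) ho (mem_centralizer_layer fun K hK => mem_centralizer_iff.2 fun q hq => ?_)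
    hfix)
  obtain ⟨⟨j, hj⟩, rfl⟩ := QuotientGroup.mk'_surjective _ q
  exact ((comm_mem_oc hgC hj).1 (hgJ _ ⟨K, hK, rfl⟩ j (mem_cov_iff.2 ⟨hj, hq⟩))).symm

theorem small_field {a : G} (ha : a ∈ A) (ha1 : a ≠ 1) {J : Subgroup G} (hJ : J ∈ covOf a)
    (h4 : Nat.card ↥(A ⊓ J) = 4) : GenTori (S : Subgroup G) A a J (bdOf A a J) ∨ Flat A a J := by
  obtain ⟨K, hK, rfl⟩ := hJ
  set J := (K.comap (proj a)).map (centralizer ({a} : Set G)).subtype with hJ
  have hN := c.compNice ha ha1 hK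
  rcases hN.small ((c.card_trace ha ha1 hK).symm.trans h4) with hgen | ⟨hflat, hrig⟩
  · refine Or.inl fun x hx => ?_
    set R := oc a ⊔ (J ⊓ normalizer ((S : Subgroup G) : Set G)) ⊔
      ⨆ w : {w : G // w ∈ A ⊓ J ∧ w ≠ 1},
        J ⊓ centralizer ((bdOf A a J ⊔ zpowers (w : G) : Subgroup G) : Set G) with hR
    obtain ⟨hxC, hxK⟩ := mem_cov_iff.1 hx
    have hle : K ≤ (R.subgroupOf (centralizer ({a} : Set G))).map (proj a) := by
      refine hgen.trans (sup_le ?_ (iSup_le fun w => ?_))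
      · intro q hq
        obtain ⟨y, rfl⟩ := QuotientGroup.mk'_surjective _ q
        obtain ⟨n, hn, e⟩ := lift_normalizer (S.subtype (c.le_cent ha)) hq.2
        refine ⟨n, mem_subgroupOf.2 (mem_sup_left (mem_sup_right
          ⟨mem_cov_iff.2 ⟨n.2, by rw [Subtype.coe_eta, e]; exact hq.1⟩,
            mem_normalizer_iff.2 fun s => ⟨fun hs => ?_, fun hs => ?_⟩⟩)), e⟩
        · have h1 := (mem_normalizer_iff.1 hn ⟨s, c.le_cent ha hs⟩).1
            (by rw [Sylow.coe_subtype, mem_subgroupOf]; exact hs)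
          rw [Sylow.coe_subtype, mem_subgroupOf] at h1
          exact h1
        · have hsC : s ∈ centralizer ({a} : Set G) := by
            have := mul_mem (mul_mem (inv_mem n.2) (c.le_cent ha hs)) n.2
            simpa [mul_assoc] using this
          have h1 := (mem_normalizer_iff.1 hn ⟨s, hsC⟩).2 (by rw [Sylow.coe_subtype, mem_subgroupOf]; exact hs)
          rw [Sylow.coe_subtype, mem_subgroupOf] at h1
          exact h1
      · intro q hq
        obtain ⟨W, hW, eW⟩ := c.trace_lift ha ha1 hK w.2.1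
        have hW1 : W ≠ 1 := fun e => w.2.2 (by
          rw [← eW]
          exact (congrArg (proj a) (Subtype.ext e : (⟨W, _⟩ : ↥(centralizer ({a} : Set G))) = 1)).trans
            (map_one _))
        set B := bdOf A a J ⊔ zpowers W with hB
        have hBA : B ≤ A := sup_le inf_le_left (zpowers_le.2 hW.1)
        obtain ⟨y, rfl⟩ := QuotientGroup.mk'_surjective _ q
        have hBc : B ≤ ((centralizer ({proj a y} : Set _)).comap (proj a)).map
            (centralizer ({a} : Set G)).subtype := by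
          refine sup_le (fun b hb => ?_) (zpowers_le.2
            ⟨⟨W, c.le_cent ha (c.leS hW.1)⟩, mem_centralizer_singleton_iff.2
              (by rw [eW]; exact (mem_centralizer_singleton_iff.1 hq.2).symm), rfl⟩)
          obtain ⟨-, hbC, hbc⟩ := mem_bd_iff.1 hb
          exact ⟨⟨b, hbC⟩, mem_centralizer_singleton_iff.2 (mem_centralizer_iff.1 hbc _ hq.1).symm, rfl⟩
        obtain ⟨m, hm, e⟩ := lift_centralizer (c.ab.subgroup _) (S.subtype (c.le_cent ha))
          (P := B.subgroupOf (centralizer ({a} : Set G))) (fun b hb => by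
            rw [Sylow.coe_subtype, mem_subgroupOf]; exact c.leS (hBA hb)) (x := y) (fun b hb => by
            obtain ⟨z, hz, ez⟩ := hBc hb
            obtain rfl : z = b := Subtype.ext ez
            exact mem_centralizer_singleton_iff.1 hz)
        refine ⟨m, mem_subgroupOf.2 (mem_sup_right (mem_iSup_of_mem (⟨W, hW, hW1⟩ : {w : G // w ∈ A ⊓ J ∧ w ≠ 1})
          ⟨mem_cov_iff.2 ⟨m.2, by rw [Subtype.coe_eta, e]; exact hq.1⟩, mem_centralizer_iff.2 fun b hb =>
            congrArg Subtype.val (mem_centralizer_iff.1 hm ⟨b, c.le_cent ha (c.leS (hBA hb))⟩ hb)⟩)), e⟩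
    obtain ⟨r, hr, e⟩ := hle hxK
    have ho : x * (r : G)⁻¹ ∈ oc a := (mem_oc (mul_mem hxC (inv_mem r.2))).2 (by
      show proj a (⟨x, hxC⟩ * r⁻¹) = 1
      rw [map_mul, map_inv, e, mul_inv_cancel])
    have := mul_mem (show x * (r : G)⁻¹ ∈ R from mem_sup_left (mem_sup_left ho)) (mem_subgroupOf.1 hr)
    rwa [inv_mul_cancel_right] at this
  · refine Or.inr ⟨fun w hw hw1 x hx hxo _ _ _ => ?_, fun g hg j hj => ?_⟩
    · obtain ⟨hxC, hxK⟩ := mem_cov_iff.1 hx.1
      refine (mem_oc hxC).2 ?_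
      have hxS := hflat _ (c.proj_trace ha hw)
        (fun e => hw1 (c.proj_inj ha (c.leS hw.1) (one_mem _) (e.trans (map_one _).symm)))
        (mem_inf.2 ⟨hxK, mem_centralizer_singleton_iff.2 (by
          rw [← map_mul, ← map_mul]
          exact congrArg _ (Subtype.ext (mem_centralizer_singleton_iff.1 hx.2)))⟩)
      obtain ⟨k, hk⟩ := exists_two_pow hxS
      exact eq_one_of_odd_two (hxo.of_dvd_nat ((orderOf_map_dvd _ _).trans (Subgroup.orderOf_mk x hxC).dvd)) hk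
    · obtain ⟨hgC, ho, hfix⟩ := c.c0_fix ha hg
      obtain ⟨hjC, hjK⟩ := mem_cov_iff.1 hj
      refine (comm_mem_oc hgC hjC).2 ?_
      have hfixW : ∀ w ∈ (bar (S.subtype (c.le_cent ha)) : Subgroup _) ⊓ K,
          Commute (proj a ⟨g, hgC⟩) w := fun w hw => hfix w hw.1 (hN.sq w hw)
      have hgN : proj a ⟨g, hgC⟩ ∈ normalizer (K : Set _) := by
        haveI : Nontrivial ↥((bar (S.subtype (c.le_cent ha)) : Subgroup _) ⊓ K) :=
          Finite.one_lt_card_iff_nontrivial.1 (by have := hN.four_le; omega)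
        obtain ⟨w, hw⟩ := exists_ne (1 : ↥((bar (S.subtype (c.le_cent ha)) : Subgroup _) ⊓ K))
        exact normalizes_of_fix (abTwo_quot (c.ab.subgroup _)) core_quot hK w.2.2
          (fun e => hw (Subtype.ext e)) (by rw [(hfixW w w.2).eq, mul_inv_cancel_right])
      exact (mem_centralizer_iff.1 (hrig _ hgN ho hfixW) _ hjK).symm

theorem grow {a : G} (ha : a ∈ A) (ha1 : a ≠ 1) {J : Subgroup G} (hJ : J ∈ covOf a) {b : G}
    (hb : b ∈ bdOf A a J) (hb1 : b ≠ 1) :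
    ∃ J' ∈ covOf b, A ⊓ J ≤ A ⊓ J' ∧ bdOf A b J' ≤ bdOf A a J := by
  classical
  obtain ⟨K, hK, rfl⟩ := hJ
  set J := (K.comap (proj a)).map (centralizer ({a} : Set G)).subtype with hJ
  obtain ⟨hbA, hbC, hbc⟩ := mem_bd_iff.1 hb
  have hbo := c.order_two hbA hb1
  set W := (traceW (S.subtype (c.le_cent ha)) K).map (centralizer ({a} : Set G)).subtype with hW
  have hWA : ∀ x ∈ W, x ∈ A ⊓ J := by
    rintro _ ⟨y, hy, rfl⟩
    have hyS : (y : G) ∈ (S : Subgroup G) := by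
      exact mem_subgroupOf.1 ((Sylow.coe_subtype S (c.le_cent ha)).le hy.1)
    refine ⟨(c.omega _).2 ⟨hyS, ?_⟩, mem_cov_iff.2 ⟨y.2, hy.2⟩⟩
    have h1 := (c.compNice ha ha1 hK).sq (proj a y) ⟨mem_bar.2 ⟨y, hy.1, rfl⟩, hy.2⟩
    exact congrArg Subtype.val (eq_one_of_mk (x := y * y) (S := S.subtype (c.le_cent ha))
      (mul_mem hy.1 hy.1) (by rw [map_mul]; exact h1))
  have hAW : ∀ x ∈ A ⊓ J, x ∈ W := fun x hx => ⟨⟨x, c.le_cent ha (c.leS hx.1)⟩,
    ⟨(Sylow.coe_subtype S (c.le_cent ha)).ge (mem_subgroupOf.2 (c.leS hx.1)), (mem_cov_iff.1 hx.2).2⟩, rfl⟩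
  -- the torus elements in perfect subgroups of `C(a) ∩ C(b)`
  have htr : ∀ u ∈ A ⊓ J, u ≠ 1 → ∀ v ∈ A ⊓ J, v ≠ 1 → ∃ D : Subgroup G, ⁅D, D⁆ = D ∧
      D ≤ centralizer ({a} : Set G) ∧ D ≤ centralizer (bdOf A a J : Set G) ∧
      D ≤ centralizer ({b} : Set G) ∧ ∃ n ∈ D, n ∈ normalizer ((S : Subgroup G) : Set G) ∧ n * u * n⁻¹ = v := by
    intro u hu hu1 v hv hv1
    obtain ⟨huC, huK⟩ := mem_cov_iff.1 hu.2
    obtain ⟨hvC, hvK⟩ := mem_cov_iff.1 hv.2
    obtain ⟨D, hD, hDB, -, n, hn, hnS, e⟩ := trace_trans (c.ab.subgroup _) (S := S.subtype (c.le_cent ha)) hK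
      (c.nice _ (c.proper a ha1) K hK).one (u := ⟨u, huC⟩) (v := ⟨v, hvC⟩)
      ⟨(Sylow.coe_subtype S (c.le_cent ha)).ge (mem_subgroupOf.2 (c.leS hu.1)), huK⟩
      (fun e => hu1 (congrArg Subtype.val e))
      ⟨(Sylow.coe_subtype S (c.le_cent ha)).ge (mem_subgroupOf.2 (c.leS hv.1)), hvK⟩
      (fun e => hv1 (congrArg Subtype.val e))
    have hDbd : D.map (centralizer ({a} : Set G)).subtype ≤ centralizer (bdOf A a J : Set G) := by
      rintro _ ⟨d, hd, rfl⟩
      refine mem_centralizer_iff.2 fun z hz => ?_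
      obtain ⟨hzA, hzC, hzc⟩ := mem_bd_iff.1 hz
      exact congrArg Subtype.val (mem_centralizer_iff.1 (hDB hd) ⟨z, hzC⟩
        ⟨(Sylow.coe_subtype S (c.le_cent ha)).ge (mem_subgroupOf.2 (c.leS hzA)), hzc⟩)
    refine ⟨D.map (centralizer ({a} : Set G)).subtype, by rw [← map_commutator, hD], map_subtype_le _, hDbd,
      fun d hd => mem_centralizer_singleton_iff.2 (mem_centralizer_iff.1 (hDbd hd) b hb).symm,
      n, mem_map_of_mem _ hn, mem_normalizer_iff.2 fun s => ⟨fun hs => ?_, fun hs => ?_⟩,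
      congrArg Subtype.val e⟩
    · have h1 := (mem_normalizer_iff.1 hnS ⟨s, c.le_cent ha hs⟩).1
        (by rw [Sylow.coe_subtype, mem_subgroupOf]; exact hs)
      rw [Sylow.coe_subtype, mem_subgroupOf] at h1
      exact h1
    · have hsC : s ∈ centralizer ({a} : Set G) := by
        have := mul_mem (mul_mem (inv_mem n.2) (c.le_cent ha hs)) n.2
        simpa [mul_assoc] using this
      have h1 := (mem_normalizer_iff.1 hnS ⟨s, hsC⟩).2 (by rw [Sylow.coe_subtype, mem_subgroupOf]; exact hs)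
      rw [Sylow.coe_subtype, mem_subgroupOf] at h1
      exact h1
  obtain ⟨w₀, hw₀, hw₀1⟩ : ∃ w ∈ A ⊓ J, w ≠ 1 := by
    haveI : Nontrivial ↥(A ⊓ J) :=
      Finite.one_lt_card_iff_nontrivial.1 (by have := c.four ha ha1 (J := J) ⟨K, hK, rfl⟩; omega)
    obtain ⟨w, hw⟩ := exists_ne (1 : ↥(A ⊓ J))
    exact ⟨w, w.2, fun e => hw (Subtype.ext e)⟩
  -- facts on the torus elements at `b`
  have hfacts : ∀ D : Subgroup G, ⁅D, D⁆ = D → D ≤ centralizer ({b} : Set G) → ∀ n ∈ D,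
      n ∈ normalizer ((S : Subgroup G) : Set G) →
      (∀ A' ∈ atomsOf S b, (∀ x ∈ A'.1, n * x * n⁻¹ ∈ A'.1) ∧ ∀ x ∈ A'.2, n * x * n⁻¹ ∈ A'.2) ∧
      ∀ s ∈ (S : Subgroup G), n * s * n⁻¹ * s⁻¹ ∈ ⨆ A' ∈ atomsOf S b, A'.1 := fun D hD hDC n hn hnS =>
    atomsOf_perfect c.ab S (c.leS hbA) hD hDC hn hnS
  have hatom : ∀ A' ∈ atomsOf S b, ∃ L, Cfsg.IsComponent L ∧
      (∀ x ∈ A'.1, x ∈ A ⊓ (L.comap (proj b)).map (centralizer ({b} : Set G)).subtype) ∧
      ∀ x ∈ bdOf A b ((L.comap (proj b)).map (centralizer ({b} : Set G)).subtype), x ∈ A'.2 := by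
    rintro A' ⟨hle, L, hL, e1, e2⟩
    refine ⟨L, hL, fun x hx => ?_, fun x hx => ?_⟩
    · rw [← e1] at hx
      obtain ⟨y, hy, rfl⟩ := hx
      have hyS : (y : G) ∈ (S : Subgroup G) := by
        exact mem_subgroupOf.1 ((Sylow.coe_subtype S hle).le hy.1)
      refine ⟨(c.omega _).2 ⟨hyS, ?_⟩, mem_cov_iff.2 ⟨y.2, hy.2⟩⟩
      have h1 := (c.compNice hbA hb1 hL).sq (proj b y) ⟨mem_bar.2 ⟨y, hy.1, rfl⟩, hy.2⟩
      exact congrArg Subtype.val (eq_one_of_mk (x := y * y) (S := S.subtype (c.le_cent hbA))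
        (mul_mem hy.1 hy.1) (by rw [map_mul]; exact h1))
    · obtain ⟨hxA, hxC, hxc⟩ := mem_bd_iff.1 hx
      rw [← e2]
      exact ⟨⟨x, hxC⟩, ⟨(Sylow.coe_subtype S hle).ge (mem_subgroupOf.2 (c.leS hxA)), hxc⟩, rfl⟩
  have hnW : ∀ D : Subgroup G, ⁅D, D⁆ = D → D ≤ centralizer ({a} : Set G) → ∀ n ∈ D,
      n ∈ normalizer ((S : Subgroup G) : Set G) → D ≤ centralizer (bdOf A a J : Set G) →
      ∀ x ∈ A, n * x * n⁻¹ * x⁻¹ ∈ A ⊓ J := by
    intro D hD hDC n hn hnS hDbd x hx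
    have hx' := c.span ha ha1 (J := J) ⟨K, hK, rfl⟩ hx
    rw [← SetLike.mem_coe, coe_mul_of_right_le_normalizer_left _ _ (fun z hz => by
      refine mem_normalizer_iff.2 fun y => ⟨fun hy => ?_, fun hy => ?_⟩
      · rw [c.comm (mem_bd_iff.1 hz).1 hy.1, mul_inv_cancel_right]; exact hy
      · have h1 : z * y * z⁻¹ ∈ A ⊓ J := hy
        have hyA : y ∈ A := by
          have := mul_mem (mul_mem (inv_mem (mem_bd_iff.1 hz).1) h1.1) (mem_bd_iff.1 hz).1
          simpa [mul_assoc] using this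
        rwa [c.comm (mem_bd_iff.1 hz).1 hyA, mul_inv_cancel_right] at h1)] at hx'
    obtain ⟨w, hw, d, hd, e0⟩ := hx'
    obtain rfl : w * d = x := e0
    have hat : (W, (traceB (S.subtype (c.le_cent ha)) K).map (centralizer ({a} : Set G)).subtype) ∈ atomsOf S a :=
      ⟨c.le_cent ha, K, hK, rfl, rfl⟩
    have hnw := hWA _ (((atomsOf_perfect c.ab S (c.leS ha) hD hDC hn hnS).1 _ hat).1 w (hAW w hw))
    rw [show n * (w * d) * n⁻¹ * (w * d)⁻¹ = n * w * n⁻¹ * (n * d * n⁻¹) * d⁻¹ * w⁻¹ by group,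
      show n * d * n⁻¹ = d by rw [← mem_centralizer_iff.1 (hDbd hn) d hd, mul_inv_cancel_right],
      mul_inv_cancel_right]
    exact mul_mem hnw (inv_mem hw)
  -- the trace of `J` lies in one atom at `b`
  have hsub : A ⊓ J ≤ ⨆ A' ∈ atomsOf S b, A'.1 := by
    intro u hu
    by_cases hu1 : u = 1
    · exact hu1 ▸ one_mem _
    obtain ⟨v, hv, hv1, hvu⟩ : ∃ v ∈ A ⊓ J, v ≠ 1 ∧ v ≠ u := by
      by_contra hcon
      push Not at hcon
      have hsub : ((A ⊓ J : Subgroup G) : Set G) ⊆ {1, u} := fun x hx => by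
        by_cases h1 : x = 1
        · exact Or.inl h1
        · exact Or.inr (hcon x hx h1)
      have h2 := Set.ncard_le_ncard hsub (Set.toFinite _)
      have h3 : ({1, u} : Set G).ncard ≤ 2 := (Set.ncard_insert_le _ _).trans (by simp)
      have h4 : ((A ⊓ J : Subgroup G) : Set G).ncard = Nat.card ↥(A ⊓ J) := rfl
      have := c.four ha ha1 (J := J) ⟨K, hK, rfl⟩
      omega
    have hvu1 : v * u ≠ 1 := fun e => hvu (by
      rw [eq_inv_of_mul_eq_one_left e]; exact inv_eq_of_mul_eq_one_right (c.sq hu.1))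
    obtain ⟨D, hD, -, -, hDb, n, hn, hnS, e⟩ := htr v hv hv1 (v * u) (mul_mem hv hu) hvu1
    have := (hfacts D hD hDb n hn hnS).2 v (c.leS hv.1)
    rw [e, c.comm hv.1 hu.1, mul_inv_cancel_right] at this
    exact this
  obtain ⟨A', hA', x, hx, hxW, hx1⟩ : ∃ A' ∈ atomsOf S b, ∃ x ∈ A'.1, x ∈ A ⊓ J ∧ x ≠ 1 := by
    by_contra hcon
    push Not at hcon
    obtain ⟨v, hv, hv1, hvw⟩ : ∃ v ∈ A ⊓ J, v ≠ 1 ∧ v ≠ w₀ := by
      by_contra hcon'
      push Not at hcon'
      have hsub : ((A ⊓ J : Subgroup G) : Set G) ⊆ {1, w₀} := fun x hx => by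
        by_cases h1 : x = 1
        · exact Or.inl h1
        · exact Or.inr (hcon' x hx h1)
      have h2 := Set.ncard_le_ncard hsub (Set.toFinite _)
      have h3 : ({1, w₀} : Set G).ncard ≤ 2 := (Set.ncard_insert_le _ _).trans (by simp)
      have h4 : ((A ⊓ J : Subgroup G) : Set G).ncard = Nat.card ↥(A ⊓ J) := rfl
      have := c.four ha ha1 (J := J) ⟨K, hK, rfl⟩
      omega
    obtain ⟨D, hD, hDa, hDbd, hDb, n, hn, hnS, e⟩ := htr w₀ hw₀ hw₀1 v hv hv1
    have hfix : (⨆ A' ∈ atomsOf S b, A'.1) ≤ centralizer ({n} : Set G) := iSup₂_le fun A' hA' x hx => by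
      obtain ⟨L, -, hL1, -⟩ := hatom A' hA'
      refine mem_centralizer_singleton_iff.2 (mul_inv_eq_iff_eq_mul.1 (mul_inv_eq_one.1
        (hcon A' hA' _ (mul_mem (((hfacts D hD hDb n hn hnS).1 A' hA').1 x hx) (inv_mem hx))
          (hnW D hD hDa n hn hnS hDbd x (hL1 x hx).1)))).symm
    refine hvw ?_
    rw [← e, ← mem_centralizer_singleton_iff.1 (hfix (hsub hw₀)), mul_inv_cancel_right]
  obtain ⟨L, hL, hL1, hL2⟩ := hatom A' hA'
  refine ⟨_, ⟨L, hL, rfl⟩, fun v hv => ?_, fun s hs => ?_⟩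
  · by_cases hv1 : v = 1
    · exact hv1 ▸ one_mem _
    obtain ⟨D, hD, -, -, hDb, n, hn, hnS, e⟩ := htr x hxW hx1 v hv hv1
    exact hL1 _ (e ▸ ((hfacts D hD hDb n hn hnS).1 A' hA').1 x hx)
  · by_contra hsa
    have hsA := (mem_bd_iff.1 hs).1
    have hs' := c.span ha ha1 (J := J) ⟨K, hK, rfl⟩ hsA
    rw [← SetLike.mem_coe, coe_mul_of_right_le_normalizer_left _ _ (fun z hz => by
      refine mem_normalizer_iff.2 fun y => ⟨fun hy => ?_, fun hy => ?_⟩
      · rw [c.comm (mem_bd_iff.1 hz).1 hy.1, mul_inv_cancel_right]; exact hy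
      · have h1 : z * y * z⁻¹ ∈ A ⊓ J := hy
        have hyA : y ∈ A := by
          have := mul_mem (mul_mem (inv_mem (mem_bd_iff.1 hz).1) h1.1) (mem_bd_iff.1 hz).1
          simpa [mul_assoc] using this
        rwa [c.comm (mem_bd_iff.1 hz).1 hyA, mul_inv_cancel_right] at h1)] at hs'
    obtain ⟨w, hw, d, hd, e0⟩ := hs'
    obtain rfl : w * d = s := e0
    have hw1 : w ≠ 1 := fun e => hsa (by rw [e, one_mul]; exact hd)
    obtain ⟨v, hv, hv1, hvw⟩ : ∃ v ∈ A ⊓ J, v ≠ 1 ∧ v ≠ w := by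
      by_contra hcon
      push Not at hcon
      have hsub : ((A ⊓ J : Subgroup G) : Set G) ⊆ {1, w} := fun x hx => by
        by_cases h1 : x = 1
        · exact Or.inl h1
        · exact Or.inr (hcon x hx h1)
      have h2 := Set.ncard_le_ncard hsub (Set.toFinite _)
      have h3 : ({1, w} : Set G).ncard ≤ 2 := (Set.ncard_insert_le _ _).trans (by simp)
      have h4 : ((A ⊓ J : Subgroup G) : Set G).ncard = Nat.card ↥(A ⊓ J) := rfl
      have := c.four ha ha1 (J := J) ⟨K, hK, rfl⟩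
      omega
    obtain ⟨D, hD, -, hDbd, hDb, n, hn, hnS, e⟩ := htr w hw hw1 v hv hv1
    have hs2 : w * d ∈ A'.2 := hL2 _ hs
    have h1 : n * (w * d) * n⁻¹ * (w * d)⁻¹ ∈ A'.2 :=
      mul_mem (((hfacts D hD hDb n hn hnS).1 A' hA').2 _ hs2) (inv_mem hs2)
    rw [show n * (w * d) * n⁻¹ * (w * d)⁻¹ = n * w * n⁻¹ * (n * d * n⁻¹) * d⁻¹ * w⁻¹ by group,
      show n * d * n⁻¹ = d by rw [← mem_centralizer_iff.1 (hDbd hn) d hd, mul_inv_cancel_right],
      mul_inv_cancel_right, e] at h1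
    have h2 : v * w⁻¹ ∈ A'.1 := by
      obtain ⟨D', hD', -, -, hDb', n', hn', hnS', e'⟩ := htr x hxW hx1 (v * w⁻¹) (mul_mem hv (inv_mem hw))
        (fun e'' => hvw (mul_inv_eq_one.1 e''))
      exact e' ▸ ((hfacts D' hD' hDb' n' hn' hnS').1 A' hA').1 x hx
    obtain ⟨hle, L', hL', e1, e2⟩ := hA'
    rw [← e1] at h2
    rw [← e2] at h1
    obtain ⟨p, hp, ep⟩ := h2
    obtain ⟨r, hr, er⟩ := h1
    obtain rfl : r = p := Subtype.ext (er.trans ep.symm)
    rw [trace_disj (c.ab.subgroup _) hL' hp hr, map_one] at ep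
    exact hvw (mul_inv_eq_one.1 ep.symm)

end Ctx

end Cfsg.Agent.Walter.Core
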