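import Cfsg.Agent.Lib.Walter.Core.Setting
import Cfsg.Agent.Lib.Walter.Core.AtomSys
import Cfsg.Agent.Lib.Walter.Core.Lift
import Cfsg.Agent.Lib.Walter.Core.Nice

/-!
# The components modulo the cores as subgroups of the group

`covOf a` are the preimages in `G` of the components of `C(a)/O(C(a))` and `bdOf A a J` is the part of `A`
centralising one of them modulo the core; the elementary fields of `CoreSys` are proved here.
-/

set_option autoImplicit false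
set_option linter.style.haveILetI false
set_option linter.unusedSectionVars false

namespace Cfsg.Agent.Walter.Core

open Subgroup
open Cfsg.Agent.SEAbelian
open scoped Pointwise

universe u

variable {G : Type u} [Group G]

/-- The projection of `C(a)` modulo its core. -/
abbrev proj (a : G) : ↥(centralizer ({a} : Set G)) →*
    ↥(centralizer ({a} : Set G)) ⧸ Cfsg.oddCore ↥(centralizer ({a} : Set G)) :=
  QuotientGroup.mk' (Cfsg.oddCore ↥(centralizer ({a} : Set G)))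

/-- `C(a)` modulo its core. -/
abbrev Qt (a : G) := ↥(centralizer ({a} : Set G)) ⧸ Cfsg.oddCore ↥(centralizer ({a} : Set G))

/-- The preimages of the components of `C(a)/O(C(a))`. -/
def covOf (a : G) : Set (Subgroup G) :=
  {J | ∃ K, Cfsg.IsComponent K ∧ (K.comap (proj a)).map (centralizer ({a} : Set G)).subtype = J}

/-- The part of `A` centralising `J` modulo the core. -/
def bdOf (A : Subgroup G) (a : G) (J : Subgroup G) : Subgroup G :=
  A ⊓ ((centralizer (((J.subgroupOf (centralizer ({a} : Set G))).map (proj a) : Subgroup _) : Set _)).comap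
    (proj a)).map (centralizer ({a} : Set G)).subtype

theorem mem_oc {a g : G} (hg : g ∈ centralizer ({a} : Set G)) : g ∈ oc a ↔ proj a ⟨g, hg⟩ = 1 := by
  refine Iff.trans ⟨?_, fun h => ⟨⟨g, hg⟩, h, rfl⟩⟩ (QuotientGroup.eq_one_iff _).symm
  rintro ⟨y, hy, e⟩
  obtain rfl : y = ⟨g, hg⟩ := Subtype.ext e
  exact hy

theorem comm_mem_oc {a s j : G} (hs : s ∈ centralizer ({a} : Set G)) (hj : j ∈ centralizer ({a} : Set G)) :
    s * j * s⁻¹ * j⁻¹ ∈ oc a ↔ proj a ⟨s, hs⟩ * proj a ⟨j, hj⟩ = proj a ⟨j, hj⟩ * proj a ⟨s, hs⟩ := by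
  have hm : s * j * s⁻¹ * j⁻¹ ∈ centralizer ({a} : Set G) :=
    mul_mem (mul_mem (mul_mem hs hj) (inv_mem hs)) (inv_mem hj)
  rw [mem_oc hm, show (⟨_, hm⟩ : ↥(centralizer ({a} : Set G))) = ⟨s, hs⟩ * ⟨j, hj⟩ * ⟨s, hs⟩⁻¹ * ⟨j, hj⟩⁻¹ from rfl,
    map_mul, map_mul, map_mul, map_inv, map_inv, mul_inv_eq_one, mul_inv_eq_iff_eq_mul]

theorem mem_cov_iff {a : G} {K : Subgroup (↥(centralizer ({a} : Set G)) ⧸ Cfsg.oddCore ↥(centralizer ({a} : Set G)))}
    {x : G} : x ∈ (K.comap (proj a)).map (centralizer ({a} : Set G)).subtype ↔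
      ∃ hx : x ∈ centralizer ({a} : Set G), proj a ⟨x, hx⟩ ∈ K :=
  ⟨fun ⟨y, hy, e⟩ => by subst e; exact ⟨y.2, hy⟩, fun ⟨hx, h⟩ => ⟨⟨x, hx⟩, h, rfl⟩⟩

theorem map_cov {a : G} (K : Subgroup (↥(centralizer ({a} : Set G)) ⧸ Cfsg.oddCore ↥(centralizer ({a} : Set G)))) :
    (((K.comap (proj a)).map (centralizer ({a} : Set G)).subtype).subgroupOf
      (centralizer ({a} : Set G))).map (proj a) = K := by
  rw [Subgroup.subgroupOf, comap_map_eq_self_of_injective (Subgroup.subtype_injective _),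
    map_comap_eq_self_of_surjective (QuotientGroup.mk'_surjective _)]

theorem mem_bd_iff {A : Subgroup G} {a : G}
    {K : Subgroup (↥(centralizer ({a} : Set G)) ⧸ Cfsg.oddCore ↥(centralizer ({a} : Set G)))} {s : G} :
    s ∈ bdOf A a ((K.comap (proj a)).map (centralizer ({a} : Set G)).subtype) ↔
      s ∈ A ∧ ∃ hs : s ∈ centralizer ({a} : Set G), proj a ⟨s, hs⟩ ∈ centralizer (K : Set _) := by
  unfold bdOf
  rw [map_cov, mem_inf]
  exact and_congr_right fun _ =>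
    ⟨fun ⟨y, hy, e⟩ => by subst e; exact ⟨y.2, hy⟩, fun ⟨hs, h⟩ => ⟨⟨s, hs⟩, h, rfl⟩⟩

variable [Finite G] {S : Sylow 2 G} {A : Subgroup G}

/-- What the assembly of `CoreSys` assumes. -/
structure Ctx (S : Sylow 2 G) (A : Subgroup G) : Prop where
  ab : AbTwo G
  omega : ∀ x : G, x ∈ A ↔ x ∈ (S : Subgroup G) ∧ x * x = 1
  nice : ∀ X : Subgroup G, X ≠ ⊤ → ∀ K : Subgroup (↥X ⧸ Cfsg.oddCore ↥X), Cfsg.IsComponent K → Nice ↥K
  proper : ∀ a : G, a ≠ 1 → centralizer ({a} : Set G) ≠ ⊤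

namespace Ctx

variable (c : Ctx S A)

include c

theorem leS : A ≤ (S : Subgroup G) := fun _ hx => ((c.omega _).1 hx).1

theorem sq {x : G} (hx : x ∈ A) : x * x = 1 := ((c.omega x).1 hx).2

theorem comm {x y : G} (hx : x ∈ A) (hy : y ∈ A) : x * y = y * x := (c.ab _ S.2 x (c.leS hx) y (c.leS hy)).eq

theorem le_cent {a : G} (ha : a ∈ A) : (S : Subgroup G) ≤ centralizer ({a} : Set G) := fun s hs =>
  mem_centralizer_singleton_iff.2 (c.ab _ S.2 s hs a (c.leS ha)).eq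

theorem order_two {a : G} (ha : a ∈ A) (ha1 : a ≠ 1) : orderOf a = 2 :=
  haveI : Fact (Nat.Prime 2) := ⟨Nat.prime_two⟩
  orderOf_eq_prime (by rw [pow_two]; exact c.sq ha) ha1

theorem compNice {a : G} (ha : a ∈ A) (ha1 : a ≠ 1)
    {K : Subgroup (↥(centralizer ({a} : Set G)) ⧸ Cfsg.oddCore ↥(centralizer ({a} : Set G)))}
    (hK : Cfsg.IsComponent K) : CompNice (bar (S.subtype (c.le_cent ha))) K :=
  compNice_of_nice (abTwo_quot (c.ab.subgroup _)) core_quot _ hK (c.nice _ (c.proper a ha1) K hK)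

/-- The image of an element of `S`. -/
theorem proj_mem_bar {a : G} (ha : a ∈ A) {s : G} (hs : s ∈ (S : Subgroup G)) :
    proj a ⟨s, c.le_cent ha hs⟩ ∈ (bar (S.subtype (c.le_cent ha)) : Subgroup _) :=
  mem_bar.2 ⟨_, by rw [Sylow.coe_subtype, mem_subgroupOf]; exact hs, rfl⟩

theorem proj_inj {a : G} (ha : a ∈ A) {s t : G} (hs : s ∈ (S : Subgroup G)) (ht : t ∈ (S : Subgroup G))
    (e : proj a ⟨s, c.le_cent ha hs⟩ = proj a ⟨t, c.le_cent ha ht⟩) : s = t :=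
  congrArg Subtype.val (eq_of_mk (S := S.subtype (c.le_cent ha))
    (x := ⟨s, c.le_cent ha hs⟩) (y := ⟨t, c.le_cent ha ht⟩) (by rw [Sylow.coe_subtype, mem_subgroupOf]; exact hs)
    (by rw [Sylow.coe_subtype, mem_subgroupOf]; exact ht) e)

/-- An element of the image of `S` squaring to one comes from `A`. -/
theorem exists_lift {a : G} (ha : a ∈ A)
    {q : ↥(centralizer ({a} : Set G)) ⧸ Cfsg.oddCore ↥(centralizer ({a} : Set G))}
    (hq : q ∈ (bar (S.subtype (c.le_cent ha)) : Subgroup _)) (h2 : q * q = 1) :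
    ∃ s, ∃ hs : s ∈ A, proj a ⟨s, c.le_cent ha (c.leS hs)⟩ = q := by
  obtain ⟨y, hy, rfl⟩ := mem_bar.1 hq
  rw [Sylow.coe_subtype, mem_subgroupOf] at hy
  refine ⟨y, (c.omega _).2 ⟨hy, ?_⟩, rfl⟩
  have := eq_one_of_mk (S := S.subtype (c.le_cent ha)) (x := y * y)
    (by rw [Sylow.coe_subtype, mem_subgroupOf]; exact mul_mem hy hy) (by rw [map_mul]; exact h2)
  exact congrArg Subtype.val this

/-- The trace of a component is a part of `A`. -/
theorem trace_lift {a : G} (ha : a ∈ A) (ha1 : a ≠ 1)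
    {K : Subgroup (↥(centralizer ({a} : Set G)) ⧸ Cfsg.oddCore ↥(centralizer ({a} : Set G)))}
    (hK : Cfsg.IsComponent K) {q : ↥(centralizer ({a} : Set G)) ⧸ Cfsg.oddCore ↥(centralizer ({a} : Set G))}
    (hq : q ∈ (bar (S.subtype (c.le_cent ha)) : Subgroup _) ⊓ K) :
    ∃ s, ∃ hs : s ∈ A ⊓ (K.comap (proj a)).map (centralizer ({a} : Set G)).subtype,
      proj a ⟨s, c.le_cent ha (c.leS hs.1)⟩ = q := by
  obtain ⟨s, hs, e⟩ := c.exists_lift ha hq.1 ((c.compNice ha ha1 hK).sq q hq)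
  exact ⟨s, ⟨hs, mem_cov_iff.2 ⟨c.le_cent ha (c.leS hs), e.symm ▸ hq.2⟩⟩, e⟩

theorem proj_trace {a : G} (ha : a ∈ A)
    {K : Subgroup (↥(centralizer ({a} : Set G)) ⧸ Cfsg.oddCore ↥(centralizer ({a} : Set G)))} {s : G}
    (hs : s ∈ A ⊓ (K.comap (proj a)).map (centralizer ({a} : Set G)).subtype) :
    proj a ⟨s, c.le_cent ha (c.leS hs.1)⟩ ∈ (bar (S.subtype (c.le_cent ha)) : Subgroup _) ⊓ K :=
  ⟨c.proj_mem_bar ha (c.leS hs.1), (mem_cov_iff.1 hs.2).2⟩

theorem card_trace {a : G} (ha : a ∈ A) (ha1 : a ≠ 1)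
    {K : Subgroup (↥(centralizer ({a} : Set G)) ⧸ Cfsg.oddCore ↥(centralizer ({a} : Set G)))}
    (hK : Cfsg.IsComponent K) :
    Nat.card ↥(A ⊓ (K.comap (proj a)).map (centralizer ({a} : Set G)).subtype) =
      Nat.card ↥((bar (S.subtype (c.le_cent ha)) : Subgroup _) ⊓ K) :=
  Nat.card_congr (Equiv.ofBijective (fun s => ⟨_, c.proj_trace ha s.2⟩)
    ⟨fun s t e => Subtype.ext (c.proj_inj ha (c.leS s.2.1) (c.leS t.2.1) (congrArg Subtype.val e)),
      fun q => by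
        obtain ⟨s, hs, e⟩ := c.trace_lift ha ha1 hK q.2
        exact ⟨⟨s, hs⟩, Subtype.ext e⟩⟩)

theorem cov_le {a : G} {J : Subgroup G} (hJ : J ∈ covOf a) : oc a ≤ J ∧ J ≤ centralizer ({a} : Set G) := by
  obtain ⟨K, -, rfl⟩ := hJ
  refine ⟨fun x hx => mem_cov_iff.2 ⟨oc_le a hx, ?_⟩, map_subtype_le _⟩
  rw [(mem_oc (oc_le a hx)).1 hx]
  exact one_mem K

theorem cov_conj {a g : G} {J : Subgroup G} (hJ : J ∈ covOf a) :
    MulAut.conj g • J ∈ covOf (g * a * g⁻¹) := by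
  obtain ⟨K, hK, rfl⟩ := hJ
  have hmap : (centralizer ({a} : Set G)).map (MulAut.conj g).toMonoidHom =
      centralizer ({g * a * g⁻¹} : Set G) := by
    ext x
    rw [mem_map_equiv, MulAut.conj_symm_apply, mem_centralizer_singleton_iff, mem_centralizer_singleton_iff]
    constructor
    · intro hy
      calc x * (g * a * g⁻¹) = g * (g⁻¹ * x * g * a) * g⁻¹ := by group
        _ = g * a * g⁻¹ * x := by rw [hy]; group
    · intro hx
      calc g⁻¹ * x * g * a = g⁻¹ * (x * (g * a * g⁻¹)) * g := by group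
        _ = a * (g⁻¹ * x * g) := by rw [hx]; group
  let e : ↥(centralizer ({a} : Set G)) ≃* ↥(centralizer ({g * a * g⁻¹} : Set G)) :=
    ((MulAut.conj g).subgroupMap _).trans (MulEquiv.subgroupCongr hmap)
  let f := QuotientGroup.congr _ _ e (Agent.Cores.map_pPrimeCore_eq e 2)
  refine ⟨K.map f.toMonoidHom, (Components.Basic.isComponent_map_equiv f K).2 hK, ?_⟩
  ext x
  rw [Cfsg.Agent.Walter.mem_conj, mem_cov_iff, mem_cov_iff]
  have hval : ∀ y, (e y : G) = g * y * g⁻¹ := fun y => rfl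
  have hfe : ∀ y, f (proj a y) = proj (g * a * g⁻¹) (e y) := fun y => rfl
  constructor
  · rintro ⟨hx, hx'⟩
    obtain ⟨k, hk, ek⟩ := hx'
    have hy : e (e.symm ⟨x, hx⟩) = ⟨x, hx⟩ := e.apply_symm_apply _
    have hxv : g⁻¹ * x * g = ((e.symm ⟨x, hx⟩ : ↥(centralizer ({a} : Set G))) : G) := by
      have h2 : g * ((e.symm ⟨x, hx⟩ : ↥(centralizer ({a} : Set G))) : G) * g⁻¹ = x :=
        (hval _).symm.trans (congrArg Subtype.val hy)
      conv_lhs => rw [← h2]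
      group
    refine ⟨hxv ▸ (e.symm ⟨x, hx⟩).2, ?_⟩
    have e2 : proj a ⟨g⁻¹ * x * g, hxv ▸ (e.symm ⟨x, hx⟩).2⟩ = k := by
      refine f.injective ?_
      rw [hfe, show f k = f.toMonoidHom k from rfl, ek]
      congr 1
    exact e2 ▸ hk
  · rintro ⟨hx, hx'⟩
    have hxC : x ∈ centralizer ({g * a * g⁻¹} : Set G) := by
      have h2 := (e ⟨g⁻¹ * x * g, hx⟩).2
      rwa [hval, show g * (g⁻¹ * x * g) * g⁻¹ = x by group] at h2
    refine ⟨hxC, proj a ⟨g⁻¹ * x * g, hx⟩, hx', ?_⟩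
    show f _ = _
    rw [hfe]
    congr 1
    exact Subtype.ext (by rw [hval]; group)

theorem bd_iff {a : G} (ha : a ∈ A) {J : Subgroup G} (hJ : J ∈ covOf a) (s : G) :
    s ∈ bdOf A a J ↔ s ∈ A ∧ ∀ j ∈ J, s * j * s⁻¹ * j⁻¹ ∈ oc a := by
  obtain ⟨K, -, rfl⟩ := hJ
  rw [mem_bd_iff]
  refine and_congr_right fun hs => ⟨?_, fun hall => ⟨c.le_cent ha (c.leS hs), mem_centralizer_iff.2 fun q hq => ?_⟩⟩
  · rintro ⟨hsC, hc⟩ j hj
    obtain ⟨hjC, hjK⟩ := mem_cov_iff.1 hj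
    exact (comm_mem_oc hsC hjC).2 (mem_centralizer_iff.1 hc _ hjK).symm
  · obtain ⟨⟨y, hy⟩, rfl⟩ := QuotientGroup.mk'_surjective _ q
    exact ((comm_mem_oc (c.le_cent ha (c.leS hs)) hy).1 (hall y (mem_cov_iff.2 ⟨hy, hq⟩))).symm

theorem self {a : G} (ha : a ∈ A) {J : Subgroup G} (hJ : J ∈ covOf a) : a ∈ bdOf A a J := by
  refine (c.bd_iff ha hJ a).2 ⟨ha, fun j hj => ?_⟩
  have hja := mem_centralizer_singleton_iff.1 ((c.cov_le hJ).2 hj)
  rw [show a * j * a⁻¹ * j⁻¹ = (a * j) * a⁻¹ * j⁻¹ by group, ← hja, mul_inv_cancel_right, mul_inv_cancel]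
  exact one_mem _

theorem disj {a : G} (ha : a ∈ A) {J : Subgroup G} (hJ : J ∈ covOf a) :
    ∀ x ∈ A ⊓ J, x ∈ bdOf A a J → x = 1 := by
  obtain ⟨K, hK, rfl⟩ := hJ
  intro x hx hb
  obtain ⟨hxC, hc⟩ := (mem_bd_iff.1 hb).2
  exact c.proj_inj ha (c.leS hx.1) (one_mem _)
    ((comp_disj (abTwo_quot (c.ab.subgroup _)) core_quot hK (mem_cov_iff.1 hx.2).2 hc).trans (map_one _).symm)

theorem span {a : G} (ha : a ∈ A) (ha1 : a ≠ 1) {J : Subgroup G} (hJ : J ∈ covOf a) :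
    A ≤ (A ⊓ J) ⊔ bdOf A a J := by
  obtain ⟨K, hK, rfl⟩ := hJ
  intro x hx
  obtain ⟨w, hw, d, hd, e⟩ := exists_split (abTwo_quot (c.ab.subgroup _)) core_quot
    (bar (S.subtype (c.le_cent ha))) hK (c.proj_mem_bar ha (c.leS hx))
  obtain ⟨s, hs, es⟩ := c.trace_lift ha ha1 hK hw
  have hd' : s⁻¹ * x ∈ bdOf A a ((K.comap (proj a)).map (centralizer ({a} : Set G)).subtype) := by
    refine mem_bd_iff.2 ⟨mul_mem (inv_mem hs.1) hx,
      mul_mem (inv_mem (c.le_cent ha (c.leS hs.1))) (c.le_cent ha (c.leS hx)), ?_⟩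
    have : proj a ⟨s⁻¹ * x, mul_mem (inv_mem (c.le_cent ha (c.leS hs.1))) (c.le_cent ha (c.leS hx))⟩ = d := by
      show proj a (⟨s, c.le_cent ha (c.leS hs.1)⟩⁻¹ * ⟨x, c.le_cent ha (c.leS hx)⟩) = d
      rw [map_mul, map_inv, es, ← e, inv_mul_cancel_left]
    exact this ▸ hd.2
  have := mul_mem (mem_sup_left (T := bdOf A a ((K.comap (proj a)).map (centralizer ({a} : Set G)).subtype)) hs)
    (mem_sup_right (S := A ⊓ (K.comap (proj a)).map (centralizer ({a} : Set G)).subtype) hd')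
  rwa [mul_inv_cancel_left] at this

theorem four {a : G} (ha : a ∈ A) (ha1 : a ≠ 1) {J : Subgroup G} (hJ : J ∈ covOf a) :
    4 ≤ Nat.card ↥(A ⊓ J) := by
  obtain ⟨K, hK, rfl⟩ := hJ
  rw [c.card_trace ha ha1 hK]
  exact (c.compNice ha ha1 hK).four_le

theorem commute {a : G} {J J' : Subgroup G} (hJ : J ∈ covOf a) (hJ' : J' ∈ covOf a) (hne : J ≠ J') :
    ∀ x ∈ J, ∀ y ∈ J', x * y * x⁻¹ * y⁻¹ ∈ oc a := by
  obtain ⟨K, hK, rfl⟩ := hJ
  obtain ⟨K', hK', rfl⟩ := hJ'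
  intro x hx y hy
  obtain ⟨hxC, hxK⟩ := mem_cov_iff.1 hx
  obtain ⟨hyC, hyK⟩ := mem_cov_iff.1 hy
  refine (comm_mem_oc hxC hyC).2 ?_
  exact (mem_centralizer_iff.1 (commutator_eq_bot_iff_le_centralizer.1
    (Components.Basic.component_commutator_eq_bot_of_ne hK hK' fun e => hne (by rw [e])) hxK) _ hyK).symm

theorem orth {a : G} (ha : a ∈ A) {J J' : Subgroup G} (hJ : J ∈ covOf a) (hJ' : J' ∈ covOf a) (hne : J ≠ J') :
    A ⊓ J ≤ bdOf A a J' := fun x hx =>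
  (c.bd_iff ha hJ' x).2 ⟨hx.1, fun j hj => c.commute hJ hJ' hne x hx.2 j hj⟩

theorem torus {a : G} (ha : a ∈ A) (ha1 : a ≠ 1) {J : Subgroup G} (hJ : J ∈ covOf a) :
    ∀ u ∈ A ⊓ J, u ≠ 1 → ∀ v ∈ A ⊓ J, v ≠ 1 → ∃ n ∈ J ⊓ centralizer (bdOf A a J : Set G),
      n ∈ normalizer ((S : Subgroup G) : Set G) ∧ n * u * n⁻¹ = v := by
  obtain ⟨K, hK, rfl⟩ := hJ
  intro u hu hu1 v hv hv1
  obtain ⟨huC, huK⟩ := mem_cov_iff.1 hu.2
  obtain ⟨hvC, hvK⟩ := mem_cov_iff.1 hv.2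
  obtain ⟨D, -, hDB, hDK, n, hn, hnS, e⟩ := trace_trans (c.ab.subgroup _) (S := S.subtype (c.le_cent ha)) hK
    (c.nice _ (c.proper a ha1) K hK).one (u := ⟨u, huC⟩) (v := ⟨v, hvC⟩)
    ⟨(Sylow.coe_subtype S (c.le_cent ha)).ge (mem_subgroupOf.2 (c.leS hu.1)), huK⟩ (fun e => hu1 (congrArg Subtype.val e))
    ⟨(Sylow.coe_subtype S (c.le_cent ha)).ge (mem_subgroupOf.2 (c.leS hv.1)), hvK⟩ (fun e => hv1 (congrArg Subtype.val e))
  refine ⟨n, ⟨mem_cov_iff.2 ⟨n.2, hDK hn⟩, mem_centralizer_iff.2 fun b hb => ?_⟩, ?_, congrArg Subtype.val e⟩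
  · obtain ⟨hbA, hbC, hbc⟩ := mem_bd_iff.1 hb
    have hbS : (⟨b, hbC⟩ : ↥(centralizer ({a} : Set G))) ∈ (S.subtype (c.le_cent ha) : Subgroup _) := by
      rw [Sylow.coe_subtype, mem_subgroupOf]
      exact c.leS hbA
    exact congrArg Subtype.val (mem_centralizer_iff.1 (hDB hn) ⟨b, hbC⟩ ⟨hbS, hbc⟩)
  · have hSm : ∀ x : ↥(centralizer ({a} : Set G)),
        x ∈ (S.subtype (c.le_cent ha) : Subgroup ↥(centralizer ({a} : Set G))) ↔ (x : G) ∈ (S : Subgroup G) :=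
      fun x => by rw [Sylow.coe_subtype, mem_subgroupOf]
    refine mem_normalizer_iff.2 fun s => ⟨fun hs => ?_, fun hs => ?_⟩
    · exact (hSm _).1 ((mem_normalizer_iff.1 hnS ⟨s, c.le_cent ha hs⟩).1 ((hSm _).2 hs))
    · have hsC : s ∈ centralizer ({a} : Set G) := by
        have := mul_mem (mul_mem (inv_mem n.2) (c.le_cent ha hs)) n.2
        simpa [mul_assoc] using this
      exact (hSm _).1 ((mem_normalizer_iff.1 hnS ⟨s, hsC⟩).2 ((hSm _).2 hs))

theorem lift {a : G} (ha : a ∈ A) {J : Subgroup G} (hJ : J ∈ covOf a) :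
    J ≤ oc a ⊔ (J ⊓ centralizer (bdOf A a J : Set G)) := by
  obtain ⟨K, hK, rfl⟩ := hJ
  intro x hx
  obtain ⟨hxC, hxK⟩ := mem_cov_iff.1 hx
  set B := bdOf A a ((K.comap (proj a)).map (centralizer ({a} : Set G)).subtype) with hB
  obtain ⟨m, hm, e⟩ := lift_centralizer (c.ab.subgroup _) (S.subtype (c.le_cent ha))
    (P := B.subgroupOf (centralizer ({a} : Set G))) (fun b hb => by
      rw [Sylow.coe_subtype, mem_subgroupOf]
      exact c.leS (mem_bd_iff.1 hb).1) (x := ⟨x, hxC⟩) fun b hb => by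
      obtain ⟨-, hbC, hbc⟩ := mem_bd_iff.1 (show (b : G) ∈ B from hb)
      exact (mem_centralizer_iff.1 hbc _ hxK).symm
  have hmJ : (m : G) ∈ (K.comap (proj a)).map (centralizer ({a} : Set G)).subtype :=
    mem_cov_iff.2 ⟨m.2, by rw [Subtype.coe_eta, e]; exact hxK⟩
  have hmB : (m : G) ∈ centralizer (B : Set G) := mem_centralizer_iff.2 fun b hb =>
    congrArg Subtype.val (mem_centralizer_iff.1 hm ⟨b, c.le_cent ha (c.leS (mem_bd_iff.1 hb).1)⟩ hb)
  have ho : x * (m : G)⁻¹ ∈ oc a := (mem_oc (mul_mem hxC (inv_mem m.2))).2 (by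
    show proj a (⟨x, hxC⟩ * m⁻¹) = 1
    rw [map_mul, map_inv, e, mul_inv_cancel])
  have := mul_mem (mem_sup_left (T := (K.comap (proj a)).map (centralizer ({a} : Set G)).subtype ⊓
    centralizer (B : Set G)) ho) (mem_sup_right (S := oc a) ⟨hmJ, hmB⟩)
  rwa [inv_mul_cancel_right] at this

theorem frattini {a : G} (ha : a ∈ A) : centralizer ({a} : Set G) ≤
    oc a ⊔ (⨆ J ∈ covOf a, J) ⊔ (centralizer ({a} : Set G) ⊓ normalizer ((S : Subgroup G) : Set G)) := by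
  intro x hx
  set R := oc a ⊔ (⨆ J ∈ covOf a, J) ⊔ (centralizer ({a} : Set G) ⊓ normalizer ((S : Subgroup G) : Set G)) with hR
  have htop : (R.subgroupOf (centralizer ({a} : Set G))).map (proj a) = ⊤ := by
    refine top_le_iff.1 ((layer_sup_normalizer (abTwo_quot (c.ab.subgroup _)) core_quot
      (bar (S.subtype (c.le_cent ha)))).symm.le.trans (sup_le (Components.Basic.layer_le fun K hK q hq => ?_) ?_))
    · obtain ⟨y, rfl⟩ := QuotientGroup.mk'_surjective _ q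
      refine mem_map_of_mem _ (mem_subgroupOf.2 (mem_sup_left (mem_sup_right ?_)))
      exact mem_iSup_of_mem ((K.comap (proj a)).map (centralizer ({a} : Set G)).subtype)
        (mem_iSup_of_mem ⟨K, hK, rfl⟩ (mem_cov_iff.2 ⟨y.2, hq⟩))
    · intro q hq
      obtain ⟨y, rfl⟩ := QuotientGroup.mk'_surjective _ q
      obtain ⟨n, hn, e⟩ := lift_normalizer (S.subtype (c.le_cent ha)) hq
      refine ⟨n, mem_subgroupOf.2 (mem_sup_right ⟨n.2, mem_normalizer_iff.2 fun s => ⟨fun hs => ?_, fun hs => ?_⟩⟩), e⟩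
      · have h1 := (mem_normalizer_iff.1 hn ⟨s, c.le_cent ha hs⟩).1
          (by rw [Sylow.coe_subtype, mem_subgroupOf]; exact hs)
        rw [Sylow.coe_subtype, mem_subgroupOf] at h1
        exact h1
      · have hsC : s ∈ centralizer ({a} : Set G) := by
          have := mul_mem (mul_mem (inv_mem n.2) (c.le_cent ha hs)) n.2
          simpa [mul_assoc] using this
        have h1 := (mem_normalizer_iff.1 hn ⟨s, hsC⟩).2 (by rw [Sylow.coe_subtype, mem_subgroupOf]; exact hs)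
        rw [Sylow.coe_subtype, mem_subgroupOf] at h1
        exact h1
  obtain ⟨r, hr, e⟩ := htop.ge (mem_top (proj a ⟨x, hx⟩))
  have ho : x * (r : G)⁻¹ ∈ oc a := (mem_oc (mul_mem hx (inv_mem r.2))).2 (by
    show proj a (⟨x, hx⟩ * r⁻¹) = 1
    rw [map_mul, map_inv, e, mul_inv_cancel])
  have := mul_mem (show x * (r : G)⁻¹ ∈ R from mem_sup_left (mem_sup_left ho)) (mem_subgroupOf.1 hr)
  rwa [inv_mul_cancel_right] at this

end Ctx

end Cfsg.Agent.Walter.Core
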