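import Cfsg.Agent.Lib.Walter.Core.ThreeLocal
import Cfsg.Agent.Lib.Hall.NumbersSevenLocal
import Cfsg.Agent.Lib.Coprime.Sylow

/-!
# Tools for balance in rank three

A centraliser of a four subgroup of `S` has a normal 2-complement; `ZJ` in a constrained quotient; counting
lemmas for covering subgroups.
-/

set_option autoImplicit false
set_option linter.unusedSectionVars false
set_option linter.style.haveILetI false

open Subgroup
open scoped Pointwise

namespace Cfsg.Agent.Walter.Core.Three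

open Cfsg.Agent.SEAbelian
open Cfsg.Agent.PLocal

universe u

variable {G : Type u} [Group G] [Finite G]

/-- A subgroup meeting every coset inside `C` has the same relative index. -/
theorem relIndex_eq_of_cover {H M C : Subgroup G} (hM : M ≤ C) (hcov : ∀ c ∈ C, ∃ m ∈ M, m⁻¹ * c ∈ H) :
    H.relIndex M = H.relIndex C := by
  let f := Subgroup.quotientSubgroupOfEmbeddingOfLE H hM
  refine Nat.card_congr (Equiv.ofBijective f ⟨f.injective, fun q => ?_⟩)
  obtain ⟨c, rfl⟩ := QuotientGroup.mk_surjective q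
  obtain ⟨m, hm, hmc⟩ := hcov c c.2
  refine ⟨QuotientGroup.mk ⟨m, hm⟩, ?_⟩
  show (QuotientGroup.mk (inclusion hM ⟨m, hm⟩) : ↥C ⧸ H.subgroupOf C) = QuotientGroup.mk c
  exact QuotientGroup.eq.2 (mem_subgroupOf.2 hmc)

theorem odd_sup {R M : Subgroup G} (hR : Odd (Nat.card ↥R)) (hM : Odd (Nat.card ↥M))
    (hMR : M ≤ normalizer (R : Set G)) : Odd (Nat.card ↥(R ⊔ M)) := by
  set N := normalizer (R : Set G)
  haveI : (R.subgroupOf N).Normal := normal_in_normalizer
  have h1 := Agent.Cores.card_sup_dvd_mul (M.subgroupOf N) (R.subgroupOf N)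
  rw [sup_comm, ← subgroupOf_sup le_normalizer hMR,
    Nat.card_congr (subgroupOfEquivOfLe (sup_le le_normalizer hMR)).toEquiv,
    Nat.card_congr (subgroupOfEquivOfLe hMR).toEquiv,
    Nat.card_congr (subgroupOfEquivOfLe (le_normalizer (H := R))).toEquiv] at h1
  exact (hM.mul hR).of_dvd_nat h1

/-- A `p`-subgroup at least as large as a Sylow subgroup has index prime to `p`. -/
theorem not_dvd_relIndex_of_card {p : ℕ} [Fact p.Prime] {H K : Subgroup G} (hHK : H ≤ K) (hH : IsPGroup p ↥H)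
    (P : Sylow p ↥K) (hle : Nat.card ↥(P : Subgroup ↥K) ≤ Nat.card ↥H) : ¬ p ∣ H.relIndex K := by
  obtain ⟨Q, hQ⟩ := (hH.comap_subtype (K := K)).exists_le_sylow
  have he : H.subgroupOf K = (Q : Subgroup ↥K) := by
    refine eq_of_le_of_card_ge hQ ?_
    rw [Q.card_eq_multiplicity, ← P.card_eq_multiplicity, Nat.card_congr (subgroupOfEquivOfLe hHK).toEquiv]
    exact hle
  show ¬ p ∣ (H.subgroupOf K).index
  rw [he]
  exact Q.not_dvd_index

/-- `Z(J(T))` in a constrained quotient. -/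
theorem zj_frattini_of_constrained {X : Type u} [Group X] [Finite X] {p : ℕ} [Fact p.Prime] (hp2 : p ≠ 2)
    (hab : Quadratic.AbelianTwo X)
    (hc : centralizer (Cfsg.pCore p (X ⧸ Cfsg.pPrimeCore p X) : Set (X ⧸ Cfsg.pPrimeCore p X)) ≤
      Cfsg.pCore p (X ⧸ Cfsg.pPrimeCore p X)) (T : Sylow p X) :
    Cfsg.pPrimeCore p X ⊔ normalizer (Cfsg.centerThompsonOf p (T : Subgroup X) : Set X) = ⊤ := by
  set K := Cfsg.pPrimeCore p X with hK
  set f := QuotientGroup.mk' K with hf
  have hcop : (Nat.card K).Coprime p := Agent.Cores.pPrimeCore_card_coprime p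
  have hinj : Set.InjOn f (T : Subgroup X) := fun u hu v hv he => by
    have h1 : u⁻¹ * v ∈ (T : Subgroup X) ⊓ K :=
      mem_inf.2 ⟨mul_mem (inv_mem hu) hv, QuotientGroup.eq.1 he⟩
    obtain ⟨n, hn⟩ := (T.2.to_le (inf_le_left : (T : Subgroup X) ⊓ K ≤ T)).exists_card_eq
    have hd : Nat.card ↥((T : Subgroup X) ⊓ K) ∣ Nat.card K := card_dvd_of_le inf_le_right
    have hone : Nat.card ↥((T : Subgroup X) ⊓ K) = 1 :=
      Nat.eq_one_of_dvd_coprimes (hcop.pow_right n) hd (hn ▸ dvd_rfl)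
    rw [Subgroup.card_eq_one.1 hone, mem_bot] at h1
    exact inv_mul_eq_one.1 h1
  set Tb := T.mapSurjective (QuotientGroup.mk'_surjective K) with hTb
  have hn : (Cfsg.centerThompsonOf p (Tb : Subgroup (X ⧸ K))).Normal :=
    ZJCenter.centerThompson_normal hp2 hc
      (fun V _ hV => StableNormal.of_abelianTwo hp2
        (hab.of_surjective (QuotientGroup.mk'_surjective K)) V hV) Tb
  set Z := Cfsg.centerThompsonOf p (T : Subgroup X) with hZ
  have hZT : Z ≤ (T : Subgroup X) := inf_le_left.trans (ThompsonComplement.J_le _)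
  have hZmap : Z.map f = Cfsg.centerThompsonOf p (Tb : Subgroup (X ⧸ K)) := by
    rw [hTb, Sylow.coe_mapSurjective, hZ]
    show (ThompsonComplement.Z _).map f = ThompsonComplement.Z _
    rw [ThompsonComplement.map_Z (hinj.mono (ThompsonComplement.J_le _)),
      ThompsonComplement.map_J hinj]
  set P := Z ⊔ K with hP
  have hPn : P.Normal := by
    have := hn.comap f
    rwa [← hZmap, comap_map_eq, QuotientGroup.ker_mk'] at this
  have hZp : IsPGroup p Z := T.2.to_le hZT
  have hidx : ¬ p ∣ (Z.subgroupOf P).index :=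
    Cfsg.Agent.Techniques.Functor.relIndex_sup_coprime hcop (le_normalizer_of_normal)
  have htop := Sylow.normalizer_sup_eq_top ((hZp.comap_subtype (K := P)).toSylow hidx)
  rw [show (((hZp.comap_subtype (K := P)).toSylow hidx : Sylow p P) : Subgroup P).map P.subtype = Z
    from map_subgroupOf_eq_of_le le_sup_left] at htop
  exact top_unique (htop.symm.le.trans (sup_le le_sup_right
    (sup_le (le_sup_of_le_right le_normalizer) le_sup_left)))

/-- A normal subgroup centralising `R`, all whose `p`-subgroups lie in `R`, lies in `R O_{p'}`. -/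
theorem le_sup_pPrimeCore {X : Type u} [Group X] [Finite X] {p : ℕ} [hp : Fact p.Prime] (C R : Subgroup X)
    [C.Normal] (hCR : C ≤ centralizer (R : Set X))
    (hall : ∀ T : Subgroup X, T ≤ C → IsPGroup p ↥T → T ≤ R) : C ≤ R ⊔ Cfsg.pPrimeCore p X := by
  obtain ⟨P⟩ : Nonempty (Sylow p ↥C) := inferInstance
  have hPR : (P : Subgroup ↥C).map C.subtype ≤ R := hall _ (map_subtype_le _) (P.2.map _)
  have hPC : normalizer ((P : Subgroup ↥C) : Set ↥C) ≤ centralizer ((P : Subgroup ↥C) : Set ↥C) :=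
    fun n _ => mem_centralizer_iff.2 fun x hx =>
      Subtype.ext (mem_centralizer_iff.1 (hCR n.2) (x : X) (hPR (mem_map_of_mem C.subtype hx)))
  set φ := MonoidHom.transferSylow P hPC
  have hker : ∀ y : ↥C, (orderOf y).Coprime p → y ∈ φ.ker := fun y hy => by
    obtain ⟨n, hn⟩ := IsPGroup.iff_orderOf.1 P.2 (φ y)
    rw [MonoidHom.mem_ker, ← orderOf_eq_one_iff]
    exact Nat.eq_one_of_dvd_coprimes (hy.pow_right n) (orderOf_map_dvd φ y) (hn ▸ dvd_rfl)
  have hcard : (Nat.card ↥φ.ker).Coprime p :=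
    (hp.out.coprime_iff_not_dvd.2 (MonoidHom.not_dvd_card_ker_transferSylow P hPC)).symm
  haveI : (φ.ker.map C.subtype).Normal := ⟨fun x hx g => by
    obtain ⟨y, hy, rfl⟩ := hx
    have hy' : g * (y : X) * g⁻¹ ∈ C := (inferInstance : C.Normal).conj_mem _ y.2 g
    refine ⟨⟨_, hy'⟩, hker _ ?_, rfl⟩
    rw [← Subgroup.orderOf_coe]
    show (orderOf (MulAut.conj g (y : X))).Coprime p
    rw [(MulAut.conj g).orderOf_eq, Subgroup.orderOf_coe]
    exact hcard.coprime_dvd_left (Subgroup.orderOf_dvd_natCard _ hy)⟩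
  have hK : φ.ker.map C.subtype ≤ Cfsg.pPrimeCore p X :=
    Agent.Cores.le_pPrimeCore (by rwa [Subgroup.card_map_of_injective C.subtype_injective])
  intro x hx
  have htop := (MonoidHom.ker_transferSylow_isComplement' P hPC).sup_eq_top
  obtain ⟨a, ha, b, hb, e⟩ := mem_sup_of_normal_left.1 (htop.ge (mem_top (⟨x, hx⟩ : ↥C)))
  have e' : (a : X) * b = x := congrArg Subtype.val e
  rw [← e']
  exact mul_mem (mem_sup_right (hK (mem_map_of_mem C.subtype ha))) (mem_sup_left (hPR (mem_map_of_mem C.subtype hb)))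

/-- Frattini with a fixed element: an element commuting with `u` splits along a `u`-invariant Sylow subgroup. -/
theorem frattini_fixed {p : ℕ} [Fact p.Prime] {u : G} (hu : u * u = 1) {N : Subgroup G}
    (hN : Odd (Nat.card ↥N)) (huN : u ∈ normalizer (N : Set G)) (P : Sylow p ↥N)
    (huP : u ∈ normalizer (((P : Subgroup ↥N).map N.subtype : Subgroup G) : Set G)) {x : G}
    (hxN : x ∈ normalizer (N : Set G)) (hxu : x * u = u * x) :
    ∃ m ∈ N ⊓ centralizer ({u} : Set G),
      m⁻¹ * x ∈ normalizer (((P : Subgroup ↥N).map N.subtype : Subgroup G) : Set G) := by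
  set R := (P : Subgroup ↥N).map N.subtype with hR
  have hAN : zpowers u ≤ normalizer (N : Set G) := zpowers_le.2 huN
  have hAR : zpowers u ≤ normalizer (R : Set G) := zpowers_le.2 huP
  have hcop : (Nat.card ↥(zpowers u)).Coprime (Nat.card ↥N) := by
    rw [Nat.card_zpowers]
    have : orderOf u ∣ 2 := orderOf_dvd_of_pow_eq_one (by rw [pow_two, hu])
    exact Nat.Coprime.coprime_dvd_left this (Nat.coprime_two_left.2 hN)
  have hAR' : zpowers u ≤ normalizer ((MulAut.conj x • R : Subgroup G) : Set G) := by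
    refine zpowers_le.2 (mem_normalizer_of_conj_le fun z hz => ?_)
    rw [mem_conj] at hz ⊢
    have := conj_le_of_le_normalizer hAR (mem_zpowers u) hz
    have e : x⁻¹ * (u * z * u⁻¹) * x = u * (x⁻¹ * z * x) * u⁻¹ := by
      have h1 : x⁻¹ * u = u * x⁻¹ := by
        rw [inv_mul_eq_iff_eq_mul, ← mul_assoc, hxu, mul_inv_cancel_right]
      have h2 : u⁻¹ * x = x * u⁻¹ := by
        rw [inv_mul_eq_iff_eq_mul, ← mul_assoc, ← hxu, mul_inv_cancel_right]
      calc x⁻¹ * (u * z * u⁻¹) * x = x⁻¹ * u * z * (u⁻¹ * x) := by group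
        _ = u * x⁻¹ * z * (x * u⁻¹) := by rw [h1, h2]
        _ = u * (x⁻¹ * z * x) * u⁻¹ := by group
    rwa [e]
  obtain ⟨k, hk, hke⟩ := Coprime.exists_conj_sylow_map (H := MulAut.conj x • R) (K := N)
    (fun z hz => by
      rw [mem_conj] at hz
      have := (mem_normalizer_iff.1 hxN (x⁻¹ * z * x)).1 (map_subtype_le _ hz)
      simpa [mul_assoc] using this) P
    (by rw [Coprime.card_conj_smul, hR, Subgroup.card_subtype])
  obtain ⟨m, hm, hme⟩ := Coprime.exists_centralizer_conj_eq hAN hcop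
    (Or.inl (Coprime.isSolvable_of_isMulCommutative _)) hAR hAR' hk hke.symm
  refine ⟨m, ⟨hm.1, mem_centralizer_singleton_iff.2
    (mem_centralizer_iff.1 hm.2 u (mem_zpowers u)).symm⟩, ?_⟩
  rw [← Coprime.conj_smul_eq_self_iff, map_mul, mul_smul, ← hme, map_inv, inv_smul_smul]

/-- The centraliser of two involutions of `S`. -/
abbrev ck (u k : G) : Subgroup G := centralizer ({u} : Set G) ⊓ centralizer ({k} : Set G)

section Four

variable {S : Sylow 2 G} {L : G → Subgroup G} (h : ThreeSys S L) {u k : G}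

include h

theorem comm_S {a b : G} (ha : a ∈ (S : Subgroup G)) (hb : b ∈ (S : Subgroup G)) : a * b = b * a :=
  (h.abTwo _ S.2 a ha b hb).eq

theorem orderOf_S {a : G} (ha : a ∈ (S : Subgroup G)) (ha1 : a ≠ 1) : orderOf a = 2 :=
  Involutions.Basic.orderOf_two_iff.2 ⟨h.sq a ha, ha1⟩

theorem inv_S {a : G} (ha : a ∈ (S : Subgroup G)) : a⁻¹ = a := inv_eq_of_mul_eq_one_right (h.sq a ha)

theorem S_le_cent {a : G} (ha : a ∈ (S : Subgroup G)) : (S : Subgroup G) ≤ centralizer ({a} : Set G) :=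
  fun _ hs => mem_centralizer_singleton_iff.2 (comm_S h hs ha)

theorem S_le_ck (hu : u ∈ (S : Subgroup G)) (hk : k ∈ (S : Subgroup G)) : (S : Subgroup G) ≤ ck u k :=
  le_inf (S_le_cent h hu) (S_le_cent h hk)

theorem card_four (hu : u ∈ (S : Subgroup G)) (hu1 : u ≠ 1) (hk : k ∈ (S : Subgroup G)) (hk1 : k ≠ 1)
    (hne : u ≠ k) : Nat.card ↥(zpowers u ⊔ zpowers k) = 4 := by
  rw [Coprime.card_sup_of_disjoint (zpowers_le.2 (centralizer_le_normalizer _ (mem_centralizer_iff.2
    fun x hx => by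
      obtain ⟨i, rfl⟩ := mem_zpowers_iff.1 hx
      exact ((show Commute u k from comm_S h hu hk).zpow_left i).eq))) ?_,
    Nat.card_zpowers, Nat.card_zpowers, orderOf_S h hu hu1, orderOf_S h hk hk1]
  classical
  have hpair : ∀ a : G, a ∈ (S : Subgroup G) → a ≠ 1 → ∀ x ∈ zpowers a, x = 1 ∨ x = a := fun a ha ha1 x hx => by
    rw [mem_zpowers_iff_mem_range_orderOf, orderOf_S h ha ha1] at hx
    simp only [Finset.mem_image, Finset.mem_range] at hx
    obtain ⟨i, hi, rfl⟩ := hx
    interval_cases i <;> simp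
  rw [disjoint_def]
  intro x hx hx'
  rcases hpair u hu hu1 x hx with e | e
  · exact e
  · exact (hpair k hk hk1 x hx').resolve_right fun e' => hne (e.symm.trans e')

/-- A common element of the four subgroup and the trace at `k`. -/
theorem exists_trace (hu : u ∈ (S : Subgroup G)) (hu1 : u ≠ 1) (hk : k ∈ (S : Subgroup G)) (hk1 : k ≠ 1)
    (hne : u ≠ k) : ∃ w ∈ (S : Subgroup G) ⊓ L k, w ≠ 1 ∧
      centralizer ({k} : Set G) ⊓ centralizer ({w} : Set G) = ck u k := by
  have hKS : zpowers u ⊔ zpowers k ≤ (S : Subgroup G) := sup_le (zpowers_le.2 hu) (zpowers_le.2 hk)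
  obtain ⟨w, hw, hwK, hw1⟩ : ∃ w ∈ (S : Subgroup G) ⊓ L k, w ∈ zpowers u ⊔ zpowers k ∧ w ≠ 1 := by
    by_contra hcon
    push Not at hcon
    have := Walter.card_mul_le (inf_le_left : (S : Subgroup G) ⊓ L k ≤ S) hKS fun x hx hx' => hcon x hx hx'
    rw [h.four k hk hk1, card_four h hu hu1 hk hk1 hne, h.card_S] at this
    omega
  have hwk : w ≠ k := fun e => h.not_mem k hk hk1 (e ▸ hw.2)
  have heq : zpowers w ⊔ zpowers k = zpowers u ⊔ zpowers k := by
    refine eq_of_le_of_card_ge (sup_le (zpowers_le.2 hwK) le_sup_right) ?_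
    rw [card_four h hu hu1 hk hk1 hne, card_four h hw.1 hw1 hk hk1 hwk]
  have hswap : ∀ {x a : G}, x ∈ centralizer ({a} : Set G) → a ∈ centralizer ({x} : Set G) := fun {x a} hx =>
    mem_centralizer_singleton_iff.2 (mem_centralizer_singleton_iff.1 hx).symm
  refine ⟨w, hw, hw1, le_antisymm ?_ ?_⟩
  · intro x hx
    have hle : zpowers u ⊔ zpowers k ≤ centralizer ({x} : Set G) :=
      heq ▸ sup_le (zpowers_le.2 (hswap hx.2)) (zpowers_le.2 (hswap hx.1))
    exact mem_inf.2 ⟨hswap (hle (mem_sup_left (mem_zpowers u))), hx.1⟩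
  · intro x hx
    have hle : zpowers u ⊔ zpowers k ≤ centralizer ({x} : Set G) :=
      sup_le (zpowers_le.2 (hswap hx.1)) (zpowers_le.2 (hswap hx.2))
    exact mem_inf.2 ⟨hx.2, hswap (hle hwK)⟩

/-- The centraliser of a four subgroup of `S` is its core times `S`. -/
theorem ck_le (hu : u ∈ (S : Subgroup G)) (hu1 : u ≠ 1) (hk : k ∈ (S : Subgroup G)) (hk1 : k ≠ 1)
    (hne : u ≠ k) : ck u k ≤ coreOf (ck u k) ⊔ (S : Subgroup G) := by
  haveI : Fact (Nat.Prime 2) := ⟨Nat.prime_two⟩
  set C := ck u k with hC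
  have hSC : (S : Subgroup G) ≤ C := S_le_ck h hu hk
  set Sx := S.subtype hSC with hSx
  have hm : ∀ x : ↥C, x ∈ (Sx : Subgroup ↥C) ↔ (x : G) ∈ (S : Subgroup G) := fun x => by
    rw [hSx, Sylow.coe_subtype, mem_subgroupOf]
  set K := zpowers u ⊔ zpowers k
  have hKS : K ≤ (S : Subgroup G) := sup_le (zpowers_le.2 hu) (zpowers_le.2 hk)
  have h2 : 2 * Nat.card ↥K = Nat.card ↥(S : Subgroup G) := by
    rw [card_four h hu hu1 hk hk1 hne, h.card_S]
  have hN : normalizer ((Sx : Subgroup ↥C) : Set ↥C) ≤ centralizer ((Sx : Subgroup ↥C) : Set ↥C) := by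
    refine normalizer_le_centralizer_of_odd (h.abTwo.subgroup C) Sx fun y hy ho s hs => ?_
    set g : G := (y : G) with hg
    have hyK : ∀ z ∈ K, g * z * g⁻¹ = z := by
      have hle : K ≤ centralizer ({g} : Set G) := sup_le
        (zpowers_le.2 (mem_centralizer_singleton_iff.2 (mem_centralizer_singleton_iff.1 y.2.1).symm))
        (zpowers_le.2 (mem_centralizer_singleton_iff.2 (mem_centralizer_singleton_iff.1 y.2.2).symm))
      intro z hz
      rw [← mem_centralizer_singleton_iff.1 (hle hz), mul_inv_cancel_right]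
    have hsS := (hm s).1 hs
    refine Subtype.ext ?_
    show g * (s : G) = (s : G) * g
    by_cases hsK : (s : G) ∈ K
    · exact mul_inv_eq_iff_eq_mul.1 (hyK _ hsK)
    have hysS : g * (s : G) * g⁻¹ ∈ (S : Subgroup G) := (hm _).1 ((mem_normalizer_iff.1 hy s).1 hs)
    have hysK : g * (s : G) * g⁻¹ ∉ K := fun hz => hsK (by
      have := hyK _ hz
      have e : g * (s : G) * g⁻¹ = (s : G) := by
        have e1 : g * (g * (s : G) * g⁻¹) * g⁻¹ = g * (s : G) * g⁻¹ := this
        exact mul_left_cancel (mul_right_cancel e1)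
      rwa [e] at hz)
    set d := g * (s : G) * g⁻¹ * (s : G) with hd
    have hdK : d ∈ K := mul_mem_of_index_two hKS h2 hysS hsS hysK hsK
    have hdd : d * d = 1 := h.sq d (hKS hdK)
    have hgs : g * (s : G) * g⁻¹ = d * (s : G) := by
      rw [hd, mul_assoc (g * (s : G) * g⁻¹), h.sq _ hsS, mul_one]
    have hpow : ∀ n : ℕ, g ^ n * (s : G) * (g ^ n)⁻¹ = d ^ n * (s : G) := by
      intro n
      induction n with
      | zero => simp
      | succ n ih =>
        calc g ^ (n + 1) * (s : G) * (g ^ (n + 1))⁻¹ = g * (g ^ n * (s : G) * (g ^ n)⁻¹) * g⁻¹ := by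
              rw [pow_succ']; group
          _ = g * d ^ n * g⁻¹ * (g * (s : G) * g⁻¹) := by rw [ih]; group
          _ = d ^ (n + 1) * (s : G) := by rw [← conj_pow, hyK d hdK, hgs, ← mul_assoc, ← pow_succ]
    have hord : Odd (orderOf g) := by rw [hg, Subgroup.orderOf_coe]; exact ho
    obtain ⟨m, hm'⟩ := hord
    have hfix := hpow (orderOf g)
    rw [pow_orderOf_eq_one, one_mul, inv_one, mul_one, hm', pow_succ, pow_mul, pow_two, hdd, one_pow,
      one_mul] at hfix
    refine mul_inv_eq_iff_eq_mul.1 ?_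
    rw [hgs, ← hfix]
  have htop := (MonoidHom.ker_transferSylow_isComplement' Sx hN).sup_eq_top
  set φ := MonoidHom.transferSylow Sx hN
  have hker : φ.ker ≤ Cfsg.oddCore ↥C := Agent.Cores.le_oddCore
    (Nat.not_even_iff_odd.1 fun e => MonoidHom.not_dvd_card_ker_transferSylow Sx hN e.two_dvd)
  intro x hx
  obtain ⟨a, ha, b, hb, e⟩ := mem_sup_of_normal_left.1 (htop.ge (mem_top (⟨x, hx⟩ : ↥C)))
  have e' : (a : G) * b = x := congrArg Subtype.val e
  rw [← e']
  exact mul_mem (mem_sup_left ⟨a, hker ha, rfl⟩) (mem_sup_right ((hm b).1 hb))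

/-- An odd normal subgroup of the centraliser lies in its core. -/
theorem oc_inf_le_core (u k : G) : oc u ⊓ centralizer ({k} : Set G) ≤ coreOf (ck u k) := by
  refine le_coreOf (inf_le_inf_right _ (oc_le u)) (fun g hg => mem_normalizer_of_conj_le fun y hy =>
    mem_inf.2 ⟨oc_conj_mem hg.1 (mem_inf.1 hy).1,
      mul_mem (mul_mem (mem_inf.1 hg).2 (mem_inf.1 hy).2) (inv_mem (mem_inf.1 hg).2)⟩)
    ((odd_coreOf _).of_dvd_nat (card_dvd_of_le inf_le_left))

end Four

end Cfsg.Agent.Walter.Core.Three
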