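import Cfsg.Agent.Lib.Walter.Core.ThreeDefs
import Cfsg.Agent.Lib.Walter.Core.Tools
import Cfsg.Agent.Lib.Walter.Core.Layer
import Cfsg.Agent.Lib.Walter.Shape
import Cfsg.Agent.Lib.Walter.Field.Local
import Cfsg.Agent.Lib.EqConjOdd.Tools
import Cfsg.Agent.Lib.SECore.NoBadBasic
import Cfsg.Agent.S0205

/-!
# Rank three: subgroups covering the centraliser of an involution

A proper subgroup `X` through `S` which covers `C(u)` modulo `O(C(u))` has `u` central modulo `O(X)`, or is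
transitive on the involutions of `S`.
-/

set_option autoImplicit false
set_option linter.unusedSectionVars false
set_option linter.style.haveILetI false

open Subgroup

namespace Cfsg.Agent.Walter.Core.Three

open Cfsg.Agent.SEAbelian

universe u

section General

variable {Y : Type u} [Group Y] [Finite Y]

theorem isSolvable_ext (N : Subgroup Y) [N.Normal] (hN : Group.IsSolvable ↥N) (hQ : Group.IsSolvable (Y ⧸ N)) :
    Group.IsSolvable Y :=
  haveI := hN
  haveI := hQ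
  Group.isSolvable_of_ker_le_range N.subtype (QuotientGroup.mk' N)
    (by rw [QuotientGroup.ker_mk', Subgroup.range_subtype])

/-- With a central involution and no factor eight in the order the group is solvable. -/
theorem solvable_of_central_four {s : Y} (hs : orderOf s = 2) (hc : ∀ y : Y, y * s = s * y)
    (h8 : ¬ 8 ∣ Nat.card Y) : Group.IsSolvable Y := by
  haveI : Fact (Nat.Prime 2) := ⟨Nat.prime_two⟩
  set Z := zpowers s with hZ
  haveI : Z.Normal := ⟨fun x hx g => by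
    obtain ⟨k, rfl⟩ := hx
    show g * s ^ k * g⁻¹ ∈ Z
    rw [((show Commute g s from hc g).zpow_right k).eq, mul_inv_cancel_right]
    exact zpow_mem (mem_zpowers s) k⟩
  have hZ2 : Nat.card ↥Z = 2 := by rw [hZ, Nat.card_zpowers, hs]
  have h4 : ¬ 4 ∣ Nat.card (Y ⧸ Z) := fun hd => h8 (by
    rw [card_eq_card_quotient_mul_card_subgroup Z, hZ2]
    exact Nat.mul_dvd_mul hd (dvd_refl 2))
  refine isSolvable_ext Z (Coprime.isSolvable_of_isPGroup (p := 2) (IsPGroup.of_card (n := 1) (by simpa using hZ2))) ?_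
  by_cases h2 : 2 ∣ Nat.card (Y ⧸ Z)
  · obtain ⟨W, hWn, hW, hcard, -⟩ := Field.exists_odd_index_two h2 h4
    haveI := hWn
    refine isSolvable_ext W (S0205.result hW) (Coprime.isSolvable_of_isPGroup (p := 2) (IsPGroup.of_card (n := 1) ?_))
    have h := card_eq_card_quotient_mul_card_subgroup W
    rw [hcard] at h
    rw [pow_one]
    exact (Nat.eq_of_mul_eq_mul_right Nat.card_pos h).symm
  · exact S0205.result (Nat.odd_iff.2 (Nat.two_dvd_ne_zero.1 h2))

/-- An odd subgroup normalised by a subgroup that covers modulo the core lies in the core. -/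
theorem le_coreOf_of_normalized_mod {C N Z : Subgroup Y} (hNC : N ≤ C) (hN : Odd (Nat.card ↥N))
    (hZC : Z ≤ C) (hcov : C ≤ coreOf C ⊔ Z) (hZN : Z ≤ normalizer (N : Set Y)) : N ≤ coreOf C := by
  set f := QuotientGroup.mk' (Cfsg.oddCore ↥C) with hf
  have hsurj : ∀ c : ↥C, ∃ z : ↥C, (z : Y) ∈ Z ∧ f z = f c := fun c => by
    have hle : coreOf C ⊔ Z ≤ ((Z.subgroupOf C ⊔ Cfsg.oddCore ↥C)).map C.subtype := by
      refine sup_le (Subgroup.map_mono le_sup_right) fun z hz => ?_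
      exact ⟨⟨z, hZC hz⟩, mem_sup_left hz, rfl⟩
    obtain ⟨d, hd, he⟩ := hle (hcov c.2)
    obtain rfl : d = c := Subtype.ext he
    obtain ⟨z, hz, o, ho, rfl⟩ := mem_sup_of_normal_right.1 hd
    refine ⟨z, hz, ?_⟩
    rw [map_mul, show f o = 1 from (QuotientGroup.eq_one_iff o).2 ho, mul_one]
  set N' := (N.subgroupOf C).map f with hN'
  haveI : N'.Normal := ⟨fun q hq g => by
    obtain ⟨n, hn, rfl⟩ := hq
    obtain ⟨c, rfl⟩ := QuotientGroup.mk'_surjective _ g
    obtain ⟨z, hz, e⟩ := hsurj c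
    refine ⟨z * n * z⁻¹, ?_, ?_⟩
    · exact (mem_normalizer_iff.1 (hZN hz) (n : Y)).1 hn
    · rw [map_mul, map_mul, map_inv, e]⟩
  have hodd : Odd (Nat.card ↥N') := by
    refine Odd.of_dvd_nat ?_ (Subgroup.card_map_dvd _ _)
    rwa [Nat.card_congr (subgroupOfEquivOfLe hNC).toEquiv]
  have hbot : N' ≤ ⊥ := (Agent.Cores.le_oddCore hodd).trans (Agent.Cores.pPrimeCore_quotient_self 2).le
  intro x hx
  have h1 : f ⟨x, hNC hx⟩ = 1 := mem_bot.1 (hbot (mem_map_of_mem f (mem_subgroupOf.2 hx)))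
  exact ⟨⟨x, hNC hx⟩, (QuotientGroup.eq_one_iff _).1 h1, rfl⟩

/-- The components of a group with elementary Sylow subgroup of order eight and no odd core, next to an
involution with nonsolvable centraliser. -/
theorem comp_cases (h : AbTwo Y) (h0 : Cfsg.oddCore Y = ⊥) (S : Sylow 2 Y)
    (h8 : Nat.card ↥(S : Subgroup Y) = 8) (hone : ∀ K : Subgroup Y, Cfsg.IsComponent K → OneTwoClass ↥K)
    {u : Y} (hu : u ∈ (S : Subgroup Y)) (hu1 : u ≠ 1) (hu2 : ∀ x ∈ (S : Subgroup Y), x * x = 1)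
    (hns : ¬ Group.IsSolvable ↥(centralizer ({u} : Set Y))) :
    ∃ K : Subgroup Y, Cfsg.IsComponent K ∧ K.Normal ∧ ¬ Group.IsSolvable ↥(K ⊓ centralizer ({u} : Set Y)) ∧
      (((S : Subgroup Y) ≤ K ∧ ∀ a ∈ (S : Subgroup Y), a ≠ 1 → ∀ b ∈ (S : Subgroup Y), b ≠ 1 →
        ∃ n ∈ K ⊓ normalizer ((S : Subgroup Y) : Set Y), n * a * n⁻¹ = b) ∨
        (u ∈ center Y ∧ centralizer (K : Set Y) ≤ zpowers u)) := by
  classical
  haveI : Fact (Nat.Prime 2) := ⟨Nat.prime_two⟩
  have hN := Walter.isSolvable_normalizer S fun x hx y hy => (h _ S.2 x hx y hy).eq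
  have htop := layer_sup_normalizer h h0 S
  obtain ⟨K, hK⟩ : ∃ K : Subgroup Y, Cfsg.IsComponent K := by
    by_contra hcon
    push Not at hcon
    have hl : Cfsg.layer Y = ⊥ := le_bot_iff.1 (Components.Basic.layer_le fun K hK => absurd hK (hcon K))
    rw [hl, bot_sup_eq] at htop
    exact hns (Coprime.isSolvable_of_le le_top (htop ▸ hN))
  obtain ⟨hsimp, hncK⟩ := component_simple h h0 hK
  haveI := hsimp
  obtain ⟨P, hP⟩ := exists_sylow_component h h0 S hK
  have hdisjK : ∀ x ∈ K, x ∈ centralizer (K : Set Y) → x = 1 := fun x hx hc => by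
    have h1 : (⟨x, hx⟩ : ↥K) ∈ center ↥K := Subgroup.mem_center_iff.2 fun y =>
      Subtype.ext (mem_centralizer_iff.1 hc y y.2)
    rw [center_eq_bot_of_simple hncK, mem_bot] at h1
    exact congrArg Subtype.val h1
  have hfour : ∀ K' : Subgroup Y, Cfsg.IsComponent K' → 4 ≤ Nat.card ↥((S : Subgroup Y) ⊓ K') := fun K' hK' => by
    obtain ⟨hs', hn'⟩ := component_simple h h0 hK'
    haveI := hs'
    obtain ⟨P', hP'⟩ := exists_sylow_component h h0 S hK'
    have := four_le_sylow hn' (h.subgroup K') P'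
    rwa [← hP', Nat.card_congr (subgroupOfEquivOfLe inf_le_right).toEquiv] at this
  have huniq : ∀ K' : Subgroup Y, Cfsg.IsComponent K' → K' = K := fun K' hK' => by
    by_contra hne
    have hc := commutator_eq_bot_iff_le_centralizer.1
      (Components.Basic.component_commutator_eq_bot_of_ne hK' hK hne)
    have := Walter.card_mul_le (U := (S : Subgroup Y)) (A := (S : Subgroup Y) ⊓ K)
      (B := (S : Subgroup Y) ⊓ K') inf_le_left inf_le_left fun x hx hx' => hdisjK x hx.2 (hc hx'.2)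
    have := hfour K hK
    have := hfour K' hK'
    nlinarith
  have hlayer : Cfsg.layer Y = K := le_antisymm (Components.Basic.layer_le fun K' hK' => (huniq K' hK').le)
    (Components.Basic.le_layer hK)
  have hKn : K.Normal := hlayer ▸ inferInstance
  haveI := hKn
  have hQs : Group.IsSolvable (Y ⧸ K) := by
    haveI := hN
    refine Group.isSolvable_of_surjective
      (f := (QuotientGroup.mk' K).comp (normalizer ((S : Subgroup Y) : Set Y)).subtype) fun q => ?_
    obtain ⟨y, rfl⟩ := QuotientGroup.mk'_surjective K q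
    obtain ⟨k, hk, n, hn, rfl⟩ := mem_sup_of_normal_left.1 (show y ∈ K ⊔ _ from hlayer ▸ htop.ge (mem_top y))
    exact ⟨⟨n, hn⟩, by
      show QuotientGroup.mk' K n = QuotientGroup.mk' K (k * n)
      rw [map_mul, show QuotientGroup.mk' K k = 1 from (QuotientGroup.eq_one_iff k).2 hk, one_mul]⟩
  have hnsK : ¬ Group.IsSolvable ↥(K ⊓ centralizer ({u} : Set Y)) := fun hsol => hns (by
    haveI := hsol
    haveI := hQs
    refine Group.isSolvable_of_ker_le_range (inclusion (inf_le_right : K ⊓ _ ≤ centralizer ({u} : Set Y)))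
      ((QuotientGroup.mk' K).comp (centralizer ({u} : Set Y)).subtype) fun x hx => ?_
    exact ⟨⟨x, (QuotientGroup.eq_one_iff (x : Y)).1 hx, x.2⟩, Subtype.ext rfl⟩)
  refine ⟨K, hK, hKn, hnsK, ?_⟩
  have hcardP : Nat.card ↥((S : Subgroup Y) ⊓ K) = Nat.card ↥(P : Subgroup ↥K) := by
    rw [← hP, Nat.card_congr (subgroupOfEquivOfLe inf_le_right).toEquiv]
  by_cases hSK : (S : Subgroup Y) ≤ K
  · refine Or.inl ⟨hSK, fun a ha ha1 b hb hb1 => ?_⟩
    obtain ⟨k, hk, hkN, e⟩ := component_trans h h0 S hK (hone K hK) ⟨ha, hSK ha⟩ ha1 ⟨hb, hSK hb⟩ hb1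
    exact ⟨k, ⟨hk, hkN⟩, e⟩
  right
  set C := centralizer (K : Set Y) with hC
  haveI : C.Normal := inferInstance
  have hd : ∀ x ∈ (S : Subgroup Y) ⊓ K, x ∈ (S : Subgroup Y) ⊓ C → x = 1 := fun x hx hx' => hdisjK x hx.2 hx'.2
  have hWC := Walter.card_mul_le (U := (S : Subgroup Y)) (inf_le_left : (S : Subgroup Y) ⊓ K ≤ S)
    (inf_le_left : (S : Subgroup Y) ⊓ C ≤ S) hd
  have hW : Nat.card ↥((S : Subgroup Y) ⊓ K) = 4 := by
    have hdvd : Nat.card ↥((S : Subgroup Y) ⊓ K) ∣ 2 ^ 3 :=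
      (Subgroup.card_dvd_of_le (inf_le_left : (S : Subgroup Y) ⊓ K ≤ S)).trans (h8 ▸ dvd_refl _)
    obtain ⟨i, hi, hcard⟩ := (Nat.dvd_prime_pow Nat.prime_two).1 hdvd
    have h4 := hfour K hK
    have hlt : Nat.card ↥((S : Subgroup Y) ⊓ K) ≠ 8 := fun e => hSK (by
      have := eq_of_le_of_card_ge (inf_le_left : (S : Subgroup Y) ⊓ K ≤ S) (by rw [e, h8])
      exact inf_eq_left.1 this)
    interval_cases i <;> omega
  have hC2 : Nat.card ↥((S : Subgroup Y) ⊓ C) = 2 := by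
    have hsurj : Function.Surjective fun p : ↥((S : Subgroup Y) ⊓ K) × ↥((S : Subgroup Y) ⊓ C) =>
        (⟨(p.1 : Y) * p.2, mul_mem p.1.2.1 p.2.2.1⟩ : ↥(S : Subgroup Y)) := fun s => by
      obtain ⟨w, hw, c, hc, e⟩ := exists_split h h0 S hK s.2
      exact ⟨(⟨w, hw⟩, ⟨c, hc⟩), Subtype.ext e⟩
    have := Nat.card_le_card_of_surjective _ hsurj
    rw [Nat.card_prod, h8, hW] at this
    rw [h8, hW] at hWC
    omega
  have hCcard : 2 ∣ Nat.card ↥C ∧ ¬ 4 ∣ Nat.card ↥C := by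
    have hrel : ¬ 2 ∣ ((S : Subgroup Y) ⊓ C).relIndex C := by
      rw [inf_relIndex_right]
      exact fun hd => S.not_dvd_index (hd.trans (Agent.Cores.relIndex_dvd_index_right_normal _ C))
    have hmul : Nat.card ↥C = 2 * ((S : Subgroup Y) ⊓ C).relIndex C := by
      have h' := (((S : Subgroup Y) ⊓ C).subgroupOf C).card_mul_index
      rw [Nat.card_congr (subgroupOfEquivOfLe (inf_le_right : (S : Subgroup Y) ⊓ C ≤ C)).toEquiv, hC2] at h'
      exact h'.symm
    refine ⟨⟨_, hmul⟩, fun h4 => hrel ?_⟩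
    rw [hmul] at h4
    omega
  obtain ⟨M, hMn, hM, hMcard, hMmem⟩ := Field.exists_odd_index_two hCcard.1 hCcard.2
  have hMbot : M = ⊥ := by
    haveI : (M.map C.subtype).Normal := ⟨fun x hx g => by
      obtain ⟨y, hy, rfl⟩ := hx
      have hy' : g * (y : Y) * g⁻¹ ∈ C := (inferInstance : C.Normal).conj_mem _ y.2 g
      refine ⟨⟨_, hy'⟩, hMmem _ ?_, rfl⟩
      rw [← Subgroup.orderOf_coe]
      show Odd (orderOf (g * (y : Y) * g⁻¹))
      rw [show g * (y : Y) * g⁻¹ = MulAut.conj g y from rfl, (MulAut.conj g).orderOf_eq, Subgroup.orderOf_coe]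
      exact odd_orderOf_of_mem hM hy⟩
    refine (Subgroup.map_eq_bot_iff_of_injective M C.subtype_injective).1 (le_bot_iff.1 ?_)
    rw [← h0]
    exact Agent.Cores.le_oddCore (by rwa [Subgroup.card_map_of_injective C.subtype_injective])
  have hCS : (S : Subgroup Y) ⊓ C = C := eq_of_le_of_card_ge inf_le_right (by
    rw [hC2, hMcard, hMbot, card_bot])
  have hCcen : C ≤ center Y := fun x hx => Subgroup.mem_center_iff.2 fun g => by
    by_cases hx1 : x = 1
    · simp [hx1]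
    have hgx : g * x * g⁻¹ ∈ C := (inferInstance : C.Normal).conj_mem x hx g
    have hpair : ∀ z ∈ C, z = 1 ∨ z = x := fun z hz => by
      by_contra hcon
      push Not at hcon
      have hinj : Function.Injective ![(1 : ↥C), ⟨x, hx⟩, ⟨z, hz⟩] := by
        intro i j hij
        have hv := congrArg Subtype.val hij
        fin_cases i <;> fin_cases j <;> first
          | rfl
          | (simp at hv; first
            | exact absurd hv hx1 | exact absurd hv.symm hx1 | exact absurd hv hcon.1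
            | exact absurd hv.symm hcon.1 | exact absurd hv hcon.2 | exact absurd hv.symm hcon.2)
      have h3 := Nat.card_le_card_of_injective _ hinj
      rw [hMcard, hMbot, card_bot] at h3
      simp at h3
    rcases hpair _ hgx with e | e
    · exact absurd (conj_eq_one_iff.1 e) hx1
    · exact mul_inv_eq_iff_eq_mul.1 e
  obtain ⟨w, hw, c, hc, e⟩ := exists_split h h0 S hK hu
  by_cases hw1 : w = 1
  · rw [hw1, one_mul] at e
    subst e
    refine ⟨hCcen hc.2, (eq_of_le_of_card_ge (zpowers_le.2 hc.2) ?_).ge⟩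
    rw [hMcard, hMbot, card_bot, mul_one, Nat.card_zpowers,
      Involutions.Basic.orderOf_two_iff.2 ⟨hu2 c hc.1, hu1⟩]
  exfalso
  apply hnsK
  have hwu : ∀ k ∈ K ⊓ centralizer ({u} : Set Y), k * w = w * k := fun k hk => by
    have h1 : Commute k (w * c) := e ▸ mem_centralizer_singleton_iff.1 hk.2
    have h2 : Commute k c := mem_centralizer_iff.1 hc.2 k hk.1
    have := h1.mul_right h2.inv_right
    rwa [mul_inv_cancel_right] at this
  have hwK : w ∈ K ⊓ centralizer ({u} : Set Y) :=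
    ⟨hw.2, mem_centralizer_singleton_iff.2 (h _ S.2 w hw.1 u hu).eq⟩
  refine solvable_of_central_four (s := (⟨w, hwK⟩ : ↥(K ⊓ centralizer ({u} : Set Y)))) ?_
    (fun k => Subtype.ext (hwu k k.2)) fun hd => ?_
  · rw [← Subgroup.orderOf_coe]
    exact Involutions.Basic.orderOf_two_iff.2 ⟨hu2 w hw.1, hw1⟩
  · have h1 : 2 ^ 3 ∣ Nat.card ↥K := hd.trans (Subgroup.card_dvd_of_le inf_le_left)
    have h2 := (Nat.prime_two.pow_dvd_iff_le_factorization Nat.card_pos.ne').1 h1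
    have h3 := P.card_eq_multiplicity
    rw [← hcardP, hW] at h3
    have : (Nat.card ↥K).factorization 2 = 2 := Nat.pow_right_injective le_rfl h3.symm
    omega

end General

section Cover

variable {G : Type u} [Group G] [Finite G]

/-- `X` covers `C(u)` modulo `O(C(u))`. -/
structure Covers (S : Sylow 2 G) (u : G) (X : Subgroup G) : Prop where
  mem : u ∈ (S : Subgroup G)
  ne : u ≠ 1
  le : (S : Subgroup G) ≤ X
  ne_top : X ≠ ⊤
  cover : centralizer ({u} : Set G) ≤ oc u ⊔ (X ⊓ centralizer ({u} : Set G))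

/-- `X` is transitive on the involutions of `S`. -/
def STrans (S : Sylow 2 G) (X : Subgroup G) : Prop :=
  ∀ a ∈ (S : Subgroup G), a ≠ 1 → ∀ b ∈ (S : Subgroup G), b ≠ 1 →
    ∃ n ∈ X ⊓ normalizer ((S : Subgroup G) : Set G), n * a * n⁻¹ = b

/-- `u` is central modulo `O(X)`. -/
def CentralMod (u : G) (X : Subgroup G) : Prop :=
  X ≤ coreOf X ⊔ (X ⊓ centralizer ({u} : Set G))

theorem coreOf_centralizer (u : G) : coreOf (centralizer ({u} : Set G)) = oc u := rfl

variable {S : Sylow 2 G} {L : G → Subgroup G} {u : G} {X : Subgroup G}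

namespace Covers

variable (hX : Covers S u X)

include hX

/-- The odd part of `X` inside `C(u)` is in the core. -/
theorem core_inf_le : coreOf X ⊓ centralizer ({u} : Set G) ≤ oc u := by
  refine le_coreOf_of_normalized_mod inf_le_right ((odd_coreOf X).of_dvd_nat (card_dvd_of_le inf_le_left))
    inf_le_right hX.cover fun x hx => mem_normalizer_of_conj_le fun y hy =>
    mem_inf.2 ⟨conj_le_of_le_normalizer (le_normalizer_coreOf X) hx.1 hy.1,
      mul_mem (mul_mem (mem_inf.1 hx).2 (mem_inf.1 hy).2) (inv_mem (mem_inf.1 hx).2)⟩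

/-- If `u` is central modulo `O(X)` its core meets `X` in `O(X)`. -/
theorem central_oc_le (hc : CentralMod u X) : oc u ⊓ X ≤ coreOf X := by
  refine le_coreOf_of_normalized_mod inf_le_right ((odd_coreOf _).of_dvd_nat (card_dvd_of_le inf_le_left))
    inf_le_left hc fun x hx => mem_normalizer_of_conj_le fun y hy =>
    mem_inf.2 ⟨oc_conj_mem hx.2 hy.1,
      mul_mem (mul_mem (mem_inf.1 hx).1 (mem_inf.1 hy).2) (inv_mem (mem_inf.1 hx).1)⟩

/-- Elements fixing `u` modulo `O(X)` lift to `C(u)`. -/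
theorem exists_fixed (h : ThreeSys S L) {x : G} (hx : x ∈ X)
    (hxu : x⁻¹ * u * x * u ∈ coreOf X) : ∃ c ∈ coreOf X, x * c ∈ X ⊓ centralizer ({u} : Set G) := by
  obtain ⟨c, hc, hcu⟩ := SECore.exists_fixed_coset (h.sq u hX.mem)
    (le_normalizer_coreOf X (hX.le hX.mem)) (odd_coreOf X) hxu
  exact ⟨c, hc, mul_mem hx (coreOf_le X hc), mem_centralizer_singleton_iff.2 hcu⟩

theorem card_lt : Nat.card ↥X < Nat.card G :=
  lt_of_le_of_ne (Subgroup.card_le_card_group X) fun e => hX.ne_top (Subgroup.eq_top_of_card_eq X e)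

/-- The components of `X / O(X)`. -/
theorem comp_quot (h : ThreeSys S L) :
    ∃ K : Subgroup (↥X ⧸ Cfsg.oddCore ↥X), Cfsg.IsComponent K ∧ K.Normal ∧
      ¬ Group.IsSolvable ↥(K ⊓ centralizer ({QuotientGroup.mk' (Cfsg.oddCore ↥X) ⟨u, hX.le hX.mem⟩} :
        Set (↥X ⧸ Cfsg.oddCore ↥X))) ∧
      ((((S.subtype hX.le : Subgroup ↥X).map (QuotientGroup.mk' (Cfsg.oddCore ↥X)) ≤ K) ∧ STrans S X) ∨
        (CentralMod u X ∧ centralizer (K : Set (↥X ⧸ Cfsg.oddCore ↥X)) ≤
          zpowers (QuotientGroup.mk' (Cfsg.oddCore ↥X) ⟨u, hX.le hX.mem⟩))) := by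
  classical
  haveI : Fact (Nat.Prime 2) := ⟨Nat.prime_two⟩
  set O := Cfsg.oddCore ↥X with hO
  set f := QuotientGroup.mk' O with hf
  have hfs : Function.Surjective f := QuotientGroup.mk'_surjective O
  set Sx := S.subtype hX.le with hSx
  set T := Sx.mapSurjective hfs with hT
  have hTS : (T : Subgroup (↥X ⧸ O)) = (Sx : Subgroup ↥X).map f := Sylow.coe_mapSurjective _ _
  have hSxm : ∀ x : ↥X, x ∈ (Sx : Subgroup ↥X) ↔ (x : G) ∈ (S : Subgroup G) := fun x => by
    rw [hSx, Sylow.coe_subtype, mem_subgroupOf]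
  have hSx2 : ∀ x ∈ (Sx : Subgroup ↥X), x * x = 1 := fun x hx => Subtype.ext (h.sq x ((hSxm x).1 hx))
  have hinj : ∀ x ∈ (Sx : Subgroup ↥X), f x = 1 → x = 1 := fun x hx hx1 => by
    have h1 : Odd (orderOf x) :=
      odd_orderOf_of_mem (X := O) Agent.Cores.oddCore_odd ((QuotientGroup.eq_one_iff x).1 hx1)
    have := mem_of_sq (K := (⊥ : Subgroup ↥X)) h1 (by rw [hSx2 x hx]; exact one_mem _)
    exact mem_bot.1 this
  have hT8 : Nat.card ↥(T : Subgroup (↥X ⧸ O)) = 8 := by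
    have hinj' : Function.Injective (f.subgroupMap (Sx : Subgroup ↥X)) := by
      refine (injective_iff_map_eq_one _).2 fun x hx => Subtype.ext (hinj x x.2 ?_)
      exact congrArg Subtype.val hx
    rw [hTS, ← Nat.card_congr (Equiv.ofBijective _ ⟨hinj', f.subgroupMap_surjective _⟩), hSx,
      Sylow.coe_subtype, Nat.card_congr (subgroupOfEquivOfLe hX.le).toEquiv, h.card_S]
  have hab : AbTwo (↥X ⧸ O) := (h.abTwo.subgroup X).map hfs
  have h0 : Cfsg.oddCore (↥X ⧸ O) = ⊥ := Agent.Cores.pPrimeCore_quotient_self 2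
  have hone : ∀ K : Subgroup (↥X ⧸ O), Cfsg.IsComponent K → OneTwoClass ↥K := fun K hK => by
    obtain ⟨hs, hn⟩ := component_simple hab h0 hK
    haveI := hs
    refine oneTwoClass_of_listed hn (hab.subgroup K) (h.listed ↥K hs hn (hab.subgroup K) ?_)
    exact lt_of_le_of_lt ((Subgroup.card_le_card_group K).trans (Nat.card_le_card_of_surjective _ hfs))
      hX.card_lt
  set ux : ↥X := ⟨u, hX.le hX.mem⟩
  have huT : f ux ∈ (T : Subgroup (↥X ⧸ O)) := hTS ▸ mem_map_of_mem f ((hSxm ux).2 hX.mem)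
  have hsq : ∀ x ∈ (T : Subgroup (↥X ⧸ O)), x * x = 1 := fun x hx => by
    rw [hTS] at hx
    obtain ⟨y, hy, rfl⟩ := hx
    rw [← map_mul, hSx2 y hy, map_one]
  have hns : ¬ Group.IsSolvable ↥(centralizer ({f ux} : Set (↥X ⧸ O))) := fun hsol => by
    apply h.nonsolv u hX.mem hX.ne
    set Z := (X ⊓ centralizer ({u} : Set G)).subgroupOf X with hZ
    have hZm : Z.map f ≤ centralizer ({f ux} : Set (↥X ⧸ O)) := by
      rintro _ ⟨z, hz, rfl⟩
      refine mem_centralizer_singleton_iff.2 ?_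
      rw [← map_mul, ← map_mul]
      exact congrArg f (Subtype.ext (mem_centralizer_singleton_iff.1 hz.2))
    haveI hZf : Group.IsSolvable ↥(Z.map f) := Coprime.isSolvable_of_le hZm hsol
    haveI : Group.IsSolvable ↥O := S0205.result Agent.Cores.oddCore_odd
    haveI hZs : Group.IsSolvable ↥Z := by
      haveI : Group.IsSolvable ↥(O ⊓ Z) := Coprime.isSolvable_of_le inf_le_left inferInstance
      refine Group.isSolvable_of_ker_le_range (inclusion (inf_le_right : O ⊓ Z ≤ Z)) (f.subgroupMap Z) ?_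
      intro x hx
      exact ⟨⟨x, (QuotientGroup.eq_one_iff (x : ↥X)).1 (congrArg Subtype.val hx), x.2⟩, Subtype.ext rfl⟩
    haveI : Group.IsSolvable ↥(X ⊓ centralizer ({u} : Set G)) :=
      Group.isSolvable_of_surjective (f := (subgroupOfEquivOfLe (inf_le_left : X ⊓ centralizer ({u} : Set G) ≤ X)
        ).toMonoidHom) (MulEquiv.surjective _)
    set C := centralizer ({u} : Set G)
    set g := QuotientGroup.mk' (Cfsg.oddCore ↥C)
    refine isSolvable_ext (Cfsg.oddCore ↥C) (S0205.result Agent.Cores.oddCore_odd) ?_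
    refine Group.isSolvable_of_surjective (f := g.comp (inclusion (inf_le_right : X ⊓ C ≤ C))) fun q => ?_
    obtain ⟨c, rfl⟩ := QuotientGroup.mk'_surjective _ q
    have hle : oc u ⊔ (X ⊓ C) ≤ (((X ⊓ C).subgroupOf C) ⊔ Cfsg.oddCore ↥C).map C.subtype :=
      sup_le (Subgroup.map_mono le_sup_right) fun z hz => ⟨⟨z, hz.2⟩, mem_sup_left hz, rfl⟩
    obtain ⟨d, hd, he⟩ := hle (hX.cover c.2)
    obtain rfl : d = c := Subtype.ext he
    obtain ⟨z, hz, o, ho, rfl⟩ := mem_sup_of_normal_right.1 hd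
    refine ⟨⟨z, hz⟩, ?_⟩
    show g z = g (z * o)
    rw [map_mul, show g o = 1 from (QuotientGroup.eq_one_iff o).2 ho, mul_one]
  obtain ⟨K, hK, hKn, hnsK, hcase⟩ := comp_cases hab h0 T hT8 hone huT
    (fun e => hX.ne (congrArg Subtype.val (hinj ux ((hSxm ux).2 hX.mem) e))) hsq hns
  refine ⟨K, hK, hKn, hnsK, ?_⟩
  rcases hcase with ⟨hle, htr⟩ | ⟨hcen, hcK⟩
  · refine Or.inl ⟨hTS ▸ hle, fun a ha ha1 b hb hb1 => ?_⟩
    have hmem : ∀ s (hs : s ∈ (S : Subgroup G)), f ⟨s, hX.le hs⟩ ∈ (T : Subgroup (↥X ⧸ O)) := fun s hs =>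
      hTS ▸ mem_map_of_mem f ((hSxm _).2 hs)
    have hne : ∀ s (hs : s ∈ (S : Subgroup G)), s ≠ 1 → f ⟨s, hX.le hs⟩ ≠ 1 := fun s hs hs1 e =>
      hs1 (congrArg Subtype.val (hinj _ ((hSxm _).2 hs) e))
    obtain ⟨y, hy, e⟩ := htr _ (hmem a ha) (hne a ha ha1) _ (hmem b hb) (hne b hb hb1)
    obtain ⟨n, hn, rfl⟩ := EqConjOdd.exists_normalizer_lift f hfs Sx (hTS ▸ hy.2)
    have hnS : ∀ s ∈ (S : Subgroup G), (n : G) * s * (n : G)⁻¹ ∈ (S : Subgroup G) := fun s hs =>
      (hSxm _).1 ((mem_normalizer_iff.1 hn ⟨s, hX.le hs⟩).1 ((hSxm _).2 hs))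
    refine ⟨n, ⟨n.2, mem_normalizer_of_conj_le hnS⟩, ?_⟩
    rw [← map_inv, ← map_mul, ← map_mul] at e
    have h1 : n * ⟨a, hX.le ha⟩ * n⁻¹ * (⟨b, hX.le hb⟩ : ↥X)⁻¹ = 1 :=
      hinj _ ((hSxm _).2 (mul_mem (hnS a ha) (inv_mem hb))) (by rw [map_mul, map_inv f ⟨b, hX.le hb⟩, e, mul_inv_cancel])
    exact congrArg Subtype.val (mul_inv_eq_one.1 h1)
  · refine Or.inr ⟨fun x hx => ?_, hcK⟩
    have hux : x⁻¹ * u * x * u ∈ coreOf X := by
      refine ⟨(⟨x, hx⟩ : ↥X)⁻¹ * ux * ⟨x, hx⟩ * ux, (QuotientGroup.eq_one_iff _).1 ?_, rfl⟩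
      show f ((⟨x, hx⟩ : ↥X)⁻¹ * ux * ⟨x, hx⟩ * ux) = 1
      rw [map_mul, map_mul, map_mul, map_inv, mul_assoc (f ⟨x, hx⟩)⁻¹ (f ux), ← Subgroup.mem_center_iff.1 hcen,
        inv_mul_cancel_left]
      exact hsq _ huT
    obtain ⟨c, hc, hxc⟩ := hX.exists_fixed h hx hux
    have h1 : c⁻¹ ∈ coreOf X ⊔ (X ⊓ centralizer ({u} : Set G)) := mem_sup_left (inv_mem hc)
    have h2 := mul_mem (mem_sup_right (S := coreOf X) hxc) h1
    rwa [mul_inv_cancel_right] at h2

/-- The dichotomy. -/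
theorem dicho (h : ThreeSys S L) : CentralMod u X ∨ STrans S X := by
  obtain ⟨K, -, -, -, ⟨-, hc⟩ | ⟨hc, -⟩⟩ := hX.comp_quot h
  · exact Or.inr hc
  · exact Or.inl hc

/-- A transitive `X` covers every centraliser. -/
theorem of_trans (hT : STrans S X) {k : G} (hk : k ∈ (S : Subgroup G)) (hk1 : k ≠ 1) : Covers S k X := by
  refine ⟨hk, hk1, hX.le, hX.ne_top, fun g hg => ?_⟩
  obtain ⟨n, hn, rfl⟩ := hT u hX.mem hX.ne k hk hk1
  have hg' : n⁻¹ * g * n ∈ centralizer ({u} : Set G) := by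
    refine mem_centralizer_singleton_iff.2 ?_
    have h1 := mem_centralizer_singleton_iff.1 hg
    calc n⁻¹ * g * n * u = n⁻¹ * (g * (n * u * n⁻¹)) * n := by group
      _ = n⁻¹ * (n * u * n⁻¹ * g) * n := by rw [h1]
      _ = u * (n⁻¹ * g * n) := by group
  have hle : (oc u ⊔ (X ⊓ centralizer ({u} : Set G))).map (MulAut.conj n).toMonoidHom ≤
      oc (n * u * n⁻¹) ⊔ (X ⊓ centralizer ({n * u * n⁻¹} : Set G)) := by
    rw [Subgroup.map_sup]
    refine sup_le_sup ?_ ?_
    · rintro _ ⟨o, ho, rfl⟩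
      exact conj_mem_oc ho
    · rintro _ ⟨x, hx, rfl⟩
      refine mem_inf.2 ⟨mul_mem (mul_mem (mem_inf.1 hn).1 (mem_inf.1 hx).1) (inv_mem (mem_inf.1 hn).1),
        mem_centralizer_singleton_iff.2 ?_⟩
      show n * x * n⁻¹ * (n * u * n⁻¹) = n * u * n⁻¹ * (n * x * n⁻¹)
      calc n * x * n⁻¹ * (n * u * n⁻¹) = n * (x * u) * n⁻¹ := by group
        _ = n * (u * x) * n⁻¹ := by rw [mem_centralizer_singleton_iff.1 hx.2]
        _ = n * u * n⁻¹ * (n * x * n⁻¹) := by group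
  have := hle (mem_map_of_mem (MulAut.conj n).toMonoidHom (hX.cover hg'))
  rwa [show (MulAut.conj n).toMonoidHom (n⁻¹ * g * n) = g by
    show n * (n⁻¹ * g * n) * n⁻¹ = g
    group] at this

/-- Modulo `O(X)` the core of `C(u)` is centralised by `S`. -/
theorem comm_mem (h : ThreeSys S L) {y : G} (hy : y ∈ oc u ⊓ X) {s : G} (hs : s ∈ (S : Subgroup G)) :
    y * s * y⁻¹ * s⁻¹ ∈ coreOf X := by
  classical
  haveI : Fact (Nat.Prime 2) := ⟨Nat.prime_two⟩
  obtain ⟨K, hK, hKn, hnsK, ⟨hle, -⟩ | ⟨hc, -⟩⟩ := hX.comp_quot h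
  case inr =>
    have h1 := hX.central_oc_le hc hy
    rw [show y * s * y⁻¹ * s⁻¹ = y * (s * y⁻¹ * s⁻¹) by group]
    exact mul_mem h1 (conj_le_of_le_normalizer (le_normalizer_coreOf X) (hX.le hs) (inv_mem h1))
  haveI := hKn
  set O := Cfsg.oddCore ↥X
  set f := QuotientGroup.mk' O with hf
  set ux : ↥X := ⟨u, hX.le hX.mem⟩
  have hab : AbTwo (↥X ⧸ O) := (h.abTwo.subgroup X).map (QuotientGroup.mk'_surjective O)
  obtain ⟨hsimp, hncK⟩ := component_simple hab (Agent.Cores.pPrimeCore_quotient_self 2) hK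
  have hsK : ∀ s (hs : s ∈ (S : Subgroup G)), f ⟨s, hX.le hs⟩ ∈ K := fun s hs =>
    hle (mem_map_of_mem f (by rw [Sylow.coe_subtype, mem_subgroupOf]; exact hs))
  -- the core of the component centraliser is trivial
  set uk : ↥K := ⟨f ux, hsK u hX.mem⟩ with huk
  have hinjS : ∀ s (hs : s ∈ (S : Subgroup G)), f ⟨s, hX.le hs⟩ = 1 → s = 1 := fun s hs e => by
    have h1 : Odd (orderOf (⟨s, hX.le hs⟩ : ↥X)) :=
      odd_orderOf_of_mem (X := O) Agent.Cores.oddCore_odd ((QuotientGroup.eq_one_iff _).1 e)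
    rw [← Subgroup.orderOf_coe] at h1
    exact mem_bot.1 (mem_of_sq (K := (⊥ : Subgroup G)) h1 (by rw [h.sq s hs]; exact one_mem _))
  have huk2 : orderOf uk = 2 := Involutions.Basic.orderOf_two_iff.2
    ⟨Subtype.ext (by
      show f ux * f ux = 1
      rw [← map_mul, show ux * ux = 1 from Subtype.ext (h.sq u hX.mem), map_one]),
    fun e => hX.ne (hinjS u hX.mem (congrArg Subtype.val e))⟩
  have hsylK : ∀ P : Sylow 2 ↥K, Nat.card ↥(P : Subgroup ↥K) = 8 := fun P => by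
    obtain ⟨Q, hQ⟩ := exists_sylow_component hab (Agent.Cores.pPrimeCore_quotient_self 2)
      ((S.subtype hX.le).mapSurjective (QuotientGroup.mk'_surjective O)) hK
    have hQ8 : Nat.card ↥(Q : Subgroup ↥K) = 8 := by
      rw [← hQ, Nat.card_congr (subgroupOfEquivOfLe inf_le_right).toEquiv, Sylow.coe_mapSurjective,
        inf_eq_left.2 hle]
      have hinj' : Function.Injective (f.subgroupMap (S.subtype hX.le : Subgroup ↥X)) := by
        refine (injective_iff_map_eq_one _).2 fun x hx => Subtype.ext (Subtype.ext ?_)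
        exact hinjS (x : ↥X) (mem_subgroupOf.1 (by simpa only [Sylow.coe_subtype] using x.2))
          (congrArg Subtype.val hx)
      rw [← Nat.card_congr (Equiv.ofBijective _ ⟨hinj', f.subgroupMap_surjective _⟩), Sylow.coe_subtype,
        Nat.card_congr (subgroupOfEquivOfLe hX.le).toEquiv, h.card_S]
    rwa [P.card_eq_multiplicity, ← Q.card_eq_multiplicity]
  have hnsuk : ¬ Group.IsSolvable ↥(centralizer ({uk} : Set ↥K)) := fun hsol => hnsK (by
    haveI := hsol
    let ψ : ↥(centralizer ({uk} : Set ↥K)) →* ↥(K ⊓ centralizer ({f ux} : Set (↥X ⧸ O))) :=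
      MonoidHom.mk' (fun x => ⟨((x : ↥K) : ↥X ⧸ O), (x : ↥K).2, mem_centralizer_singleton_iff.2
        (congrArg Subtype.val (mem_centralizer_singleton_iff.1 x.2))⟩) fun _ _ => rfl
    refine Group.isSolvable_of_surjective (f := ψ) fun x => ?_
    exact ⟨⟨⟨x, x.2.1⟩, mem_centralizer_singleton_iff.2
      (Subtype.ext (mem_centralizer_singleton_iff.1 x.2.2))⟩, rfl⟩)
  have hcoreK := h.below ↥K hsimp hncK (hab.subgroup K)
    (lt_of_le_of_lt ((Subgroup.card_le_card_group K).trans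
      (Nat.card_le_card_of_surjective _ (QuotientGroup.mk'_surjective O))) hX.card_lt)
    hsylK ⟨uk, huk2, hnsuk⟩ uk huk2
  -- the image of the core
  set Y := ((oc u ⊓ X).subgroupOf X).map f with hY
  set Z := (X ⊓ centralizer ({u} : Set G)).subgroupOf X with hZ
  have hYodd : Odd (Nat.card ↥Y) := by
    refine Odd.of_dvd_nat ?_ (Subgroup.card_map_dvd _ _)
    rw [Nat.card_congr (subgroupOfEquivOfLe inf_le_right).toEquiv]
    exact (odd_coreOf _).of_dvd_nat (card_dvd_of_le inf_le_left)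
  have hZY : Z.map f ≤ normalizer (Y : Set (↥X ⧸ O)) := by
    rintro _ ⟨z, hz, rfl⟩
    refine mem_normalizer_of_conj_le ?_
    rintro _ ⟨w, hw, rfl⟩
    refine ⟨z * w * z⁻¹, ⟨oc_conj_mem hz.2 hw.1, (z * w * z⁻¹).2⟩, ?_⟩
    rw [map_mul, map_mul, map_inv]
  have hlift : ∀ q ∈ centralizer ({f ux} : Set (↥X ⧸ O)), q ∈ Z.map f := fun q hq => by
    obtain ⟨x, rfl⟩ := QuotientGroup.mk'_surjective O q
    have hux : (x : G)⁻¹ * u * x * u ∈ coreOf X := by
      refine ⟨x⁻¹ * ux * x * ux, (QuotientGroup.eq_one_iff _).1 ?_, rfl⟩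
      show f (x⁻¹ * ux * x * ux) = 1
      rw [map_mul, map_mul, map_mul, map_inv, mul_assoc (f x)⁻¹ (f ux), ← mem_centralizer_singleton_iff.1 hq,
        inv_mul_cancel_left, ← map_mul, show ux * ux = 1 from Subtype.ext (h.sq u hX.mem), map_one]
    obtain ⟨c, hc, hxc⟩ := hX.exists_fixed h x.2 hux
    obtain ⟨o, ho, rfl⟩ := hc
    refine ⟨x * o, hxc, ?_⟩
    rw [map_mul, show f o = 1 from (QuotientGroup.eq_one_iff o).2 ho, mul_one]
  set N := (Y ⊓ K).subgroupOf K with hN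
  have hNC : N ⊓ centralizer ({uk} : Set ↥K) ≤ coreOf (centralizer ({uk} : Set ↥K)) := by
    refine le_coreOf inf_le_right (fun g hg => mem_normalizer_of_conj_le fun n hn => mem_inf.2 ⟨?_, ?_⟩) ?_
    · have hg' : (g : ↥X ⧸ O) ∈ centralizer ({f ux} : Set (↥X ⧸ O)) :=
        mem_centralizer_singleton_iff.2 (congrArg Subtype.val (mem_centralizer_singleton_iff.1 hg))
      exact ⟨conj_le_of_le_normalizer hZY (hlift _ hg') hn.1.1, hKn.conj_mem _ hn.1.2 _⟩
    · exact mul_mem (mul_mem hg (mem_inf.1 hn).2) (inv_mem hg)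
    · refine Odd.of_dvd_nat ?_ (card_dvd_of_le inf_le_left)
      rw [Nat.card_congr (subgroupOfEquivOfLe inf_le_right).toEquiv]
      exact hYodd.of_dvd_nat (card_dvd_of_le inf_le_left)
  have hbot : coreOf (centralizer ({uk} : Set ↥K)) = ⊥ := by
    rw [coreOf, hcoreK, Subgroup.map_bot]
  set sx : ↥X := ⟨s, hX.le hs⟩
  set yx : ↥X := ⟨y, hy.2⟩
  have hsZ : sx ∈ Z := ⟨hX.le hs, mem_centralizer_singleton_iff.2 (h.abTwo _ S.2 s hs u hX.mem).eq⟩
  have hzY : f (yx * sx * yx⁻¹ * sx⁻¹) ∈ Y := by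
    rw [show yx * sx * yx⁻¹ * sx⁻¹ = yx * (sx * yx⁻¹ * sx⁻¹) by group, map_mul, map_mul, map_mul, map_inv,
      map_inv]
    refine mul_mem (mem_map_of_mem f hy) ?_
    exact conj_le_of_le_normalizer hZY (mem_map_of_mem f hsZ) (inv_mem (mem_map_of_mem f hy))
  have hzK : f (yx * sx * yx⁻¹ * sx⁻¹) ∈ K := by
    rw [map_mul, map_mul, map_mul, map_inv, map_inv]
    exact mul_mem (hKn.conj_mem _ (hsK s hs) _) (inv_mem (hsK s hs))
  have hzC : (⟨f (yx * sx * yx⁻¹ * sx⁻¹), hzK⟩ : ↥K) ∈ centralizer ({uk} : Set ↥K) := by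
    refine mem_centralizer_singleton_iff.2 (Subtype.ext ?_)
    show f _ * f ux = f ux * f _
    rw [← map_mul, ← map_mul]
    refine congrArg f (Subtype.ext ?_)
    have hyu : Commute y u := mem_centralizer_singleton_iff.1 (oc_le u hy.1)
    have hsu : Commute s u := mem_centralizer_singleton_iff.1 hsZ.2
    exact (((hyu.mul_left hsu).mul_left hyu.inv_left).mul_left hsu.inv_left).eq
  have := hNC ⟨⟨hzY, hzK⟩, hzC⟩
  rw [hbot, mem_bot] at this
  refine ⟨yx * sx * yx⁻¹ * sx⁻¹, (QuotientGroup.eq_one_iff _).1 ?_, rfl⟩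
  exact congrArg Subtype.val this

end Covers

end Cover

end Cfsg.Agent.Walter.Core.Three
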